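import Cfsg.Agent.Comp.Sig
import Cfsg.Agent.S0028
import Cfsg.Agent.PLoc.Replace

/-! Baer's trick and the Thompson–Bender lemma. -/

set_option autoImplicit false

namespace Cfsg.Agent.Comp

open Subgroup
open scoped commutatorElement Pointwise IsMulCommutative

/-- data for Baer's trick: class at most two and square roots -/
class BaerData (H : Type*) [Group H] where
  m : ℕ
  cen : ∀ x y : H, ⁅x, y⁆ ∈ center H
  sq : ∀ x : H, (x ^ m) ^ 2 = x

/-- Baer's abelian group -/
@[ext] structure Baer (H : Type*) where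
  /-- underlying element -/
  val : H

namespace Baer

variable {H : Type*} [Group H] [d : BaerData H]

/-- the commutator as an element of the centre -/
def cm (x y : H) : center H := ⟨⁅x, y⁆, d.cen x y⟩

omit d in
theorem mul_cen (x y : H) (z : center H) : x * z * y = x * y * z := by
  rw [mul_assoc, mul_assoc, mem_center_iff.1 z.2 y]

theorem cm_mul_left (x y z : H) : cm (x * y) z = cm x z * cm y z := by
  rw [mul_comm]
  apply Subtype.ext
  change ⁅x * y, z⁆ = ⁅y, z⁆ * ⁅x, z⁆
  have : ⁅x * y, z⁆ = x * ⁅y, z⁆ * x⁻¹ * ⁅x, z⁆ := by simp only [commutatorElement_def]; group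
  rw [this, mem_center_iff.1 (d.cen y z) x]; group

theorem cm_inv (x y : H) : (cm x y)⁻¹ = cm y x := Subtype.ext (commutatorElement_inv x y)

theorem cm_mul_right (x y z : H) : cm z (x * y) = cm z x * cm z y := by
  rw [← cm_inv, cm_mul_left, mul_inv, cm_inv, cm_inv]

theorem cm_of_commute {x y : H} (h : Commute x y) : cm x y = 1 :=
  Subtype.ext (commutatorElement_eq_one_iff_commute.2 h)

theorem cm_cen_left (z : center H) (y : H) : cm (z : H) y = 1 :=
  cm_of_commute (mem_center_iff.1 z.2 y).symm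

theorem cm_cen_right (z : center H) (y : H) : cm y (z : H) = 1 :=
  cm_of_commute (mem_center_iff.1 z.2 y)

/-- the Baer product -/
def bmul (x y : H) : H := x * y * (cm y x ^ d.m : center H)

theorem bmul_of_commute {x y : H} (h : Commute x y) : bmul x y = x * y := by
  simp [bmul, cm_of_commute h.symm]

theorem bmul_assoc (x y z : H) : bmul (bmul x y) z = bmul x (bmul y z) := by
  simp only [bmul, cm_mul_left, cm_mul_right, cm_cen_left, cm_cen_right, mul_one]
  rw [mul_cen (x * y), mul_assoc (x * y * z), ← mul_assoc x, ← mul_assoc x, mul_assoc (x * y * z),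
    ← coe_mul, ← coe_mul, mul_pow, mul_pow]
  congr 2
  generalize cm z x ^ _ = a, cm z y ^ _ = b, cm y x ^ _ = c
  simp only [mul_comm, mul_left_comm]

theorem bmul_comm (x y : H) : bmul x y = bmul y x := by
  have h1 : y * x = x * y * (cm y x : center H) := by
    rw [← mul_cen, mul_assoc, ← mem_center_iff.1 (cm y x).2 y, ← mul_assoc,
      mem_center_iff.1 (cm y x).2]
    simp only [cm, commutatorElement_def]; group
  have h2 : (cm y x ^ d.m) ^ 2 = cm y x := Subtype.ext (d.sq _)
  simp only [bmul]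
  rw [h1, mul_assoc (x * y), ← coe_mul, ← cm_inv y x, inv_pow]
  congr 2
  rw [eq_mul_inv_iff_mul_eq, ← sq, h2]

instance instMulBaer : Mul (Baer H) := ⟨fun x y => ⟨bmul x.val y.val⟩⟩
instance instOneBaer : One (Baer H) := ⟨⟨1⟩⟩
instance instInvBaer : Inv (Baer H) := ⟨fun x => ⟨x.val⁻¹⟩⟩

instance instCommGroupBaer : CommGroup (Baer H) where
  mul_assoc _ _ _ := Baer.ext (bmul_assoc _ _ _)
  one_mul x := Baer.ext ((bmul_of_commute (Commute.one_left x.val)).trans (one_mul _))
  mul_one x := Baer.ext ((bmul_of_commute (Commute.one_right x.val)).trans (mul_one _))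
  inv_mul_cancel x :=
    Baer.ext ((bmul_of_commute (Commute.refl x.val).inv_left).trans (inv_mul_cancel _))
  mul_comm _ _ := Baer.ext (bmul_comm _ _)

/-- the identity map -/
def eqv (H : Type*) : Baer H ≃ H := ⟨val, mk, fun _ => rfl, fun _ => rfl⟩

theorem val_mul (x y : Baer H) : (x * y).val = bmul x.val y.val := rfl

theorem val_pow (x : Baer H) (n : ℕ) : (x ^ n).val = x.val ^ n := by
  induction n with
  | zero => rw [pow_zero, pow_zero]; rfl
  | succ n ih => rw [pow_succ, val_mul, ih, bmul_of_commute (Commute.pow_self _ n), pow_succ]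

/-- endomorphisms act on the Baer group -/
def bmap (φ : H →* H) : Baer H →* Baer H where
  toFun x := ⟨φ x.val⟩
  map_one' := Baer.ext φ.map_one
  map_mul' x y := Baer.ext (by simp [val_mul, bmul, cm, map_commutatorElement])

end Baer

open Baer in
theorem baer_fixed {p : ℕ} [hp : Fact p.Prime] (h2 : p ≠ 2) {H : Type*} [Group H] [Finite H]
    (hH : IsPGroup p H) (hc : ∀ x y : H, ⁅x, y⁆ ∈ center H) {L : Type*} [Group L] [Finite L]
    (φ : L →* MulAut H) {K A : Subgroup L} (hK : (Nat.card K).Coprime p) (hA : IsPGroup p A)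
    (hAK : A ≤ normalizer (K : Set L))
    (h : ∀ x : H, x ^ p = 1 → (∀ a ∈ A, φ a x = x) → ∀ k ∈ K, φ k x = x) :
    ∀ k ∈ K, ∀ x, φ k x = x := by
  classical
  obtain ⟨n, hn⟩ := hH.exists_card_eq
  obtain ⟨m, hm⟩ : Odd (Nat.card H) := hn ▸ (hp.out.odd_of_ne_two h2).pow
  letI : BaerData H := ⟨m + 1, hc, fun x => by
    rw [← pow_mul, show (m + 1) * 2 = Nat.card H + 1 by omega, pow_succ, pow_card_eq_one', one_mul]⟩
  have := Fintype.ofFinite K
  have : Finite (Baer H) := Finite.of_equiv _ (eqv H).symm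
  let ψ : L → Baer H →* Baer H := fun g => bmap (φ g).toMonoidHom
  have ψm : ∀ g k x, ψ (g * k) x = ψ g (ψ k x) := fun g k x => Baer.ext <| by
    change φ (g * k) x.val = φ g (φ k x.val)
    rw [map_mul]; rfl
  have ψ1 : ∀ x, ψ 1 x = x := fun x => Baer.ext <| by
    change φ 1 x.val = x.val
    rw [map_one]; rfl
  let T : Baer H →* Baer H := ∏ k : K, ψ k
  have hT : ∀ x, T x = ∏ k : K, ψ k x := fun x => MonoidHom.finset_prod_apply _ _ _
  by_cases hW : T.ker = ⊥
  · intro k hk x
    refine congrArg val ((T.ker_eq_bot_iff.1 hW : Function.Injective T)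
      (?_ : T (ψ k ⟨x⟩) = T ⟨x⟩))
    rw [hT, hT]
    exact Fintype.prod_equiv (Equiv.mulRight (⟨k, hk⟩ : K)) _ _ fun j => (ψm _ _ _).symm
  exfalso
  have hTA : ∀ a ∈ A, ∀ x, T (ψ a x) = ψ a (T x) := fun a ha x => by
    rw [hT, hT, map_prod]
    refine Fintype.prod_equiv (K.normalizerMonoidHom ⟨a, hAK ha⟩⁻¹).toEquiv _ _ fun j => ?_
    rw [← ψm, ← ψm]
    congr 2
    simp [normalizerMonoidHom]
    change _ = a * (a⁻¹ * j * a⁻¹⁻¹)
    group
  letI : MulAction A T.ker :=
    { smul := fun a w => ⟨ψ a w, by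
        rw [MonoidHom.mem_ker, hTA a a.2, (w.2 : T w = 1), map_one]⟩
      one_smul := fun w => Subtype.ext (ψ1 _)
      mul_smul := fun a b w => Subtype.ext (ψm _ _ _) }
  have hB : IsPGroup p (Baer H) := IsPGroup.of_card (n := n) ((Nat.card_congr (eqv H)).trans hn)
  have hd : p ∣ Nat.card T.ker := by
    rcases (hB.to_subgroup T.ker).card_eq_or_dvd with h1 | h1
    · exact absurd (card_eq_one.1 h1) hW
    · exact h1
  obtain ⟨w, hw, hw1⟩ := hA.exists_fixed_point_of_prime_dvd_card_of_fixed_point T.ker hd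
    (a := 1) (fun a => Subtype.ext (map_one (ψ a)))
  have hw2 : (w : Baer H) ≠ 1 := fun e => hw1 (Subtype.ext e).symm
  obtain ⟨j, hj⟩ := (IsPGroup.iff_orderOf.1 hB) w
  obtain _ | j := j
  · exact hw2 (orderOf_eq_one_iff.1 hj)
  set y : Baer H := (w : Baer H) ^ p ^ j with hy
  have y1 : y ≠ 1 := fun e => by
    have := orderOf_dvd_of_pow_eq_one e
    rw [hj, Nat.pow_dvd_pow_iff_le_right hp.out.one_lt] at this
    omega
  have yp : y ^ p = 1 := by rw [hy, ← pow_mul, ← pow_succ, ← hj, pow_orderOf_eq_one]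
  have yA : ∀ a ∈ A, ψ a y = y := fun a ha => by
    rw [hy, map_pow]; congr 1; exact congrArg Subtype.val (hw ⟨a, ha⟩)
  have yK : ∀ k : K, ψ k y = y := fun k => Baer.ext <| h y.val (by
    rw [← val_pow, yp]; rfl) (fun a ha => congrArg val (yA a ha)) k k.2
  have yT : T y = 1 := T.ker.pow_mem w.2 _
  rw [hT, Finset.prod_congr rfl fun k _ => yK k, Finset.prod_const, Finset.card_univ,
    ← Nat.card_eq_fintype_card] at yT
  apply y1
  rw [← orderOf_eq_one_iff]
  exact Nat.eq_one_of_dvd_coprimes hK (orderOf_dvd_of_pow_eq_one yT)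
    (orderOf_dvd_of_pow_eq_one yp)

variable {G : Type*} [Group G] [Finite G] {p : ℕ} [hp : Fact p.Prime]

theorem tb_class_two (h2 : p ≠ 2) {Q K A : Subgroup G} (hQ : IsPGroup p Q)
    (hc : ⁅⁅Q, Q⁆, Q⁆ = ⊥) (hK : (Nat.card K).Coprime p) (hA : IsPGroup p A)
    (hAK : A ≤ normalizer (K : Set G)) (hAQ : A ≤ normalizer (Q : Set G))
    (hKQ : K ≤ normalizer (Q : Set G))
    (h : ∀ x ∈ Q, x ^ p = 1 → x ∈ centralizer (A : Set G) → x ∈ centralizer (K : Set G)) :
    Q ≤ centralizer (K : Set G) := by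
  have e : ∀ (g : normalizer (Q : Set G)) (x : Q), Q.normalizerMonoidHom g x = x ↔
      (g : G) * x = x * g := fun g x => by
    rw [← Subtype.val_inj, ← mul_inv_eq_iff_eq_mul]; rfl
  have := baer_fixed h2 hQ (fun x y => mem_center_iff.2 fun z => Subtype.ext
    (comm_bot_iff.1 hc _ (commutator_mem_commutator x.2 y.2) _ z.2).symm) Q.normalizerMonoidHom
    (K := K.subgroupOf _) (A := A.subgroupOf _)
    (Nat.Coprime.coprime_dvd_left (Core.card_subgroupOf_dvd _ _) hK) hA.comap_subtype
    ((comap_mono hAK).trans (le_normalizer_comap _)) (fun x h1 h3 k hk => (e _ _).2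
      (h x x.2 (congrArg Subtype.val h1) (fun a ha => (e ⟨a, hAQ ha⟩ _).1 (h3 _ ha)) k hk))
  intro x hx k hk
  exact (e ⟨k, hKQ hk⟩ ⟨x, hx⟩).1 (this _ hk _)

theorem comm_lt_of_pgroup {Q : Subgroup G} (hQ : IsPGroup p Q) (h : Q ≠ ⊥) : ⁅Q, Q⁆ < Q :=
  lt_of_le_of_ne (commutator_le_self Q) fun e =>
    h (perfect_solvable_eq_bot e (pgroup_solvable hQ))

/-- The Thompson–Bender lemma for actions on `p`-groups -/
theorem tb_pgroup (h2 : p ≠ 2) {Q K A : Subgroup G} (hQ : IsPGroup p Q)
    (hK : (Nat.card K).Coprime p) (hA : IsPGroup p A)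
    (hAK : A ≤ normalizer (K : Set G)) (hAQ : A ≤ normalizer (Q : Set G))
    (hKQ : K ≤ normalizer (Q : Set G))
    (h : ∀ x ∈ Q, x ^ p = 1 → x ∈ centralizer (A : Set G) → x ∈ centralizer (K : Set G)) :
    Q ≤ centralizer (K : Set G) := by
  by_contra hn
  obtain ⟨M, hM, ⟨a1, a2, a3⟩, hmin⟩ := Core.exists_minimal_le (P := fun M : Subgroup G =>
    A ≤ normalizer (M : Set G) ∧ K ≤ normalizer (M : Set G) ∧ ¬ M ≤ centralizer (K : Set G))
    ⟨hAQ, hKQ, hn⟩
  have hMp := hQ.to_le hM
  have cop := (pgroup_coprime hMp hK).symm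
  have b1 : ⁅M, K⁆ = M := hmin _ ⟨comm_normalizer' a1 hAK, comm_normalizer' a2 le_normalizer,
    fun e => a3 (Core.le_centralizer_of_commutator_le_centralizer a2 cop
      (Or.inr (pgroup_solvable hMp)) e)⟩ (le_normalizer_iff_commutator_le_left.1 a2)
  have b2 : ⁅⁅M, M⁆, K⁆ = ⊥ := by
    rw [commutator_eq_bot_iff_le_centralizer]
    by_contra e
    refine (comm_lt_of_pgroup hMp ?_).ne (hmin _ ⟨comm_normalizer' a1 a1, comm_normalizer' a2 a2, e⟩
      (commutator_le_self M))
    rintro rfl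
    exact a3 bot_le
  refine a3 (tb_class_two h2 hMp ?_ hK hA hAK a1 a2 fun x hx => h x (hM hx))
  have := commutator_commutator_eq_bot_of_rotate (H₁ := M) (H₂ := K) (H₃ := ⁅M, M⁆)
    (by rw [comm_bot_symm b2, commutator_bot_left]) (comm_bot_mono b2 (le_normalizer_iff_commutator_le_left.1
      (comm_normalizer' le_normalizer le_normalizer)) le_rfl)
  rw [b1] at this
  exact comm_bot_symm this

/-- reduction to the quotient by the `p'`-core -/
theorem le_Opp_of_quot {X : Type*} [Group X] [Finite X] (hL : PLay p (⊤ : Subgroup X) = ⊥)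
    {K : Subgroup X} (hK : (Nat.card K).Coprime p)
    (h : pCore p (X ⧸ pPrimeCore p X) ≤
      centralizer ((K.map (QuotientGroup.mk' (pPrimeCore p X)) : Subgroup _) : Set _)) :
    K ≤ Opp p ⊤ := by
  refine le_Opp_of_comm_top hL hK ?_
  rw [Opp_top, ← Core.map_mk'_eq_bot_iff, map_commutator, pPrimePCore,
    map_comap_eq_self_of_surjective (QuotientGroup.mk'_surjective _), Subgroup.commutator_comm,
    commutator_eq_bot_iff_le_centralizer]
  exact h

theorem exists_lift_pow {G' : Type*} [Group G'] (f : G →* G') (hk : (Nat.card f.ker).Coprime p)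
    {C : Subgroup G} {y : G'} (hy : y ∈ C.map f) {k : ℕ} (h : y ^ p ^ k = 1) :
    ∃ x ∈ C, x ^ p ^ k = 1 ∧ f x = y := by
  obtain ⟨x, hx, rfl⟩ := hy
  obtain ⟨m, hm⟩ : ∃ m, Nat.card f.ker * m ≡ 1 [MOD p ^ k] := by
    by_cases h1 : p ^ k = 1
    · exact ⟨0, by rw [h1]; exact Nat.modEq_one⟩
    · obtain ⟨m, -, hm⟩ := Nat.exists_mul_mod_eq_one_of_coprime (hk.pow_right k)
        (lt_of_le_of_ne (pow_pos hp.out.pos k) (Ne.symm h1))
      exact ⟨m, by rw [Nat.ModEq, hm, Nat.mod_eq_of_lt
        (lt_of_le_of_ne (pow_pos hp.out.pos k) (Ne.symm h1))]⟩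
  refine ⟨x ^ (Nat.card f.ker * m), C.pow_mem hx _, ?_, ?_⟩
  · rw [← pow_mul, mul_comm, pow_mul, pow_mul]
    have : (⟨x ^ p ^ k, by rw [MonoidHom.mem_ker, map_pow, h]⟩ : f.ker) ^ Nat.card f.ker = 1 :=
      pow_card_eq_one'
    rw [show (x ^ p ^ k) ^ Nat.card f.ker = 1 from congrArg Subtype.val this, one_pow]
  · rw [map_pow, pow_eq_pow_of_modEq hm h, pow_one]

theorem mem_centralizer_of_mem_inf {P K A : Subgroup G} (hP : IsPGroup p P)
    (hK : (Nat.card K).Coprime p) (hKP : K ≤ normalizer (P : Set G))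
    (hAK : A ≤ normalizer (K : Set G)) : P ⊓ A ≤ centralizer (K : Set G) := by
  rw [← commutator_eq_bot_iff_le_centralizer, eq_bot_iff, ← inf_eq_bot_of_pgroup_coprime hP hK]
  exact le_inf ((commutator_mono inf_le_left le_rfl).trans
    (le_normalizer_iff_commutator_le_left.1 hKP))
    ((commutator_mono inf_le_right le_rfl).trans (le_normalizer_iff_commutator_le_right.1 hAK))

/-- The Thompson–Bender lemma -/
theorem thompson_bender_top (h2 : p ≠ 2) (hL : PLay p (⊤ : Subgroup G) = ⊥) {A K : Subgroup G}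
    (hA : IsPGroup p A) (hK : (Nat.card K).Coprime p) (hAK : A ≤ normalizer (K : Set G))
    (h : ∀ x ∈ centralizer (A : Set G), x ^ p = 1 → x ∈ A) : K ≤ Opp p ⊤ := by
  refine le_Opp_of_quot hL hK ?_
  set f := QuotientGroup.mk' (pPrimeCore p G) with hf
  have hk : (Nat.card f.ker).Coprime p := by
    rw [QuotientGroup.ker_mk', ← Opp_top]; exact Opp_coprime _
  have hAK' : A.map f ≤ normalizer ((K.map f : Subgroup _) : Set _) :=
    (map_mono hAK).trans (le_normalizer_map f)
  have hP : IsPGroup p (pCore p (G ⧸ pPrimeCore p G)) := by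
    rw [← Op_top]; exact Op_isPGroup _
  refine tb_pgroup h2 hP (coprime_card_map f hK) (hA.map f) hAK' le_normalizer_of_normal
    le_normalizer_of_normal fun x hx h1 h3 => mem_centralizer_of_mem_inf hP (coprime_card_map f hK)
      le_normalizer_of_normal hAK' ⟨hx, ?_⟩
  rw [← map_centralizer_eq f (QuotientGroup.mk'_surjective _) hk hA] at h3
  obtain ⟨y, hy, y1, rfl⟩ := exists_lift_pow f hk h3 (k := 1) (by rwa [pow_one])
  exact mem_map_of_mem f (h y hy (by rwa [pow_one] at y1))

/-- the variant for Sylow subgroups of class at most two -/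
theorem thompson_bender_class_two_top (hL : PLay p (⊤ : Subgroup G) = ⊥) {A K : Subgroup G}
    (hA : IsPGroup p A) (hK : (Nat.card K).Coprime p)
    (hAK : A ≤ normalizer (K : Set G))
    (h : ∀ x ∈ centralizer (A : Set G), ∀ k, x ^ p ^ k = 1 → x ∈ A)
    (hS : ∀ S : Subgroup G, IsPGroup p S → ⁅⁅S, S⁆, S⁆ = ⊥) : K ≤ Opp p ⊤ := by
  refine le_Opp_of_quot hL hK ?_
  set f := QuotientGroup.mk' (pPrimeCore p G) with hf
  have hs := QuotientGroup.mk'_surjective (pPrimeCore p G)
  have hk : (Nat.card f.ker).Coprime p := by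
    rw [QuotientGroup.ker_mk', ← Opp_top]; exact Opp_coprime _
  have hAK' : A.map f ≤ normalizer ((K.map f : Subgroup _) : Set _) :=
    (map_mono hAK).trans (le_normalizer_map f)
  have hP : IsPGroup p (pCore p (G ⧸ pPrimeCore p G)) := by
    rw [← Op_top]; exact Op_isPGroup _
  obtain ⟨S, hAS, hSS⟩ := exists_sylIn_ge (le_top : A ≤ ⊤) hA
  have hSA : ⁅S, S⁆ ≤ A := fun x hx => by
    obtain ⟨k, hk⟩ := Core.isPGroup_iff_mem.1 hSS.pg x (commutator_le_self S hx)
    exact h x (commutator_eq_bot_iff_le_centralizer.1 (comm_bot_mono (hS S hSS.pg) le_rfl hAS) hx)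
      k hk
  have hS' := hSS.map f
  rw [map_top_of_surjective _ hs] at hS'
  have hPS : pCore p (G ⧸ pPrimeCore p G) ≤ S.map f := by rw [← Op_top]; exact hS'.Op_le
  have hSA' : ⁅S.map f, S.map f⁆ ≤ A.map f := by rw [← map_commutator]; exact map_mono hSA
  have hCA : pCore p (G ⧸ pPrimeCore p G) ⊓ centralizer ((A.map f : Subgroup _) : Set _) ≤
      A.map f := by
    rintro x ⟨h1, h3⟩
    obtain ⟨k, hk'⟩ := Core.isPGroup_iff_mem.1 hP x h1
    rw [← map_centralizer_eq f hs hk hA] at h3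
    obtain ⟨y, hy, y1, rfl⟩ := exists_lift_pow f hk h3 hk'
    exact mem_map_of_mem f (h y hy k y1)
  have hK' := coprime_card_map f hK
  have hA' := hA.map f
  have hAS' : A.map f ≤ S.map f := map_mono hAS
  have hPn : (pCore p (G ⧸ pPrimeCore p G)).Normal := inferInstance
  generalize pCore p (G ⧸ pPrimeCore p G) = P at *
  generalize A.map f = A' at *
  generalize K.map f = K' at *
  generalize S.map f = S' at *
  have b0 := mem_centralizer_of_mem_inf hP hK' le_normalizer_of_normal hAK'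
  set P₀ := P ⊓ centralizer (K' : Set _) with hP₀
  have b1 : ∀ B ≤ S', ⁅P, B⁆ ≤ P₀ := fun B hB => (le_inf (commutator_le_left _ _)
    ((commutator_mono hPS hB).trans hSA')).trans (le_inf inf_le_left b0)
  rw [le_centralizer_iff, ← Core.commutator_sup_centralizer hAK' (pgroup_coprime hA' hK')
    (Or.inl (pgroup_solvable hA'))]
  refine sup_le ?_ ?_
  · have hK1 : ⁅K', A'⁆ ≤ K' := le_normalizer_iff_commutator_le_left.1 hAK'
    rw [le_centralizer_iff]
    refine Core.le_centralizer_of_commutator_le_of_le_centralizer (N := P₀)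
      (pgroup_coprime hP.to_inf_left (coprime_card_of_le hK1 hK')).symm ?_
      (inf_le_right.trans (centralizer_le hK1))
    have n1 : K' ≤ normalizer (P₀ : Set _) :=
      inf_normalizer' le_normalizer_of_normal (le_normalizer.trans (centralizer_normalizer _))
    rw [Subgroup.commutator_comm]
    refine PLoc.three_subgroups_le n1
      (inf_normalizer' le_normalizer_of_normal (hAK'.trans (centralizer_normalizer _)))
      (le_normalizer_iff_commutator_le_left.2 ((commutator_mono inf_le_left le_rfl).trans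
        (b1 P hPS))) ?_ ((commutator_mono (commutator_le_left _ _) le_rfl).trans (b1 _ hAS'))
    rw [Subgroup.commutator_comm A']
    exact (commutator_mono (b1 _ hAS') le_rfl).trans (le_normalizer_iff_commutator_le_left.1 n1)
  · refine S0028.result p A' _ P hA' (coprime_card_of_le inf_le_left hK') hP
      (le_centralizer_iff.1 inf_le_right) le_normalizer_of_normal le_normalizer_of_normal ?_
    exact (le_inf inf_le_left hCA).trans (b0.trans (centralizer_le inf_le_left))

theorem PLay_top_subtype {H : Subgroup G} (hL : PLay p H = ⊥) : PLay p (⊤ : Subgroup H) = ⊥ := by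
  apply Subgroup.map_injective (subtype_injective H)
  rw [PLay_map H.subtype_injective, map_top_subtype, hL, Subgroup.map_bot]

omit hp [Finite G] in
theorem le_Opp_of_subgroupOf {H K : Subgroup G} (hK : K ≤ H) (h : K.subgroupOf H ≤ Opp p ⊤) :
    K ≤ Opp p H := by
  have := map_mono (f := H.subtype) h
  rwa [map_subgroupOf_eq_of_le hK, Opp_map H.subtype_injective, map_top_subtype] at this

omit hp [Finite G] in
theorem coe_mem_centralizer {H A : Subgroup G} (hA : A ≤ H) {x : H}
    (hx : x ∈ centralizer ((A.subgroupOf H : Subgroup H) : Set H)) :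
    (x : G) ∈ centralizer (A : Set G) := fun a ha => congrArg Subtype.val (hx ⟨a, hA ha⟩ ha)

theorem thompson_bender (h2 : p ≠ 2) {H A K : Subgroup G} (hL : PLay p H = ⊥) (hAH : A ≤ H)
    (hKH : K ≤ H) (hA : IsPGroup p A) (hK : (Nat.card K).Coprime p)
    (hAK : A ≤ normalizer (K : Set G))
    (h : ∀ x ∈ H, x ∈ centralizer (A : Set G) → x ^ p = 1 → x ∈ A) : K ≤ Opp p H :=
  le_Opp_of_subgroupOf hKH (thompson_bender_top h2 (PLay_top_subtype hL) (A := A.subgroupOf H)
    hA.comap_subtype (Nat.Coprime.coprime_dvd_left (Core.card_subgroupOf_dvd _ _) hK)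
    ((comap_mono hAK).trans (le_normalizer_comap _))
    fun x hx h1 => h x x.2 (coe_mem_centralizer hAH hx) (congrArg Subtype.val h1))

theorem thompson_bender_class_two {H A K : Subgroup G} (hL : PLay p H = ⊥) (hAH : A ≤ H)
    (hKH : K ≤ H) (hA : IsPGroup p A) (hK : (Nat.card K).Coprime p)
    (hAK : A ≤ normalizer (K : Set G))
    (h : ∀ x ∈ H, x ∈ centralizer (A : Set G) → ∀ k, x ^ p ^ k = 1 → x ∈ A)
    (hS : ∀ S : Subgroup G, IsPGroup p S → ⁅⁅S, S⁆, S⁆ = ⊥) : K ≤ Opp p H :=
  le_Opp_of_subgroupOf hKH (thompson_bender_class_two_top (PLay_top_subtype hL)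
    (A := A.subgroupOf H)
    hA.comap_subtype (Nat.Coprime.coprime_dvd_left (Core.card_subgroupOf_dvd _ _) hK)
    ((comap_mono hAK).trans (le_normalizer_comap _))
    (fun x hx k h1 => h x x.2 (coe_mem_centralizer hAH hx) k (congrArg Subtype.val h1))
    fun S h1 => by
      apply Subgroup.map_injective (subtype_injective H)
      rw [map_commutator, map_commutator, hS _ (h1.map _), Subgroup.map_bot])

/-- if the `p`-elements of `H` are central then every `p'`-subgroup lies in the `p'`-core -/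
theorem le_Opp_of_central_sylow {H U : Subgroup G}
    (h : ∀ x ∈ H, ∀ k, x ^ p ^ k = 1 → x ∈ centralizer (H : Set G)) (hU : U ≤ H)
    (hc : (Nat.card U).Coprime p) : U ≤ Opp p H := by
  have key : ∀ S : Subgroup G, S ≤ H → IsPGroup p S → S ≤ centralizer (H : Set G) :=
    fun S h1 h2 x hx => by
      obtain ⟨k, hk⟩ := Core.isPGroup_iff_mem.1 h2 x hx
      exact h x (h1 hx) k hk
  have hL : PLay p H = ⊥ := by
    obtain ⟨S, hS⟩ := exists_sylIn p (PLay p H)
    exact PLay_eq_bot_of_le_coprime le_rfl (coprime_of_perfect_of_center (PLay_perfect H)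
      (commutator_eq_bot_iff_le_centralizer.2 ((key S (hS.le.trans PLay_le) hS.pg).trans
        (centralizer_le PLay_le))) hS.idx)
  obtain ⟨T, hT⟩ := exists_sylIn p (Opq p H)
  exact le_Opp_of_normalized hL hT hU hc (((key T (hT.le.trans Opq_le) hT.pg).trans
    (centralizer_le hU)).trans (centralizer_le_normalizer _))

/-- Thompson's transitivity theorem -/
theorem transitivity_local {A E : Subgroup G} (hA : IsElementaryAbelian p A)
    (hA3 : p ^ 3 ≤ Nat.card A) (hAE : A ≤ E) (hE : IsPGroup p E)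
    (hEc : E ≤ centralizer (E : Set G))
    (hfull : ∀ x ∈ centralizer (E : Set G), ∀ k, x ^ p ^ k = 1 → x ∈ E)
    (hTB : ∀ a ∈ A, a ≠ 1 → ∀ K ≤ centralizer {a}, (Nat.card K).Coprime p →
      E ≤ normalizer (K : Set G) → K ≤ Opp p (centralizer {a}))
    {q : ℕ} [Fact q.Prime] {Q₁ Q₂ : Subgroup G}
    (h₁ : MaxQ (fun U => (Nat.card U).Coprime p ∧ E ≤ normalizer (U : Set G)) q Q₁)
    (h₂ : MaxQ (fun U => (Nat.card U).Coprime p ∧ E ≤ normalizer (U : Set G)) q Q₂) :
    ∃ c ∈ Opp p (centralizer (E : Set G)), Q₁.map (MulAut.conj c).toMonoidHom = Q₂ := by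
  have hEA : E ≤ centralizer (A : Set G) := hEc.trans (centralizer_le hAE)
  refine TFam.transitivity (A := A) (E := E) ⟨fun h => h.1, fun h => h.2,
    fun h a b => ⟨coprime_card_of_le a h.1, b⟩,
    fun a b c => ⟨coprime_card_sup c a.1 b.1, sup_normalizer' a.2 b.2⟩,
    fun a b => ⟨coprime_card_map _ a.1, normalizes_map_conj a.2 (Opp_le b)⟩,
    fun a => le_Opp_of_central_sylow (fun x hx k hk => le_centralizer_iff.1 le_rfl
      (hfull x hx k hk)) inf_le_right (coprime_card_of_le inf_le_left a.1),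
    fun a ha h1 => ?_⟩ hA hA3 hAE hEA hE h₁ h₂
  have hEa : E ≤ centralizer {a} := hEA.trans (centralizer_le (Set.singleton_subset_iff.2 ha))
  exact ⟨Opp p (centralizer {a}), ⟨Opp_coprime _, hEa.trans (Opp_normal _)⟩, fun U hU =>
    hTB a ha h1 _ inf_le_right (coprime_card_of_le inf_le_left hU.1)
      (inf_normalizer' hU.2 (hEa.trans le_normalizer))⟩

end Cfsg.Agent.Comp
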