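import Mathlib
import Cfsg.Prelude.Def_Balance

/-! Ambient subnormality, ambient quasisimple subgroups, components. -/

set_option autoImplicit false

namespace Cfsg.Agent.Comp

open Subgroup
open scoped commutatorElement

variable {G : Type*} [Group G]

/-- `K` is subnormal in `H` (both subgroups of the ambient group). -/
inductive SubIn : Subgroup G → Subgroup G → Prop
  | refl (H : Subgroup G) : SubIn H H
  | step {K L H : Subgroup G} : K ≤ L → L ≤ normalizer (K : Set G) → SubIn L H → SubIn K H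

theorem SubIn.le {K H : Subgroup G} (h : SubIn K H) : K ≤ H := by
  induction h with
  | refl => exact le_rfl
  | step h1 _ _ ih => exact h1.trans ih

theorem SubIn.of_normal {K H : Subgroup G} (h1 : K ≤ H) (h2 : H ≤ normalizer (K : Set G)) :
    SubIn K H := SubIn.step h1 h2 (SubIn.refl H)

theorem SubIn.trans {K L H : Subgroup G} (h1 : SubIn K L) (h2 : SubIn L H) : SubIn K H := by
  induction h1 with
  | refl => exact h2
  | step a b _ ih => exact SubIn.step a b (ih h2)

theorem SubIn.map {G' : Type*} [Group G'] (f : G →* G') {K H : Subgroup G} (h : SubIn K H) :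
    SubIn (K.map f) (H.map f) := by
  induction h with
  | refl => exact SubIn.refl _
  | step a b _ ih => exact SubIn.step (map_mono a) ((map_mono b).trans (le_normalizer_map f)) ih

theorem SubIn.comap {G' : Type*} [Group G'] (f : G' →* G) {K H : Subgroup G} (h : SubIn K H) :
    SubIn (K.comap f) (H.comap f) := by
  induction h with
  | refl => exact SubIn.refl _
  | step a b _ ih =>
    exact SubIn.step (comap_mono a) ((comap_mono b).trans (le_normalizer_comap f)) ih

theorem SubIn.inf {K H : Subgroup G} (h : SubIn K H) (Y : Subgroup G) :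
    SubIn (K ⊓ Y) (H ⊓ Y) := by
  induction h with
  | refl => exact SubIn.refl _
  | step a b _ ih =>
    refine SubIn.step (inf_le_inf_right _ a) ?_ ih
    exact (inf_le_inf b le_normalizer).trans inf_normalizer_le_normalizer_inf

theorem SubIn.restrict {K H Y : Subgroup G} (h : SubIn K H) (h1 : K ≤ Y) (h2 : Y ≤ H) :
    SubIn K Y := by
  have := h.inf Y
  rwa [inf_eq_left.2 h1, inf_eq_right.2 h2] at this

theorem SubIn.inf' {K L H : Subgroup G} (h : SubIn K H) (h' : SubIn L H) : SubIn (K ⊓ L) H := by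
  have := h.inf L
  rw [inf_eq_right.2 h'.le] at this
  exact this.trans h'

theorem subIn_top {K : Subgroup G} : SubIn K ⊤ ↔ K.IsSubnormal := by
  constructor
  · intro h
    generalize hT : (⊤ : Subgroup G) = T at h
    induction h with
    | refl => subst hT; exact IsSubnormal.top
    | step a b _ ih =>
      exact IsSubnormal.step _ _ a (ih hT) ((normal_subgroupOf_iff_le_normalizer a).2 b)
  · intro h
    induction h with
    | top => exact SubIn.refl _
    | step H K a _ b ih => exact SubIn.step a ((normal_subgroupOf_iff_le_normalizer a).1 b) ih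

theorem subIn_map_subtype {H : Subgroup G} {K : Subgroup H} :
    SubIn (K.map H.subtype) H ↔ K.IsSubnormal := by
  rw [← subIn_top]
  constructor
  · intro h
    have := h.comap H.subtype
    rwa [comap_map_eq_self_of_injective H.subtype_injective, comap_subtype, subgroupOf_self] at this
  · intro h
    have := h.map H.subtype
    rwa [← MonoidHom.range_eq_map, range_subtype] at this

theorem subIn_iff {K H : Subgroup G} : SubIn K H ↔ K ≤ H ∧ (K.subgroupOf H).IsSubnormal := by
  constructor
  · intro h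
    refine ⟨h.le, ?_⟩
    rw [← subIn_map_subtype, map_subgroupOf_eq_of_le h.le]; exact h
  · rintro ⟨h1, h2⟩
    rwa [← subIn_map_subtype, map_subgroupOf_eq_of_le h1] at h2

theorem SubIn.of_isSubnormal {K H : Subgroup G} (h : K.IsSubnormal) (hle : K ≤ H) : SubIn K H :=
  (subIn_top.2 h).restrict hle le_top

theorem SubIn.eq_or_exists {K H : Subgroup G} (h : SubIn K H) :
    K = H ∨ ∃ N, N < H ∧ H ≤ normalizer (N : Set G) ∧ SubIn K N := by
  induction h with
  | refl => exact Or.inl rfl
  | @step K L H a b c ih =>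
    rcases ih with rfl | ⟨N, h1, h2, h3⟩
    · rcases a.eq_or_lt with rfl | hlt
      · exact Or.inl rfl
      · exact Or.inr ⟨K, hlt, b, SubIn.refl _⟩
    · exact Or.inr ⟨N, h1, h2, SubIn.step a b h3⟩

theorem SubIn.bot (H : Subgroup G) : SubIn ⊥ H :=
  SubIn.of_normal bot_le le_normalizer_of_normal

theorem SubIn.sup_normalized {K H N : Subgroup G} (h : SubIn K H)
    (hN : H ≤ normalizer (N : Set G)) : SubIn (K ⊔ N) (H ⊔ N) := by
  induction h with
  | refl => exact SubIn.refl _
  | @step K L H a b c ih =>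
    refine SubIn.step (sup_le_sup_right a _) ?_ (ih hN)
    refine sup_le ?_ ?_
    · exact (le_inf b (c.le.trans hN)).trans (normalizer_inf_normalizer_le_normalizer_sup _ _)
    · rw [le_normalizer_iff_commutator_le_right]
      have h1 : K ⊔ N ≤ normalizer (N : Set G) := sup_le (a.trans (c.le.trans hN)) le_normalizer
      rw [le_normalizer_iff_commutator_le_left] at h1
      exact h1.trans le_sup_right

/-- conjugate of a subgroup, in the form the statements use -/
theorem map_conj_eq_of_mem_normalizer {H : Subgroup G} {g : G} (hg : g ∈ normalizer (H : Set G)) :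
    H.map (MulAut.conj g).toMonoidHom = H := mem_normalizer_iff_map_conj_eq.1 hg

theorem mem_normalizer_of_map_conj_eq {H : Subgroup G} {g : G}
    (hg : H.map (MulAut.conj g).toMonoidHom = H) : g ∈ normalizer (H : Set G) :=
  mem_normalizer_iff_map_conj_eq.2 hg

/-! ### commutator calculus -/

theorem comm_bot_iff {A B : Subgroup G} : ⁅A, B⁆ = ⊥ ↔ ∀ a ∈ A, ∀ b ∈ B, a * b = b * a := by
  rw [commutator_eq_bot_iff_le_centralizer]
  exact ⟨fun h a ha b hb => (h ha b hb).symm, fun h a ha b hb => (h a ha b hb).symm⟩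

theorem comm_bot_mono {A B A' B' : Subgroup G} (h : ⁅A, B⁆ = ⊥) (h1 : A' ≤ A) (h2 : B' ≤ B) :
    ⁅A', B'⁆ = ⊥ := le_bot_iff.1 (h ▸ commutator_mono h1 h2)

theorem comm_bot_symm {A B : Subgroup G} (h : ⁅A, B⁆ = ⊥) : ⁅B, A⁆ = ⊥ := by
  rw [Subgroup.commutator_comm]; exact h

theorem comm_sup_left_bot {A B C : Subgroup G} (h1 : ⁅A, C⁆ = ⊥) (h2 : ⁅B, C⁆ = ⊥) :
    ⁅A ⊔ B, C⁆ = ⊥ := by
  rw [commutator_eq_bot_iff_le_centralizer] at *
  exact sup_le h1 h2

theorem comm_sup_right_bot {A B C : Subgroup G} (h1 : ⁅C, A⁆ = ⊥) (h2 : ⁅C, B⁆ = ⊥) :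
    ⁅C, A ⊔ B⁆ = ⊥ := comm_bot_symm (comm_sup_left_bot (comm_bot_symm h1) (comm_bot_symm h2))

theorem comm_sSup_left_bot {S : Set (Subgroup G)} {C : Subgroup G} (h : ∀ A ∈ S, ⁅A, C⁆ = ⊥) :
    ⁅sSup S, C⁆ = ⊥ := by
  rw [commutator_eq_bot_iff_le_centralizer]
  exact sSup_le fun A hA => commutator_eq_bot_iff_le_centralizer.1 (h A hA)

theorem normalizes_of_comm_bot {A B : Subgroup G} (h : ⁅A, B⁆ = ⊥) : A ≤ normalizer (B : Set G) :=
  (commutator_eq_bot_iff_le_centralizer.1 h).trans (centralizer_le_normalizer _)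

/-- perfect version of the three subgroups lemma -/
theorem comm_bot_of_perfect {L H : Subgroup G} (hL : ⁅L, L⁆ = L) (h : ⁅⁅H, L⁆, L⁆ = ⊥) :
    ⁅H, L⁆ = ⊥ := by
  have := commutator_commutator_eq_bot_of_rotate (H₁ := L) (H₂ := L) (H₃ := H)
    (by rwa [Subgroup.commutator_comm L H]) h
  rw [hL] at this
  exact comm_bot_symm this

theorem mem_sup_of_normalizes {A B : Subgroup G} (h : A ≤ normalizer (B : Set G)) {x : G} :
    x ∈ A ⊔ B ↔ ∃ a ∈ A, ∃ b ∈ B, a * b = x := by
  rw [← SetLike.mem_coe, coe_mul_of_left_le_normalizer_right A B h]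
  simp [Set.mem_mul]

/-- commutator of `A ⊔ Z` with `B ⊔ W` when `Z`, `W` are central -/
theorem comm_sup_central {A B Z W : Subgroup G} (h1 : ⁅Z, B⁆ = ⊥) (h2 : ⁅Z, W⁆ = ⊥)
    (h3 : ⁅A, W⁆ = ⊥) (h4 : ⁅A, Z⁆ = ⊥) (h5 : ⁅B, W⁆ = ⊥) : ⁅A ⊔ Z, B ⊔ W⁆ = ⁅A, B⁆ := by
  refine le_antisymm ?_ (commutator_mono le_sup_left le_sup_left)
  rw [commutator_le]
  intro x hx y hy
  obtain ⟨a, ha, z, hz, rfl⟩ := (mem_sup_of_normalizes (normalizes_of_comm_bot h4)).1 hx
  obtain ⟨b, hb, w, hw, rfl⟩ := (mem_sup_of_normalizes (normalizes_of_comm_bot h5)).1 hy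
  rw [comm_bot_iff] at h1 h2 h3 h4 h5
  have e1 := h1 z hz b hb
  have e2 := h2 z hz w hw
  have e3 := h3 a ha w hw
  have : ⁅a * z, b * w⁆ = ⁅a, b⁆ := by
    simp only [commutatorElement_def, mul_inv_rev]
    have : z * (b * w) * z⁻¹ = b * w := by
      rw [← mul_assoc, e1, mul_assoc b, e2]; group
    calc a * z * (b * w) * (z⁻¹ * a⁻¹) * (w⁻¹ * b⁻¹)
        = a * (z * (b * w) * z⁻¹) * a⁻¹ * (w⁻¹ * b⁻¹) := by group
      _ = a * b * (w * a⁻¹ * w⁻¹) * b⁻¹ := by rw [this]; group
      _ = a * b * a⁻¹ * b⁻¹ := by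
        have : w * a⁻¹ * w⁻¹ = a⁻¹ := by
          have : w * a⁻¹ = a⁻¹ * w := by
            rw [eq_inv_mul_iff_mul_eq, ← mul_assoc, e3]; group
          rw [this]; group
        rw [this]
  rw [this]; exact commutator_mem_commutator ha hb

/-! ### quasisimple -/

/-- ambient form of quasisimplicity -/
structure QS (K : Subgroup G) : Prop where
  perfect : ⁅K, K⁆ = K
  ne_bot : K ≠ ⊥
  normal : ∀ N : Subgroup G, N ≤ K → K ≤ normalizer (N : Set G) → N = K ∨ ⁅N, K⁆ = ⊥

theorem QS.not_comm {K : Subgroup G} (h : QS K) : ⁅K, K⁆ ≠ ⊥ := by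
  rw [h.perfect]; exact h.ne_bot

theorem isQuasisimple_iff_top {X : Type*} [Group X] : IsQuasisimple X ↔ QS (⊤ : Subgroup X) := by
  constructor
  · rintro ⟨hp, hs⟩
    have hp' : ⁅(⊤ : Subgroup X), (⊤ : Subgroup X)⁆ = ⊤ := Group.isPerfect_def.1 hp
    refine ⟨hp', ?_, ?_⟩
    · intro h
      have : Subsingleton X := by
        refine ⟨fun a b => ?_⟩
        have ha : a ∈ (⊥ : Subgroup X) := h ▸ mem_top a
        have hb : b ∈ (⊥ : Subgroup X) := h ▸ mem_top b
        rw [mem_bot] at ha hb; rw [ha, hb]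
      have h2 : Subsingleton (X ⧸ center X) := (QuotientGroup.mk'_surjective _).subsingleton
      exact not_subsingleton (X ⧸ center X) h2
    · intro N _ hN
      have hN' : N.Normal := normalizer_eq_top_iff.1 (top_le_iff.1 hN)
      rcases (hN'.map _ (QuotientGroup.mk'_surjective (center X))).eq_bot_or_eq_top with h | h
      · right
        rw [Subgroup.map_eq_bot_iff, QuotientGroup.ker_mk'] at h
        exact commutator_top_right_eq_bot_iff_le_center.2 h
      · left
        have h2 : N ⊔ center X = ⊤ := by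
          have := congrArg (comap (QuotientGroup.mk' (center X))) h
          rwa [comap_map_eq, QuotientGroup.ker_mk', comap_top] at this
        have h3 : ⁅N ⊔ center X, N ⊔ center X⁆ = ⁅N, N⁆ :=
          comm_sup_central (by simp) (by simp) (by simp) (by simp) (by simp)
        rw [h2, hp'] at h3
        exact top_le_iff.1 (h3 ▸ commutator_le_self N)
  · rintro ⟨h1, h2, h3⟩
    refine ⟨Group.isPerfect_def.2 h1, ?_⟩
    have hne : center X ≠ ⊤ := by
      intro h
      apply h2
      rw [← h1, commutator_top_right_eq_bot_iff_le_center, h]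
    have : Nontrivial (X ⧸ center X) := QuotientGroup.nontrivial_iff.2 hne
    refine ⟨fun N hN => ?_⟩
    rcases h3 (N.comap (QuotientGroup.mk' _)) le_top le_normalizer_of_normal with h | h
    · right
      have := congrArg (map (QuotientGroup.mk' (center X))) h
      rwa [map_comap_eq_self_of_surjective (QuotientGroup.mk'_surjective _),
        map_top_of_surjective _ (QuotientGroup.mk'_surjective _)] at this
    · left
      rw [commutator_top_right_eq_bot_iff_le_center] at h
      rw [← map_comap_eq_self_of_surjective (QuotientGroup.mk'_surjective _) N, Subgroup.map_eq_bot_iff,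
        QuotientGroup.ker_mk']
      exact h

theorem QS.map_of_ne_bot {G' : Type*} [Group G'] (f : G →* G') {K : Subgroup G} (h : QS K)
    (hne : K.map f ≠ ⊥) : QS (K.map f) := by
  refine ⟨by rw [← map_commutator, h.perfect], hne, fun N hN hN2 => ?_⟩
  have h1 : K ≤ normalizer ((N.comap f ⊓ K : Subgroup G) : Set G) := by
    refine (le_inf ?_ le_normalizer).trans inf_normalizer_le_normalizer_inf
    exact (map_le_iff_le_comap.1 hN2).trans (le_normalizer_comap f)
  have h2 : (N.comap f ⊓ K).map f = N := by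
    refine le_antisymm ((map_mono inf_le_left).trans (map_comap_le _ _)) ?_
    intro x hx
    obtain ⟨k, hk, rfl⟩ := hN hx
    exact ⟨k, ⟨hx, hk⟩, rfl⟩
  rcases h.normal _ inf_le_right h1 with h3 | h3
  · left; rw [← h2, h3]
  · right; rw [← h2, ← map_commutator, h3, Subgroup.map_bot]

theorem QS.map_inj {G' : Type*} [Group G'] {f : G →* G'} (hf : Function.Injective f)
    {K : Subgroup G} (h : QS K) : QS (K.map f) :=
  h.map_of_ne_bot f (by rw [Ne, map_eq_bot_iff_of_injective _ hf]; exact h.ne_bot)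

/-- pull back along a map whose kernel meets `K` in central elements -/
theorem QS.of_map {G' : Type*} [Group G'] (f : G →* G') {K : Subgroup G} (hp : ⁅K, K⁆ = K)
    (hker : ⁅f.ker ⊓ K, K⁆ = ⊥) (h : QS (K.map f)) : QS K := by
  refine ⟨hp, fun hb => h.ne_bot (by rw [hb, Subgroup.map_bot]), fun N hN hN2 => ?_⟩
  rcases h.normal (N.map f) (map_mono hN) ((map_mono hN2).trans (le_normalizer_map f)) with h1 | h1
  · left
    have h2 : N ⊔ (f.ker ⊓ K) = K := by
      refine le_antisymm (sup_le hN inf_le_right) fun k hk => ?_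
      have : f k ∈ N.map f := h1 ▸ mem_map_of_mem f hk
      obtain ⟨n, hn, hnk⟩ := this
      have : k = n * (n⁻¹ * k) := by group
      rw [this]
      refine mul_mem_sup hn ⟨?_, K.mul_mem (K.inv_mem (hN hn)) hk⟩
      simp [hnk]
    have hz : ⁅f.ker ⊓ K, N⁆ = ⊥ := comm_bot_mono hker le_rfl hN
    have hz2 : ⁅f.ker ⊓ K, f.ker ⊓ K⁆ = ⊥ := comm_bot_mono hker le_rfl inf_le_right
    have h3 := comm_sup_central hz hz2 (comm_bot_symm hz) (comm_bot_symm hz) (comm_bot_symm hz)
    rw [h2, hp] at h3
    exact le_antisymm hN (h3 ▸ commutator_le_self N)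
  · right
    rw [← map_commutator, Subgroup.map_eq_bot_iff] at h1
    refine comm_bot_of_perfect hp (comm_bot_mono hker (le_inf h1 ?_) le_rfl)
    exact (commutator_mono hN le_rfl).trans (commutator_le_self K)

theorem qs_map_iff {G' : Type*} [Group G'] {f : G →* G'} (hf : Function.Injective f)
    {K : Subgroup G} : QS (K.map f) ↔ QS K := by
  refine ⟨fun h => QS.of_map f ?_ ?_ h, fun h => h.map_inj hf⟩
  · apply map_injective hf
    rw [map_commutator, h.perfect]
  · rw [(MonoidHom.ker_eq_bot_iff f).2 hf]; simp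

theorem qs_iff {K : Subgroup G} : QS K ↔ IsQuasisimple K := by
  rw [isQuasisimple_iff_top, ← qs_map_iff K.subtype_injective, ← MonoidHom.range_eq_map,
    range_subtype]

theorem QS.subIn {K N : Subgroup G} (h : QS K) (hN : SubIn N K) : N = K ∨ ⁅N, K⁆ = ⊥ := by
  rcases hN.eq_or_exists with h1 | ⟨M, h1, h2, h3⟩
  · exact Or.inl h1
  · rcases h.normal M h1.le h2 with h4 | h4
    · exact absurd h4 h1.ne
    · exact Or.inr (comm_bot_mono h4 h3.le le_rfl)

theorem QS.not_solvable {K : Subgroup G} (h : QS K) : ¬ Group.IsSolvable K := by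
  have : Nontrivial K := (nontrivial_iff_ne_bot K).2 h.ne_bot
  have : Group.IsPerfect K := isPerfect_iff.2 h.perfect
  exact Group.IsPerfect.not_isSolvable _

theorem solvable_of_le {K H : Subgroup G} (h : K ≤ H) (hs : Group.IsSolvable H) :
    Group.IsSolvable K :=
  Group.isSolvable_of_isSolvable_injective (f := inclusion h) (inclusion_injective h)

theorem perfect_solvable_eq_bot {K : Subgroup G} (h : ⁅K, K⁆ = K) (hs : Group.IsSolvable K) :
    K = ⊥ := by
  by_contra hne
  have : Nontrivial K := (nontrivial_iff_ne_bot K).2 hne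
  have : Group.IsPerfect K := isPerfect_iff.2 h
  exact Group.IsPerfect.not_isSolvable _ hs

theorem QS.not_le_solvable {K H : Subgroup G} (h : QS K) (hs : Group.IsSolvable H) : ¬ K ≤ H :=
  fun hle => h.not_solvable (solvable_of_le hle hs)

/-! ### components -/

/-- `K` is a component of the subgroup `H` -/
structure CompIn (K H : Subgroup G) : Prop where
  sub : SubIn K H
  qs : QS K

theorem compIn_top {K : Subgroup G} : CompIn K ⊤ ↔ IsComponent K :=
  ⟨fun h => ⟨subIn_top.1 h.1, qs_iff.1 h.2⟩, fun h => ⟨subIn_top.2 h.1, qs_iff.2 h.2⟩⟩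

theorem compIn_map_subtype {H : Subgroup G} {K : Subgroup H} :
    CompIn (K.map H.subtype) H ↔ IsComponent K :=
  ⟨fun h => ⟨subIn_map_subtype.1 h.1, qs_iff.1 ((qs_map_iff H.subtype_injective).1 h.2)⟩,
   fun h => ⟨subIn_map_subtype.2 h.1, (qs_map_iff H.subtype_injective).2 (qs_iff.2 h.2)⟩⟩

theorem compIn_iff {K H : Subgroup G} : CompIn K H ↔ K ≤ H ∧ IsComponent (K.subgroupOf H) := by
  constructor
  · intro h
    refine ⟨h.1.le, ?_⟩
    rw [← compIn_map_subtype, map_subgroupOf_eq_of_le h.1.le]; exact h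
  · rintro ⟨h1, h2⟩
    rwa [← compIn_map_subtype, map_subgroupOf_eq_of_le h1] at h2

theorem CompIn.le {K H : Subgroup G} (h : CompIn K H) : K ≤ H := h.1.le

theorem CompIn.trans {K L H : Subgroup G} (h : CompIn K L) (h2 : SubIn L H) : CompIn K H :=
  ⟨h.1.trans h2, h.2⟩

theorem CompIn.restrict {K H Y : Subgroup G} (h : CompIn K H) (h1 : K ≤ Y) (h2 : Y ≤ H) :
    CompIn K Y := ⟨h.1.restrict h1 h2, h.2⟩

theorem CompIn.map_inj {G' : Type*} [Group G'] {f : G →* G'} (hf : Function.Injective f)
    {K H : Subgroup G} (h : CompIn K H) : CompIn (K.map f) (H.map f) :=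
  ⟨h.1.map f, h.2.map_inj hf⟩

theorem CompIn.map_of_ne_bot {G' : Type*} [Group G'] (f : G →* G')
    {K H : Subgroup G} (h : CompIn K H) (hne : K.map f ≠ ⊥) : CompIn (K.map f) (H.map f) :=
  ⟨h.1.map f, h.2.map_of_ne_bot f hne⟩

theorem CompIn.conj {K H : Subgroup G} (h : CompIn K H) {g : G} (hg : g ∈ normalizer (H : Set G)) :
    CompIn (K.map (MulAut.conj g).toMonoidHom) H := by
  have := h.map_inj (f := (MulAut.conj g).toMonoidHom) (MulAut.conj g).injective
  rwa [map_conj_eq_of_mem_normalizer hg] at this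

/-- A component and a subnormal subgroup: containment or commuting. -/
theorem CompIn.le_or_comm [Finite G] {X K U : Subgroup G} (hK : CompIn K X) (hU : SubIn U X) :
    K ≤ U ∨ ⁅U, K⁆ = ⊥ := by
  induction X using WellFoundedLT.induction generalizing K U with
  | ind X ih =>
  rcases hK.1.eq_or_exists with rfl | ⟨N, hN1, hN2, hN3⟩
  · rcases hK.2.subIn hU with h | h
    · exact Or.inl h.ge
    · exact Or.inr h
  rcases hU.eq_or_exists with rfl | ⟨M, hM1, hM2, hM3⟩
  · exact Or.inl hK.le
  have h1 : ⁅U, K⁆ ≤ N := by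
    have : ⁅X, N⁆ ≤ N := le_normalizer_iff_commutator_le_right.1 hN2
    exact (commutator_mono hU.le hN3.le).trans this
  have h2 : ⁅U, K⁆ ≤ M := by
    have : ⁅M, X⁆ ≤ M := le_normalizer_iff_commutator_le_left.1 hM2
    exact (commutator_mono hM3.le hK.le).trans this
  have hKG : K ≤ N ⊓ normalizer ((⁅U, K⁆ : Subgroup G) : Set G) :=
    le_inf hN3.le (normalizer_commutator_ge_right _ _)
  rcases ih (N ⊓ normalizer ((⁅U, K⁆ : Subgroup G) : Set G)) (inf_le_left.trans_lt hN1)
    (hK.restrict hKG (inf_le_left.trans hN1.le))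
    (SubIn.of_normal (le_inf h1 le_normalizer) inf_le_right) with h | h
  · exact ih M hM1 (hK.restrict (h.trans h2) hM1.le) hM3
  · exact Or.inr (comm_bot_of_perfect hK.2.perfect h)

theorem CompIn.eq_or_comm [Finite G] {X K L : Subgroup G} (hK : CompIn K X) (hL : CompIn L X) :
    K = L ∨ ⁅K, L⁆ = ⊥ := by
  rcases hK.le_or_comm hL.1 with h | h
  · rcases hL.le_or_comm hK.1 with h' | h'
    · exact Or.inl (le_antisymm h h')
    · exact Or.inr h'
  · exact Or.inr (comm_bot_symm h)

/-- a component commutes with every solvable subgroup it normalizes -/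
theorem CompIn.comm_of_solvable [Finite G] {X K H : Subgroup G} (hK : CompIn K X) (hH : H ≤ X)
    (hs : Group.IsSolvable H) (hn : K ≤ normalizer (H : Set G)) : ⁅K, H⁆ = ⊥ := by
  have h1 : CompIn K (K ⊔ H) := hK.restrict le_sup_left (sup_le hK.le hH)
  rcases h1.le_or_comm (SubIn.of_normal le_sup_right (sup_le hn le_normalizer)) with h | h
  · exact absurd h (hK.2.not_le_solvable hs)
  · exact comm_bot_symm h

theorem CompIn.comm_of_subIn_solvable [Finite G] {X K H : Subgroup G} (hK : CompIn K X)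
    (hH : SubIn H X) (hs : Group.IsSolvable H) : ⁅K, H⁆ = ⊥ := by
  rcases hK.le_or_comm hH with h | h
  · exact absurd h (hK.2.not_le_solvable hs)
  · exact comm_bot_symm h

end Cfsg.Agent.Comp
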