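import Cfsg.Agent.Comp.Bal
import Cfsg.Agent.Core.CoprimeAb

/-! Elementary abelian operator groups: hyperplane generation and factorization lemmas. -/

set_option autoImplicit false

namespace Cfsg.Agent.Comp

open Subgroup
open scoped commutatorElement Pointwise

variable {G : Type*} [Group G] [Finite G] {p : ℕ} [hp : Fact p.Prime]

omit [Finite G] in
theorem sylIn_iff {q : ℕ} {P K : Subgroup G} : SylIn q P K ↔ Core.IsSylowIn q P K :=
  ⟨fun h => ⟨h.1, h.2, h.3⟩, fun h => ⟨h.1, h.2.1, h.2.2⟩⟩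

theorem pgroup_coprime {A X : Subgroup G} (hA : IsPGroup p A) (hX : (Nat.card X).Coprime p) :
    (Nat.card A).Coprime (Nat.card X) := Core.IsPGroup_coprime_card hA hX

theorem pgroup_solvable {A : Subgroup G} (hA : IsPGroup p A) : Group.IsSolvable A :=
  solvable_of_nilpotent hA.isNilpotent

theorem pgroup_coprime_prime {q : ℕ} [hq : Fact q.Prime] (h : q ≠ p) {Q : Subgroup G}
    (hQ : IsPGroup q Q) : (Nat.card Q).Coprime p :=
  Core.IsPGroup_coprime_card hQ ((Nat.coprime_primes hp.out hq.out).2 h.symm)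

omit [Finite G] hp in
theorem elemAb_le_centralizer {A B C : Subgroup G} (hA : IsElementaryAbelian p A) (h1 : B ≤ A)
    (h2 : C ≤ A) : B ≤ centralizer (C : Set G) := fun _ hb _ hc => elemAb_comm hA (h2 hc) (h1 hb)

omit [Finite G] hp in
theorem elemAb_le_centralizer_singleton {A : Subgroup G} (hA : IsElementaryAbelian p A) {a : G}
    (h : a ∈ A) : A ≤ centralizer {a} := fun _ hb =>
  mem_centralizer_singleton_iff.2 (elemAb_comm hA hb h)

omit [Finite G] hp in
theorem elemAb_normalizes {A B C : Subgroup G} (hA : IsElementaryAbelian p A) (h1 : B ≤ A)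
    (h2 : C ≤ A) : B ≤ normalizer (C : Set G) :=
  (elemAb_le_centralizer hA h1 h2).trans (centralizer_le_normalizer _)

omit [Finite G] hp in
theorem elemAb_normalizes_centralizer {A B : Subgroup G} (hA : IsElementaryAbelian p A)
    (h : B ≤ A) : A ≤ normalizer (centralizer (B : Set G) : Set G) :=
  (elemAb_le_centralizer hA le_rfl h).trans le_normalizer

omit [Finite G] hp in
theorem elemAb_normalizes_centralizer_singleton {A : Subgroup G} (hA : IsElementaryAbelian p A)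
    {a : G} (h : a ∈ A) : A ≤ normalizer (centralizer {a} : Set G) :=
  (elemAb_le_centralizer_singleton hA h).trans le_normalizer

theorem elemAb_not_isCyclic {A : Subgroup G} (hA : IsElementaryAbelian p A)
    (h : p ^ 2 ≤ Nat.card A) : ¬ IsCyclic A := by
  intro hc
  obtain ⟨g, hg⟩ := hc.exists_ofOrder_eq_natCard
  have h1 : orderOf g ∣ p := orderOf_dvd_of_pow_eq_one (Subtype.ext (hA.2 g g.2))
  have h2 := Nat.le_of_dvd hp.out.pos h1
  have := hp.out.one_lt
  rw [← hg] at h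
  nlinarith

omit [Finite G] in
theorem elemAb_relIndex_sup {A D : Subgroup G} (hA : IsElementaryAbelian p A) (hD : D ≤ A) {a : G}
    (ha : a ∈ A) (h : a ∉ D) : D.relIndex (D ⊔ zpowers a) = p := by
  rw [sup_comm, Core.relIndex_sup_of_le_normalizer (elemAb_normalizes hA (zpowers_le.2 ha) hD)]
  have h1 : orderOf a = p := orderOf_eq_of_elemAb hA ha fun e => h (e ▸ D.one_mem)
  have h2 : D.relIndex (zpowers a) ∣ p := by
    rw [← h1, ← Nat.card_zpowers]; exact relIndex_dvd_card _ _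
  refine ((Nat.dvd_prime hp.out).1 h2).resolve_left fun e => h ?_
  exact relIndex_eq_one.1 e (mem_zpowers a)

theorem le_of_hyperplanes_aux {A X H : Subgroup G} (hA : IsElementaryAbelian p A)
    (hX : (Nat.card X).Coprime p) (hAX : A ≤ normalizer (X : Set G)) (D : Subgroup G)
    (hD : D ≤ A) (hne : D ≠ A)
    (h : ∀ B, D ≤ B → B ≤ A → B.relIndex A = p → X ⊓ centralizer (B : Set G) ≤ H) :
    X ⊓ centralizer (D : Set G) ≤ H := by
  induction D using WellFoundedGT.induction with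
  | ind D ih =>
  by_cases hi : D.relIndex A = p
  · exact h D le_rfl hD hi
  obtain ⟨x, hx, hxD⟩ := SetLike.not_le_iff_exists.1 fun h => hne (le_antisymm hD h)
  have k : ∀ a ∈ A, a ∉ D → D ⊔ zpowers a ≠ A := fun a ha haD e =>
    hi (e ▸ elemAb_relIndex_sup hA hD ha haD)
  have hx' : D ⊔ zpowers x ≤ A := sup_le hD (zpowers_le.2 hx)
  obtain ⟨y, hy, hyD⟩ := SetLike.not_le_iff_exists.1 fun h => k x hx hxD (le_antisymm hx' h)
  set E := zpowers x ⊔ zpowers y with hE
  have hEA : E ≤ A := sup_le (zpowers_le.2 hx) (zpowers_le.2 hy)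
  have ox : orderOf x = p := orderOf_eq_of_elemAb hA hx fun e => hxD (e ▸ D.one_mem)
  have oy : orderOf y = p := orderOf_eq_of_elemAb hA hy fun e => hyD (e ▸ Subgroup.one_mem _)
  have c1 : Nat.card E ∣ p * p := by
    have := card_sup_dvd (elemAb_normalizes hA (zpowers_le.2 hx) (zpowers_le.2 hy))
    rwa [Nat.card_zpowers, Nat.card_zpowers, ox, oy] at this
  have c2 : D.relIndex E = p * p := by
    rw [← Core.relIndex_sup_of_le_normalizer (elemAb_normalizes hA hEA hD), sup_comm, hE,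
      ← sup_assoc, ← relIndex_mul_relIndex D (D ⊔ zpowers x) _ le_sup_left le_sup_left,
      elemAb_relIndex_sup hA hD hx hxD, elemAb_relIndex_sup hA hx' hy hyD]
  have c3 := Core.card_inf_mul_relIndex D E
  rw [c2] at c3
  have c4 : Nat.card ↥(D ⊓ E) = 1 := by
    have := Nat.le_of_dvd (Nat.mul_pos hp.out.pos hp.out.pos) c1
    have h0 : 0 < Nat.card ↥(D ⊓ E) := Nat.card_pos
    have h5 : 0 < p * p := Nat.mul_pos hp.out.pos hp.out.pos
    nlinarith
  rw [c4, one_mul] at c3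
  rw [card_eq_one] at c4
  refine Core.le_of_forall_inf_centralizer_le (elemAb_le hA hEA).1
    (elemAb_not_isCyclic (elemAb_le hA hEA) (by rw [← c3, sq]))
    (hEA.trans (inf_normalizer' hAX (elemAb_normalizes_centralizer hA hD)))
    (pgroup_coprime (elemAb_isPGroup (elemAb_le hA hEA)) (coprime_card_of_le inf_le_left hX))
    fun a ha ha1 => ?_
  have haD : a ∉ D := fun e => ha1 (mem_bot.1 (c4 ▸ (⟨e, ha⟩ : a ∈ D ⊓ E)))
  have := ih (D ⊔ zpowers a) (lt_of_le_of_ne le_sup_left fun e =>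
    haD (e ▸ mem_sup_right (mem_zpowers a))) (sup_le hD (zpowers_le.2 (hEA ha)))
    (k a (hEA ha) haD) fun B h1 => h B (le_sup_left.trans h1)
  rwa [centralizer_sup, centralizer_zpowers, ← inf_assoc] at this

/-- generation by the fixed points of hyperplanes -/
theorem le_of_hyperplanes {A X H : Subgroup G} (hA : IsElementaryAbelian p A) (hA1 : A ≠ ⊥)
    (hX : (Nat.card X).Coprime p) (hAX : A ≤ normalizer (X : Set G))
    (h : ∀ B, B ≤ A → B.relIndex A = p → X ⊓ centralizer (B : Set G) ≤ H) : X ≤ H := by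
  have := le_of_hyperplanes_aux hA hX hAX ⊥ bot_le hA1.symm fun B _ => h B
  refine le_trans (le_inf le_rfl ?_) this
  intro x _ y hy
  rw [SetLike.mem_coe, mem_bot] at hy
  rw [hy, one_mul, mul_one]

theorem exists_hyperplane_not_le {A X H : Subgroup G} (hA : IsElementaryAbelian p A)
    (hA1 : A ≠ ⊥) (hX : (Nat.card X).Coprime p) (hAX : A ≤ normalizer (X : Set G))
    (h : ¬ X ≤ H) : ∃ B, B ≤ A ∧ B.relIndex A = p ∧ ¬ X ⊓ centralizer (B : Set G) ≤ H := by
  by_contra hn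
  push Not at hn
  exact h (le_of_hyperplanes hA hA1 hX hAX hn)

theorem le_of_elements {A X H : Subgroup G} (hA : IsElementaryAbelian p A)
    (hA2 : p ^ 2 ≤ Nat.card A) (hX : (Nat.card X).Coprime p) (hAX : A ≤ normalizer (X : Set G))
    (h : ∀ a ∈ A, a ≠ 1 → X ⊓ centralizer {a} ≤ H) : X ≤ H :=
  Core.le_of_forall_inf_centralizer_le hA.1 (elemAb_not_isCyclic hA hA2) hAX
    (pgroup_coprime (elemAb_isPGroup hA) hX) h

omit [Finite G] in
theorem ne_bot_of_pow_le {A : Subgroup G} {k : ℕ} (hk : 1 ≤ k) (h : p ^ k ≤ Nat.card A) :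
    A ≠ ⊥ := by
  rintro rfl
  rw [card_bot] at h
  exact absurd h (Nat.one_lt_pow (by omega) hp.out.one_lt).not_ge

theorem card_hyperplane {A B : Subgroup G} {k : ℕ} (h : p ^ (k + 1) ≤ Nat.card A) (hB : B ≤ A)
    (hi : B.relIndex A = p) : p ^ k ≤ Nat.card B := by
  rw [← Core.card_mul_relIndex hB, hi, pow_succ] at h
  exact Nat.le_of_mul_le_mul_right h hp.out.pos

theorem card_inf_hyperplane {A B C : Subgroup G} {k : ℕ} (h : p ^ (k + 1) ≤ Nat.card C)
    (hC : C ≤ A) (hi : B.relIndex A = p) : p ^ k ≤ Nat.card ↥(B ⊓ C) := by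
  have h1 : B.relIndex C ≤ p := hi ▸ relIndex_le_of_le_right hC (Core.relIndex_pos _ _).ne'
  rw [← Core.card_inf_mul_relIndex B C, pow_succ] at h
  exact Nat.le_of_mul_le_mul_right (h.trans (Nat.mul_le_mul_left _ h1)) hp.out.pos

theorem exists_mem_hyperplanes {A B C : Subgroup G} (h : p ^ 3 ≤ Nat.card A) (hC : C ≤ A)
    (hi : B.relIndex A = p) (hj : C.relIndex A = p) : ∃ a, a ∈ B ∧ a ∈ C ∧ a ≠ 1 := by
  have := ne_bot_of_pow_le le_rfl (card_inf_hyperplane (k := 1) (card_hyperplane h hC hj) hC hi)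
  obtain ⟨⟨a, ha⟩, h1⟩ := ne_bot_iff_exists_ne_one.1 this
  exact ⟨a, ha.1, ha.2, fun e => h1 (Subtype.ext e)⟩

/-- In a group without `p`-components the `p'`-core of the centralizer of a `p`-subgroup lies in
the `p'`-core. -/
theorem Opp_centralizer_le_top {P : Subgroup G} (hL : PLay p (⊤ : Subgroup G) = ⊥)
    (hP : IsPGroup p P) : Opp p (centralizer (P : Set G)) ≤ Opp p ⊤ := by
  set f := QuotientGroup.mk' (pPrimeCore p G) with hf
  have hk : (Nat.card f.ker).Coprime p := by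
    have := ker_coprime (p := p) (⊤ : Subgroup G); rwa [top_inf_eq] at this
  have h0 : FStar (⊤ : Subgroup (G ⧸ pPrimeCore p G)) = Op p ⊤ := by
    refine FStar_eq_Op_iff.2 ⟨?_, Opp_quot⟩
    rw [Lay_top, ← PLay_map_quot, hL, Subgroup.map_bot]
  have h1 := (OE_centralizer_eq_bot (hP.map f) (le_normalizer_top _) h0).2
  rw [top_inf_eq, ← map_centralizer_eq f (QuotientGroup.mk'_surjective _) hk hP,
    ← Opp_map_eq f (ker_coprime _), Subgroup.map_eq_bot_iff, hf, QuotientGroup.ker_mk'] at h1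
  rwa [Opp_top]

theorem Opp_centralizer_le {H P : Subgroup G} (hL : PLay p H = ⊥) (hP : IsPGroup p P)
    (hPH : P ≤ H) : Opp p (H ⊓ centralizer (P : Set G)) ≤ Opp p H := by
  have h1 : PLay p (⊤ : Subgroup H) = ⊥ := by
    apply Subgroup.map_injective (subtype_injective H)
    rw [PLay_map (subtype_injective H), map_top_subtype, hL, Subgroup.map_bot]
  have h2 := map_mono (f := H.subtype) (Opp_centralizer_le_top h1 (Core.isPGroup_subgroupOf hP H))
  rwa [Opp_map (subtype_injective H), Opp_map (subtype_injective H), map_top_subtype,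
    Core.centralizer_subgroupOf hPH, subgroupOf_map_subtype, inf_comm] at h2

theorem Opp_normalizer_le {H P : Subgroup G} (hL : PLay p H = ⊥) (hP : IsPGroup p P)
    (hPH : P ≤ H) : Opp p (H ⊓ normalizer (P : Set G)) ≤ Opp p H := by
  rw [Opp_normalizer_eq hP hPH]; exact Opp_centralizer_le hL hP hPH

/-- a subgroup centralizing `O_{p',p}` modulo `O_{p'}` -/
theorem le_Opp_of_comm_top {U : Subgroup G} (hL : PLay p (⊤ : Subgroup G) = ⊥)
    (hU : (Nat.card U).Coprime p) (h : ⁅U, pPrimePCore p G⁆ ≤ Opp p ⊤) : U ≤ Opp p ⊤ := by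
  set f := QuotientGroup.mk' (pPrimeCore p G) with hf
  have h0 : FStar (⊤ : Subgroup (G ⧸ pPrimeCore p G)) = Op p ⊤ := by
    refine FStar_eq_Op_iff.2 ⟨?_, Opp_quot⟩
    rw [Lay_top, ← PLay_map_quot, hL, Subgroup.map_bot]
  have h1 : ⁅U.map f, Op p (⊤ : Subgroup (G ⧸ pPrimeCore p G))⁆ = ⊥ := by
    rw [Op_top, ← map_comap_eq_self_of_surjective (QuotientGroup.mk'_surjective (pPrimeCore p G))
      (pCore p _), ← map_commutator, Core.map_mk'_eq_bot_iff]
    exact h.trans Opp_top.le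
  have h2 : U.map f ≤ Op p ⊤ := (le_inf le_top (commutator_eq_bot_iff_le_centralizer.1 h1)).trans
    (FStar_eq_Op_iff'.1 h0)
  rw [Opp_top, ← Core.map_mk'_eq_bot_iff]
  exact eq_bot_of_pgroup_coprime ((Op_isPGroup _).to_le h2) (coprime_card_map _ hU)

/-- `O_{p',p}(H)` inside `G` -/
def Opq (p : ℕ) (H : Subgroup G) : Subgroup G := (pPrimePCore p H).map H.subtype

omit [Finite G] hp in
theorem Opq_le {H : Subgroup G} : Opq p H ≤ H := map_subtype_le _

omit hp in
theorem Opq_normalizer (H : Subgroup G) :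
    normalizer (H : Set G) ≤ normalizer (Opq p H : Set G) := by
  have : (pPrimePCore p H).Characteristic :=
    Subgroup.Characteristic.comap_quotient_mk (Core.pCore_characteristic p)
  exact Core.normalizer_le_normalizer_map_characteristic H _

omit hp in
theorem Opq_normal (H : Subgroup G) : H ≤ normalizer (Opq p H : Set G) :=
  le_normalizer.trans (Opq_normalizer H)

omit [Finite G] hp in
theorem Opp_le_Opq {H : Subgroup G} : Opp p H ≤ Opq p H := by
  rw [← Opp_eq]; exact map_mono (Core.le_comap_mk' _ _)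

theorem pow_mem_Opp_of_mem_Opq {H : Subgroup G} {x : G} (hx : x ∈ Opq p H) :
    ∃ k, x ^ p ^ k ∈ Opp p H := by
  obtain ⟨y, hy, rfl⟩ := hx
  have h1 : QuotientGroup.mk' (pPrimeCore p H) y ∈ Op p ⊤ := by rw [Op_top]; exact hy
  obtain ⟨k, hk⟩ := Core.isPGroup_iff_mem.1 (Op_isPGroup ⊤) _ h1
  refine ⟨k, ?_⟩
  rw [← Opp_eq]
  exact ⟨y ^ p ^ k, (QuotientGroup.eq_one_iff _).1 hk, rfl⟩

theorem le_Opq {H N : Subgroup G} (h1 : N ≤ H) (h2 : H ≤ normalizer (N : Set G))
    (h3 : ∀ x ∈ N, ∃ k, x ^ p ^ k ∈ Opp p H) : N ≤ Opq p H := by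
  have h4 : (N.subgroupOf H).map (QuotientGroup.mk' (pPrimeCore p H)) ≤ Op p ⊤ := by
    refine le_Op le_top ?_ (Core.isPGroup_iff_mem.2 ?_)
    · have := normal_subgroupOf_of_le_normalizer h2
      exact Core.normal_iff_top_le_normalizer.1 (this.map _ (QuotientGroup.mk'_surjective _))
    · rintro _ ⟨y, hy, rfl⟩
      obtain ⟨k, hk⟩ := h3 y hy
      rw [← Opp_eq] at hk
      obtain ⟨z, hz, e⟩ := hk
      refine ⟨k, ?_⟩
      rw [← map_pow, show y ^ p ^ k = z from Subtype.ext e.symm]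
      exact (QuotientGroup.eq_one_iff _).2 hz
  rw [Op_top, map_le_iff_le_comap] at h4
  exact (map_subgroupOf_eq_of_le h1).ge.trans (map_mono h4)

theorem Op_le_Opq {H : Subgroup G} : Op p H ≤ Opq p H :=
  le_Opq Op_le (Op_normal H) fun x hx => by
    obtain ⟨k, hk⟩ := Core.isPGroup_iff_mem.1 (Op_isPGroup H) x hx
    exact ⟨k, hk ▸ one_mem _⟩

theorem le_Opp_of_le_Opq {H U : Subgroup G} (h : U ≤ Opq p H) (hU : (Nat.card U).Coprime p) :
    U ≤ Opp p H := fun x hx => by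
  obtain ⟨k, hk⟩ := pow_mem_Opp_of_mem_Opq (h hx)
  exact mem_of_pow_mem_of_coprime ((orderOf_coprime_of_mem hU hx).pow_right k) hk

theorem Opq_eq_Op {H : Subgroup G} (h : Opp p H = ⊥) : Opq p H = Op p H :=
  le_antisymm (le_Op Opq_le (Opq_normal H) (Core.isPGroup_iff_mem.2 fun x hx => by
    simpa [h] using pow_mem_Opp_of_mem_Opq hx)) Op_le_Opq

theorem Opq_inf_le {H K : Subgroup G} (h : K ≤ H) : Opq p H ⊓ K ≤ Opq p K :=
  le_Opq inf_le_right (inf_normalizer (Opq_normal H) h) fun x hx => by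
    obtain ⟨k, hk⟩ := pow_mem_Opp_of_mem_Opq hx.1
    exact ⟨k, Opp_inf_le h ⟨hk, K.pow_mem hx.2 _⟩⟩

theorem le_Opp_of_comm {H U : Subgroup G} (hL : PLay p H = ⊥) (hUH : U ≤ H)
    (hU : (Nat.card U).Coprime p) (h : ⁅U, Opq p H⁆ ≤ Opp p H) : U ≤ Opp p H := by
  have h1 : PLay p (⊤ : Subgroup H) = ⊥ := by
    apply Subgroup.map_injective (subtype_injective H)
    rw [PLay_map (subtype_injective H), map_top_subtype, hL, Subgroup.map_bot]
  have h2 := le_Opp_of_comm_top (U := U.subgroupOf H) h1 (by rwa [Core.card_subgroupOf_of_le hUH])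
    (by rwa [← map_le_map_iff_of_injective (subtype_injective H), map_commutator,
      map_subgroupOf_eq_of_le hUH, Opp_map (subtype_injective H), map_top_subtype])
  have h3 := map_mono (f := H.subtype) h2
  rwa [map_subgroupOf_eq_of_le hUH, Opp_map (subtype_injective H), map_top_subtype] at h3

/-- a `p'`-subgroup normalized by a Sylow `p`-subgroup of `O_{p',p}` lies in the `p'`-core -/
theorem SylIn.Opq_le {H T : Subgroup G} (hT : SylIn p T (Opq p H)) : Opq p H ≤ T ⊔ Opp p H := by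
  have hn : T ≤ normalizer (Opp p H : Set G) := (hT.le.trans Comp.Opq_le).trans (Opp_normal H)
  have h1 : (T ⊔ Opp p H).relIndex (Opq p H) ∣ T.relIndex (Opq p H) :=
    relIndex_dvd_of_le_left _ le_sup_left
  have h2 : (T ⊔ Opp p H).relIndex (Opq p H) ∣ (Opp p H).relIndex (Opq p H) :=
    relIndex_dvd_of_le_left _ le_sup_right
  have : ((Opp p H).subgroupOf (Opq p H)).Normal :=
    normal_subgroupOf_of_le_normalizer (Comp.Opq_le.trans (Opp_normal H))
  have h3 : IsPGroup p (Opq p H ⧸ (Opp p H).subgroupOf (Opq p H)) := by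
    intro x
    induction x using QuotientGroup.induction_on with
    | H x =>
    obtain ⟨k, hk⟩ := pow_mem_Opp_of_mem_Opq x.2
    exact ⟨k, by rw [← QuotientGroup.mk_pow, QuotientGroup.eq_one_iff]; exact hk⟩
  obtain ⟨n, hn⟩ := h3.exists_card_eq
  have h4 : (Opp p H).relIndex (Opq p H) = p ^ n := hn
  rw [h4] at h2
  obtain ⟨m, -, hm⟩ := (Nat.dvd_prime_pow hp.out).1 h2
  rw [← relIndex_eq_one, hm]
  rcases m with _ | m
  · rfl
  · exact absurd ((dvd_pow_self p m.succ_ne_zero).trans (hm ▸ h1)) hT.idx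

theorem le_Opp_of_normalized {H T U : Subgroup G} (hL : PLay p H = ⊥) (hT : SylIn p T (Opq p H))
    (hUH : U ≤ H) (hU : (Nat.card U).Coprime p) (h : T ≤ normalizer (U : Set G)) :
    U ≤ Opp p H := by
  refine le_Opp_of_comm hL hUH hU ((commutator_mono le_rfl hT.Opq_le).trans ?_)
  rw [Subgroup.commutator_comm]
  refine comm_sup_left_le ((hT.le.trans Opq_le).trans (Opp_normal H)) le_normalizer ?_
    (le_normalizer_iff_commutator_le_left.1 (hUH.trans (Opp_normal H)))
  refine le_Opp_of_le_Opq ((commutator_mono hT.le le_rfl).trans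
    (le_normalizer_iff_commutator_le_left.1 (hUH.trans (Opq_normal H)))) (coprime_card_of_le
      (le_normalizer_iff_commutator_le_right.1 h) hU)

/-- KS 11.2.2 -/
theorem le_Opp_of_hyperplanes {A K U : Subgroup G} (hA : IsElementaryAbelian p A) (hA1 : A ≠ ⊥)
    (hK : (Nat.card K).Coprime p) (hAK : A ≤ normalizer (K : Set G)) {q : ℕ} [Fact q.Prime]
    (hL : PLay q K = ⊥) (hU : U ≤ K) (hUq : (Nat.card U).Coprime q)
    (h : ∀ B, B ≤ A → B.relIndex A = p →
      (Nat.card ↥⁅U, K ⊓ centralizer (B : Set G)⁆).Coprime q) : U ≤ Opp q K := by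
  refine le_Opp_of_comm hL hU hUq ?_
  have h1 : Opq q K ≤ sSup {Y | ∃ B, B ≤ A ∧ B.relIndex A = p ∧
      Y = Opq q K ⊓ centralizer (B : Set G)} :=
    le_of_hyperplanes hA hA1 (coprime_card_of_le Opq_le hK) (hAK.trans (Opq_normalizer K))
      fun B h1 h2 => le_sSup ⟨B, h1, h2, rfl⟩
  rw [Subgroup.commutator_comm]
  refine (commutator_mono h1 le_rfl).trans (comm_sSup_left_le ?_ ?_)
  · rintro _ ⟨B, -, -, rfl⟩
    exact (inf_le_left.trans Opq_le).trans (Opp_normal K)
  · rintro _ ⟨B, h1, h2, rfl⟩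
    refine le_Opp_of_le_Opq ((commutator_mono inf_le_left le_rfl).trans
      (le_normalizer_iff_commutator_le_left.1 (hU.trans (Opq_normal K)))) ?_
    rw [Subgroup.commutator_comm]
    exact coprime_card_of_le (commutator_mono le_rfl (inf_le_inf_right _ Opq_le)) (h B h1 h2)

/-- KS 11.1.7 -/
theorem exists_elt_normalizer_meet {A Q₁ Q₂ : Subgroup G} (hA : IsElementaryAbelian p A)
    (hA3 : p ^ 3 ≤ Nat.card A) {q : ℕ} [Fact q.Prime] (h₁ : IsPGroup q Q₁) (h₂ : IsPGroup q Q₂)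
    (c₁ : (Nat.card Q₁).Coprime p) (c₂ : (Nat.card Q₂).Coprime p)
    (hA₁ : A ≤ normalizer (Q₁ : Set G)) (hA₂ : A ≤ normalizer (Q₂ : Set G))
    (hD₁ : Q₁ ⊓ Q₂ ≠ Q₁) (hD₂ : Q₁ ⊓ Q₂ ≠ Q₂) : ∃ a ∈ A, a ≠ 1 ∧
      ¬ (normalizer ((Q₁ ⊓ Q₂ : Subgroup G) : Set G) ⊓ Q₁ ⊓ centralizer {a} ≤ Q₁ ⊓ Q₂) ∧
      ¬ (normalizer ((Q₁ ⊓ Q₂ : Subgroup G) : Set G) ⊓ Q₂ ⊓ centralizer {a} ≤ Q₁ ⊓ Q₂) := by
  have hA1 := ne_bot_of_pow_le (by norm_num) hA3
  have key : ∀ Q : Subgroup G, IsPGroup q Q → (Nat.card Q).Coprime p →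
      A ≤ normalizer (Q : Set G) → Q₁ ⊓ Q₂ < Q → ∃ B, B ≤ A ∧ B.relIndex A = p ∧
        ¬ normalizer ((Q₁ ⊓ Q₂ : Subgroup G) : Set G) ⊓ Q ⊓ centralizer (B : Set G) ≤ Q₁ ⊓ Q₂ := by
    intro Q hQ hc hn hlt
    refine exists_hyperplane_not_le hA hA1 (coprime_card_of_le inf_le_right hc)
      (inf_normalizer' ((inf_normalizer' hA₁ hA₂).trans le_normalizer) hn) ?_
    rw [inf_comm]
    exact (Core.lt_inf_normalizer_of_isNilpotent hQ.isNilpotent hlt).not_ge
  obtain ⟨B, b1, b2, b3⟩ := key Q₁ h₁ c₁ hA₁ (lt_of_le_of_ne inf_le_left hD₁)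
  obtain ⟨C, d1, d2, d3⟩ := key Q₂ h₂ c₂ hA₂ (lt_of_le_of_ne inf_le_right hD₂)
  obtain ⟨a, ha, hb, h1⟩ := exists_mem_hyperplanes hA3 d1 b2 d2
  exact ⟨a, b1 ha, h1, fun h => b3 (le_trans (inf_le_inf_left _
    (centralizer_le (Set.singleton_subset_iff.2 ha))) h), fun h => d3 (le_trans (inf_le_inf_left _
    (centralizer_le (Set.singleton_subset_iff.2 hb))) h)⟩

end Cfsg.Agent.Comp
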