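import Cfsg.Agent.Comp.PLocal

/-! Balance: reduction to automorphism groups of components. -/

set_option autoImplicit false

namespace Cfsg.Agent.Comp

open Subgroup
open scoped commutatorElement

variable {G : Type*} [Group G]

theorem le_normalizer_top (P : Subgroup G) : P ≤ normalizer ((⊤ : Subgroup G) : Set G) :=
  le_top.trans le_normalizer

theorem cppc_eq (p : ℕ) (x : G) : centralizerPPrimeCore p x = Opp p (centralizer {x}) := Opp_eq _

/-- action of automorphisms on the central quotient -/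
def autQuot (K : Type*) [Group K] : MulAut K →* MulAut (K ⧸ center K) where
  toFun e := QuotientGroup.congr (center K) (center K) e
    (characteristic_iff_map_eq.1 inferInstance e)
  map_one' := by
    ext x; induction x using QuotientGroup.induction_on; rfl
  map_mul' a b := by
    ext x; induction x using QuotientGroup.induction_on; rfl

theorem autQuot_mk {K : Type*} [Group K] (e : MulAut K) (x : K) :
    autQuot K e (x : K ⧸ center K) = (e x : K) := rfl

/-- action of the normalizer of `L` on `L / Z(L)` -/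
def normAut (L : Subgroup G) : normalizer (L : Set G) →* MulAut (L ⧸ center L) :=
  (autQuot L).comp L.normalizerMonoidHom

theorem normAut_eq_one_iff {L : Subgroup G} (hL : ⁅L, L⁆ = L) (g : normalizer (L : Set G)) :
    normAut L g = 1 ↔ (g : G) ∈ centralizer (L : Set G) := by
  constructor
  · intro h
    rw [← zpowers_le, ← commutator_eq_bot_iff_le_centralizer]
    refine comm_bot_of_perfect hL ?_
    rw [commutator_eq_bot_iff_le_centralizer, commutator_le]
    intro a ha l hl
    obtain ⟨n, rfl⟩ := mem_zpowers_iff.1 ha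
    have h3 : normAut L (g ^ n) (⟨l⁻¹, inv_mem hl⟩ : L) = (⟨l⁻¹, inv_mem hl⟩ : L) := by
      rw [map_zpow, h]; simp
    have h4 := QuotientGroup.eq.1 h3
    intro y hy
    have := congrArg Subtype.val (mem_center_iff.1 h4 ⟨y, hy⟩)
    change y * (((g : G) ^ n * l⁻¹ * ((g : G) ^ n)⁻¹)⁻¹ * l⁻¹) =
      (((g : G) ^ n * l⁻¹ * ((g : G) ^ n)⁻¹)⁻¹ * l⁻¹) * y at this
    simpa [commutatorElement_def, mul_assoc] using this
  · intro h
    ext x
    induction x using QuotientGroup.induction_on with
    | H x =>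
    change ((L.normalizerMonoidHom g x : L) : L ⧸ center L) = x
    congr 1
    apply Subtype.ext
    have := h x x.2
    change (g : G) * x * (g : G)⁻¹ = x
    rw [← this]; simp

theorem normAut_of_mem {L : Subgroup G} (l : L) :
    normAut L ⟨l, le_normalizer l.2⟩ = MulAut.conj (l : L ⧸ center L) := by
  ext x
  induction x using QuotientGroup.induction_on with
  | H x => rfl

variable [Finite G] {p : ℕ} [Fact p.Prime]

theorem CompIn.Opp_le_of_faithful {Q : Type*} [Group Q] {L H : Subgroup G} (hL : CompIn L ⊤)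
    (hO : Opp p (⊤ : Subgroup G) = ⊥) {W Y : Subgroup G} {x : G} (hx : orderOf x = p)
    (hH : H = W ⊔ L) (hxW : x ∈ W) (hW : W ≤ centralizer {x}) (hWL : W ≤ normalizer (L : Set G))
    (hY : Y ≤ Opp p (centralizer {x})) (hYW : Y ≤ W) (f : H →* Q) (hf : Function.Surjective f)
    (hk : ∀ g : H, f g = 1 → (g : G) ∈ centralizer (L : Set G)) (hxH : x ∈ H) :
    (Y.subgroupOf H).map f ≤ Opp p (centralizer {f ⟨x, hxH⟩}) := by
  have hpx := isPGroup_zpowers_of_orderOf hx
  have h1 := Opp_centralizer_le_sup (H := ⊤) hpx (le_normalizer_top _)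
  rw [centralizer_zpowers, top_inf_eq] at h1
  set C : Subgroup H := (centralizer {f ⟨x, hxH⟩}).comap f with hC
  have h2 : C.map H.subtype ≤ ⊤ ⊓ normalizer ((zpowers x ⊔ Op p ⊤ : Subgroup G) : Set G) := by
    rintro _ ⟨g, hg, rfl⟩
    refine hL.mem_normalizer_sup_Op hO (hWL hxW) (le_inf le_top hW) hWL (hH ▸ g.2) ?_
    refine hk ⁅g⁻¹, ⟨x, hxH⟩⁆ ?_
    rw [map_commutatorElement, commutatorElement_eq_one_iff_mul_comm]
    exact mem_centralizer_singleton_iff.1 (C.inv_mem hg)
  have hYH : Y ≤ H := hYW.trans (hH ▸ le_sup_left)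
  have h3 : Y ≤ C.map H.subtype := fun y hy => ⟨⟨y, hYH hy⟩, by
    change f _ ∈ centralizer _
    rw [mem_centralizer_singleton_iff, ← map_mul, ← map_mul]
    congr 1
    exact Subtype.ext (mem_centralizer_singleton_iff.1 (hW (hYW hy))), rfl⟩
  have h4 : Y ≤ (Opp p C).map H.subtype := by
    rw [Opp_map (subtype_injective H)]
    exact (le_inf (hY.trans h1) h3).trans (Opp_inf_le h2)
  have h5 : Y.subgroupOf H ≤ Opp p C := by
    rw [← map_le_map_iff_of_injective (subtype_injective H), subgroupOf_map_subtype]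
    exact inf_le_left.trans h4
  refine (map_mono h5).trans ((Opp_map_le f C).trans ?_)
  rw [hC, map_comap_eq_self_of_surjective hf]

/-- a group acting faithfully on a component it contains has no normal `p'`-subgroup -/
theorem Opp_eq_bot_of_faithful {Q : Type*} [Group Q] {L H : Subgroup G} (hL : QS L)
    (hd : ¬ (Nat.card L).Coprime p) (h1 : L ≤ H) (h2 : H ≤ normalizer (L : Set G))
    (f : H →* Q) (hf : Function.Surjective f)
    (hk : ∀ g : H, f g = 1 ↔ (g : G) ∈ centralizer (L : Set G)) : Opp p (⊤ : Subgroup Q) = ⊥ := by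
  have : Finite Q := Finite.of_surjective f hf
  set R : Subgroup G := ((Opp p ⊤).comap f).map H.subtype with hR
  have hRH : H ≤ normalizer (R : Set G) := by
    have : (⊤ : Subgroup H) ≤ normalizer (((Opp p ⊤).comap f : Subgroup H) : Set H) := by
      have := normalizer_comap_inf (f := f) (K := ⊤) (N := Opp p ⊤) (le_top.trans (Opp_normal ⊤))
      rwa [inf_top_eq] at this
    calc H = (⊤ : Subgroup H).map H.subtype := (map_top_subtype H).symm
      _ ≤ _ := (map_mono this).trans (le_normalizer_map _)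
  have hRL : ⁅R, L⁆ = ⊥ := by
    rcases hL.normal (R ⊓ L) inf_le_right (inf_normalizer' (h1.trans hRH) le_normalizer) with h | h
    · exfalso
      refine hd (coprime_of_perfect_of_center (Z := L ⊓ centralizer (L : Set G)) hL.perfect
        (commutator_eq_bot_iff_le_centralizer.2 inf_le_right) ?_)
      have e1 : (L.subgroupOf H).map f ≤ Opp p ⊤ := by
        rintro _ ⟨g, hg, rfl⟩
        have : (g : G) ∈ R := (inf_eq_right.1 h) hg
        obtain ⟨g', hg', e⟩ := this
        rwa [← Subtype.ext e]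
      have e2 := coprime_card_of_le e1 (Opp_coprime ⊤)
      rw [← coprime_iff_not_dvd']
      convert e2 using 1
      rw [← relIndex_ker, ← relIndex_subgroupOf h1, ← inf_relIndex_right f.ker]
      congr 1
      ext g
      simp only [mem_subgroupOf, mem_inf, MonoidHom.mem_ker, hk, and_comm]
    · refine comm_bot_of_perfect hL.perfect (comm_bot_mono h (le_inf ?_ ?_) le_rfl)
      · exact le_normalizer_iff_commutator_le_left.1 (h1.trans hRH)
      · exact le_normalizer_iff_commutator_le_right.1 ((map_subtype_le _).trans h2)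
  rw [eq_bot_iff]
  intro q hq
  obtain ⟨g, rfl⟩ := hf q
  exact (hk g).2 (commutator_eq_bot_iff_le_centralizer.1 hRL ⟨g, hq, rfl⟩)

theorem exists_ne_one_of_card {A : Subgroup G} {k : ℕ} (hk : 1 ≤ k) (hA : Nat.card A = p ^ k) :
    ∃ a ∈ A, a ≠ 1 := by
  by_contra h
  push Not at h
  have : A = ⊥ := (eq_bot_iff_forall _).2 h
  rw [this, card_bot] at hA
  exact absurd hA (Nat.one_lt_pow (by omega) (Fact.out : p.Prime).one_lt).ne

omit [Finite G] in
theorem orderOf_eq_of_elemAb {A : Subgroup G} (hA : IsElementaryAbelian p A) {a : G} (ha : a ∈ A)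
    (h1 : a ≠ 1) : orderOf a = p := orderOf_eq_prime (hA.2 a ha) h1

omit [Finite G] [Fact p.Prime] in
theorem elemAb_isPGroup {A : Subgroup G} (hA : IsElementaryAbelian p A) : IsPGroup p A :=
  fun a => ⟨1, Subtype.ext (by simpa using hA.2 a a.2)⟩

omit [Finite G] [Fact p.Prime] in
theorem elemAb_comm {A : Subgroup G} (hA : IsElementaryAbelian p A) {a b : G} (ha : a ∈ A)
    (hb : b ∈ A) : a * b = b * a :=
  congrArg Subtype.val (hA.1.is_comm.comm ⟨a, ha⟩ ⟨b, hb⟩)

omit [Finite G] [Fact p.Prime] in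
theorem elemAb_of {A : Subgroup G} (h1 : ∀ a ∈ A, ∀ b ∈ A, a * b = b * a)
    (h2 : ∀ a ∈ A, a ^ p = 1) : IsElementaryAbelian p A :=
  ⟨⟨⟨fun a b => Subtype.ext (h1 a a.2 b b.2)⟩⟩, h2⟩

omit [Finite G] [Fact p.Prime] in
theorem elemAb_map {G' : Type*} [Group G'] (f : G →* G') {A : Subgroup G}
    (hA : IsElementaryAbelian p A) : IsElementaryAbelian p (A.map f) := by
  refine elemAb_of ?_ ?_
  · rintro _ ⟨a, ha, rfl⟩ _ ⟨b, hb, rfl⟩
    rw [← map_mul, ← map_mul, elemAb_comm hA ha hb]
  · rintro _ ⟨a, ha, rfl⟩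
    rw [← map_pow, hA.2 a ha, map_one]

omit [Finite G] [Fact p.Prime] in
theorem elemAb_le {A B : Subgroup G} (hA : IsElementaryAbelian p A) (h : B ≤ A) :
    IsElementaryAbelian p B :=
  elemAb_of (fun _ ha _ hb => elemAb_comm hA (h ha) (h hb)) fun a ha => hA.2 a (h ha)

omit [Finite G] [Fact p.Prime] in
theorem elemAb_subgroupOf {A : Subgroup G} (hA : IsElementaryAbelian p A) (H : Subgroup G) :
    IsElementaryAbelian p (A.subgroupOf H) :=
  elemAb_of (fun _ ha _ hb => Subtype.ext (elemAb_comm hA ha hb)) fun a ha =>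
    Subtype.ext (hA.2 a ha)

omit [Finite G] [Fact p.Prime] in
theorem delta_le {A : Subgroup G} {a : G} (ha : a ∈ A) (h1 : a ≠ 1) :
    signalizerDelta p A ≤ Opp p (centralizer {a}) := by
  rw [← cppc_eq]; exact iInf_le (fun a : {a : G // a ∈ A ∧ a ≠ 1} => _) ⟨a, ha, h1⟩

omit [Finite G] [Fact p.Prime] in
theorem le_delta {A Y : Subgroup G} (h : ∀ a ∈ A, a ≠ 1 → Y ≤ Opp p (centralizer {a})) :
    Y ≤ signalizerDelta p A := le_iInf fun a => by rw [cppc_eq]; exact h a a.2.1 a.2.2

omit [Finite G] in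
theorem card_map_of_inf_ker {G' : Type*} [Group G'] (f : G →* G') {A : Subgroup G}
    (h : A ⊓ f.ker = ⊥) : Nat.card (A.map f) = Nat.card A := by
  rw [← relIndex_ker, ← inf_relIndex_right, inf_comm, h, relIndex_bot_left]

theorem delta_eq_bot_of_locally {k : ℕ} (hk : 1 ≤ k) (hO : Opp p (⊤ : Subgroup G) = ⊥)
    (h : ∀ K : Subgroup G, IsComponent K → IsLocallyKBalanced p k (K ⧸ center K))
    {A : Subgroup G} (hA : IsElementaryAbelian p A) (hc : Nat.card A = p ^ k) :
    signalizerDelta p A = ⊥ := by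
  obtain ⟨a₀, ha₀, ha₁⟩ := exists_ne_one_of_card hk hc
  set Y := signalizerDelta p A with hY
  have hp0 := isPGroup_zpowers_of_orderOf (orderOf_eq_of_elemAb hA ha₀ ha₁)
  have hY0 : Y ≤ OE p (⊤ ⊓ centralizer ((zpowers a₀ : Subgroup G) : Set G)) := by
    rw [centralizer_zpowers, top_inf_eq]; exact (delta_le ha₀ ha₁).trans le_sup_right
  refine eq_bot_of_comm_components hO le_top
    (coprime_card_of_le (delta_le ha₀ ha₁) (Opp_coprime _))
    (comm_bot_mono (OE_centralizer_comm_Op hp0 (le_normalizer_top _)) hY0 le_rfl) fun L hL => ?_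
  by_contra hne
  have h1 : ∀ a ∈ A, a ≠ 1 → ⁅L, zpowers a⁆ = L := fun a ha h1 =>
    (hL.comm_Opp_centralizer hO (orderOf_eq_of_elemAb hA ha h1) (le_normalizer (mem_top a))).resolve_left
      fun e => hne (comm_bot_mono e le_rfl (by rw [top_inf_eq]; exact delta_le ha h1))
  have hAL : A ≤ normalizer (L : Set G) := fun a ha => by
    by_cases e : a = 1
    · rw [e]; exact one_mem _
    · exact zpowers_le.1 (le_normalizer_iff_commutator_le_left.2 (h1 a ha e).le)
  have hYL : Y ≤ normalizer (L : Set G) :=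
    hY0.trans (hL.OE_centralizer_normalizes hO hp0 (le_normalizer_top _))
  set H := (Y ⊔ A) ⊔ L with hH
  have hHL : H ≤ normalizer (L : Set G) := sup_le (sup_le hYL hAL) le_normalizer
  set φ := (normAut L).comp (inclusion hHL) with hφ
  have hker : ∀ g : H, φ.rangeRestrict g = 1 ↔ (g : G) ∈ centralizer (L : Set G) := fun g =>
    Subtype.ext_iff.trans (normAut_eq_one_iff hL.2.perfect (inclusion hHL g))
  have hAH : A ≤ H := le_sup_right.trans le_sup_left
  have hinj : A.subgroupOf H ⊓ φ.rangeRestrict.ker = ⊥ := by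
    rw [eq_bot_iff_forall]
    intro a ha
    by_contra e
    have e' : (a : G) ≠ 1 := fun e' => e (Subtype.ext e')
    have := h1 a ha.1 e'
    rw [comm_bot_symm (commutator_eq_bot_iff_le_centralizer.2 (zpowers_le.2 ((hker a).1 ha.2)))]
      at this
    exact hL.2.ne_bot this.symm
  have h2 := h L (compIn_top.1 hL) φ.range (by
      rintro _ ⟨l, rfl⟩
      induction l using QuotientGroup.induction_on with
      | H l => exact ⟨⟨l, mem_sup_right l.2⟩, normAut_of_mem l⟩)
    ((A.subgroupOf H).map φ.rangeRestrict) (elemAb_map _ (elemAb_subgroupOf hA H))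
    (by rw [card_map_of_inf_ker _ hinj, ← hc]; exact Nat.card_congr (subgroupOfEquivOfLe hAH).toEquiv)
  have h3 : (Y.subgroupOf H).map φ.rangeRestrict ≤ ⊥ := by
    rw [← h2]
    refine le_delta ?_
    rintro _ ⟨a, ha, rfl⟩ hne1
    have e' : (a : G) ≠ 1 := fun e' => hne1 (by rw [show a = 1 from Subtype.ext e', map_one])
    replace ha : (a : G) ∈ A := ha
    refine hL.Opp_le_of_faithful hO (orderOf_eq_of_elemAb hA ha e') hH (mem_sup_right ha)
      (sup_le ((delta_le ha e').trans Opp_le) fun b hb =>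
        mem_centralizer_singleton_iff.2 (elemAb_comm hA hb ha)) (sup_le hYL hAL) (delta_le ha e')
      le_sup_left _ φ.rangeRestrict_surjective (fun g hg => (hker g).1 hg) a.2
  refine hne (comm_bot_symm (commutator_eq_bot_iff_le_centralizer.2 fun y hy => ?_))
  exact (hker ⟨y, mem_sup_left (mem_sup_left hy)⟩).1 (h3 ⟨_, hy, rfl⟩)

/-- passing to the quotient of `C(b)` by its `p'`-core -/
theorem map_le_Opp_centralizer_quot {C Y : Subgroup G} {a : G} (ha : a ∈ C)
    (hp : IsPGroup p (zpowers a)) (hY : Y ≤ Opp p (centralizer {a})) :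
    (Y.subgroupOf C).map (QuotientGroup.mk' (pPrimeCore p C)) ≤
      Opp p (centralizer {QuotientGroup.mk' (pPrimeCore p C) ⟨a, ha⟩}) := by
  have hk : (Nat.card (QuotientGroup.mk' (pPrimeCore p C)).ker).Coprime p := by
    have := ker_coprime (p := p) (⊤ : Subgroup C); rwa [top_inf_eq] at this
  have hp' : IsPGroup p (zpowers (⟨a, ha⟩ : C)) := by
    rw [← isPGroup_map_iff (subtype_injective C), MonoidHom.map_zpowers]; exact hp
  rw [← map_centralizer_singleton_eq _ (QuotientGroup.mk'_surjective _) hk hp']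
  refine (map_mono ?_).trans (Opp_map_le _ _)
  rw [← map_le_map_iff_of_injective (subtype_injective C), subgroupOf_map_subtype,
    Opp_map (subtype_injective C)]
  have e : (centralizer {(⟨a, ha⟩ : C)}).map C.subtype = centralizer {a} ⊓ C := by
    ext x
    simp only [mem_map, mem_centralizer_singleton_iff, mem_inf, coe_subtype]
    exact ⟨fun ⟨y, hy, e⟩ => e ▸ ⟨congrArg Subtype.val hy, y.2⟩,
      fun ⟨h1, h2⟩ => ⟨⟨x, h2⟩, Subtype.ext h1, rfl⟩⟩
  rw [e]
  exact (le_inf (inf_le_left.trans hY) (inf_le_inf_right _ (hY.trans Opp_le))).trans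
    (Opp_inf_le inf_le_left)

end Cfsg.Agent.Comp
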