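import Cfsg.Agent.Comp.TI2
import Cfsg.Agent.Inv.Strong
import Cfsg.Agent.Inv.Two

/-! Commuting graphs of elementary abelian subgroups of `p`-groups. -/

set_option autoImplicit false

namespace Cfsg.Agent.Comp

open Subgroup
open scoped commutatorElement Pointwise IsMulCommutative

variable {G : Type*} [Group G] [Finite G] {p : ℕ} [hp : Fact p.Prime]

omit [Finite G] hp in
theorem elemAb_sup {A B : Subgroup G} (hA : IsElementaryAbelian p A) (hB : IsElementaryAbelian p B)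
    (h : A ≤ centralizer (B : Set G)) : IsElementaryAbelian p (A ⊔ B) := by
  refine ⟨Core.isMulCommutative_sup hA.1 hB.1 h, fun x hx => ?_⟩
  obtain ⟨a, ha, b, hb, rfl⟩ := (mem_sup_of_normalizes (h.trans (centralizer_le_normalizer _))).1 hx
  rw [(show Commute a b from (h ha b hb).symm).mul_pow, hA.2 a ha, hB.2 b hb, mul_one]

omit [Finite G] hp in
theorem elemAb_zpowers {x : G} (h : x ^ p = 1) : IsElementaryAbelian p (zpowers x) :=
  ⟨inferInstance, by rintro _ ⟨k, rfl⟩; rw [← zpow_natCast, ← zpow_mul, mul_comm, zpow_mul,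
    zpow_natCast, h, one_zpow]⟩

omit [Finite G] hp in
theorem elemAb_sup_zpowers {A : Subgroup G} (hA : IsElementaryAbelian p A) {x : G} (h : x ^ p = 1)
    (hx : x ∈ centralizer (A : Set G)) : IsElementaryAbelian p (A ⊔ zpowers x) :=
  elemAb_sup hA (elemAb_zpowers h) (le_centralizer_iff.1 (zpowers_le.2 hx))

theorem card_sup_zpowers_elemAb {A : Subgroup G} (hA : IsElementaryAbelian p A) {x : G}
    (h : x ^ p = 1) (hx : x ∈ centralizer (A : Set G)) (hn : x ∉ A) :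
    Nat.card ↥(A ⊔ zpowers x) = Nat.card A * p := by
  rw [← Core.card_mul_relIndex (le_sup_left : A ≤ A ⊔ zpowers x),
    elemAb_relIndex_sup (elemAb_sup_zpowers hA h hx) le_sup_left (mem_sup_right (mem_zpowers x)) hn]

theorem pow_succ_le_card {A : Subgroup G} (hA : IsPGroup p A) {k : ℕ} (h : p ^ k < Nat.card A) :
    p ^ (k + 1) ≤ Nat.card A := by
  obtain ⟨n, hn⟩ := hA.exists_card_eq
  rw [hn] at h ⊢
  exact Nat.pow_le_pow_right hp.out.pos ((Nat.pow_lt_pow_iff_right hp.out.one_lt).1 h)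

theorem card_le_pow_of_lt {A : Subgroup G} (hA : IsPGroup p A) {k : ℕ}
    (h : Nat.card A < p ^ (k + 1)) : Nat.card A ≤ p ^ k :=
  not_lt.1 fun e => (pow_succ_le_card hA e).not_gt h

theorem exists_elemAb_of_not_rank {X : Type*} [Group X] [Finite X] {k : ℕ} (h : ¬ PRankLE p k X) :
    ∃ E : Subgroup X, IsElementaryAbelian p E ∧ p ^ (k + 1) ≤ Nat.card E := by
  unfold PRankLE at h
  push Not at h
  obtain ⟨E, h1, h2, h3⟩ := h
  exact ⟨E, ⟨h1, h2⟩, pow_succ_le_card (elemAb_isPGroup ⟨h1, h2⟩) h3⟩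

theorem not_rank_iff {X : Subgroup G} {k : ℕ} : ¬ PRankLE p k X ↔
    ∃ E ≤ X, IsElementaryAbelian p E ∧ p ^ (k + 1) ≤ Nat.card E := by
  rw [Inv.pRankLE_iff]
  push Not
  exact ⟨fun ⟨E, h0, h1, h2, h3⟩ => ⟨E, h0, ⟨h1, h2⟩, pow_succ_le_card (elemAb_isPGroup ⟨h1, h2⟩) h3⟩,
    fun ⟨E, h0, h1, h2⟩ => ⟨E, h0, h1.1, h1.2,
      lt_of_lt_of_le (Nat.pow_lt_pow_right hp.out.one_lt k.lt_succ_self) h2⟩⟩

theorem card_le_pow_ker {V : Type*} [Group V] [Finite V] (f : V →* V) (n : ℕ) (W : Subgroup V)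
    (h : ∀ w ∈ W, f^[n] w = 1) : Nat.card W ≤ Nat.card f.ker ^ n := by
  induction n generalizing W with
  | zero => rw [(eq_bot_iff_forall W).2 h]; simp
  | succ n ih =>
    rw [← Core.card_map_mul_card_inf_ker W f, pow_succ]
    refine Nat.mul_le_mul (ih _ ?_) (card_le_of_le inf_le_right)
    rintro _ ⟨w, hw, rfl⟩
    exact h w hw

omit hp in
theorem card_le_pow_centralizer {E : Subgroup G} (hE : IsMulCommutative E) {x : G}
    (hx : x ∈ normalizer (E : Set G)) (n : ℕ)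
    (h : ∀ (σ : E →* E), (∀ e, ((σ e : E) : G) = x * e * x⁻¹) →
      ∀ e, (σ / MonoidHom.id E)^[n] e = 1) :
    Nat.card E ≤ Nat.card ↥(E ⊓ centralizer {x}) ^ n := by
  let σ : E →* E := (E.normalizerMonoidHom ⟨x, hx⟩).toMonoidHom
  have h1 := card_le_pow_ker (σ / MonoidHom.id E) n ⊤ fun e _ => h σ (fun _ => rfl) e
  have h2 : (σ / MonoidHom.id E).ker = (centralizer {x}).subgroupOf E := by
    ext e
    rw [MonoidHom.mem_ker, MonoidHom.div_apply, div_eq_one, mem_subgroupOf,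
      mem_centralizer_singleton_iff, ← Subtype.val_inj]
    exact mul_inv_eq_iff_eq_mul.trans eq_comm
  rwa [card_top, h2, Core.card_subgroupOf, inf_comm] at h1

omit hp in
theorem card_le_sq_centralizer {E : Subgroup G} (hE : IsElementaryAbelian 2 E) {x : G}
    (hx : x ∈ normalizer (E : Set G)) (h2 : x ^ 2 ∈ centralizer (E : Set G)) :
    Nat.card E ≤ Nat.card ↥(E ⊓ centralizer {x}) ^ 2 := by
  have := hE.1
  refine card_le_pow_centralizer hE.1 hx 2 fun σ hσ e => ?_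
  have h3 : σ (σ e) = e := Subtype.ext (by
    rw [hσ, hσ]
    calc _ = x ^ 2 * e * (x ^ 2)⁻¹ := by rw [sq]; group
      _ = _ := by rw [← h2 e e.2, mul_inv_cancel_right])
  have h4 : ∀ y : E, y ^ 2 = 1 := fun y => Subtype.ext (hE.2 y y.2)
  change σ (σ e / e) / (σ e / e) = 1
  rw [map_div, h3, div_div_div_eq, ← sq, ← sq, h4, h4, div_one]

omit hp in
theorem card_le_cube_centralizer {E : Subgroup G} (hE : IsElementaryAbelian 3 E) {x : G}
    (hx : x ∈ normalizer (E : Set G)) (h2 : x ^ 3 = 1) :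
    Nat.card E ≤ Nat.card ↥(E ⊓ centralizer {x}) ^ 3 := by
  have := hE.1
  refine card_le_pow_centralizer hE.1 hx 3 fun σ hσ e => ?_
  have h3 : σ (σ (σ e)) = e := Subtype.ext (by
    rw [hσ, hσ, hσ]
    calc _ = x ^ 3 * e * (x ^ 3)⁻¹ := by rw [pow_three]; group
      _ = _ := by rw [h2]; group)
  have h4 : ∀ y : E, y ^ 3 = 1 := fun y => Subtype.ext (hE.2 y y.2)
  simp only [Function.iterate_succ, Function.iterate_zero, Function.comp, id,
    MonoidHom.div_apply, MonoidHom.id_apply, map_div, h3]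
  have h5 := h4 (σ e / σ (σ e))
  generalize σ (σ e) = c at h5
  generalize σ e = b at h5
  rw [← h5]
  apply Additive.ofMul.injective
  simp only [ofMul_div, ofMul_pow]
  abel

omit hp in
theorem relIndex_centralizer_lt {X U : Subgroup G} (h : X ≤ normalizer (U : Set G)) {u : G}
    (hu : u ∈ U) (h1 : u ≠ 1) : (centralizer {u}).relIndex X < Nat.card U := by
  let _ : MulAction X U := MulAction.compHom U (U.normalizerMonoidHom.comp (inclusion h))
  have e : MulAction.stabilizer X (⟨u, hu⟩ : U) = (centralizer {u}).subgroupOf X := by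
    ext x
    rw [MulAction.mem_stabilizer_iff, mem_subgroupOf, mem_centralizer_singleton_iff,
      ← Subtype.val_inj]
    exact mul_inv_eq_iff_eq_mul
  rw [relIndex, ← e, MulAction.index_stabilizer, ← Set.ncard_univ]
  refine Set.ncard_lt_ncard ⟨Set.subset_univ _, fun h2 => ?_⟩
  obtain ⟨x, hx⟩ := h2 (Set.mem_univ 1)
  have : (x : G) * u * (x : G)⁻¹ = 1 := congrArg Subtype.val hx
  exact h1 (by simpa using this)

theorem exists_mem_center_elemAb (hG : IsPGroup p G) {E : Subgroup G} [E.Normal] (h : E ≠ ⊥) :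
    ∃ z ∈ E, z ≠ 1 ∧ z ∈ center G := by
  have := hG.isNilpotent
  obtain ⟨⟨z, h1, h2⟩, h3⟩ := ne_bot_iff_exists_ne_one.1 (Core.inf_center_ne_bot h)
  exact ⟨z, h1, fun e => h3 (Subtype.ext e), h2⟩

theorem eq_sup_zpowers_of_card {U : Subgroup G} (hU : IsElementaryAbelian p U)
    (hc : Nat.card U ≤ p ^ 2) {z u : G} (hz : z ∈ U) (h1 : z ≠ 1) (hu : u ∈ U)
    (h2 : u ∉ zpowers z) : zpowers z ⊔ zpowers u = U := by
  refine eq_of_le_of_card_ge (sup_le (zpowers_le.2 hz) (zpowers_le.2 hu)) ?_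
  rwa [card_sup_zpowers_elemAb (elemAb_zpowers (hU.2 z hz)) (hU.2 u hu)
    (elemAb_le_centralizer hU le_rfl (zpowers_le.2 hz) hu) h2, Nat.card_zpowers,
    orderOf_eq_of_elemAb hU hz h1, ← sq]

theorem exists_not_mem_zpowers {U : Subgroup G} (hc : p ^ 2 ≤ Nat.card U) {z : G}
    (hz : z ^ p = 1) : ∃ u ∈ U, u ∉ zpowers z := by
  by_contra h
  push Not at h
  have h1 := hc.trans ((card_le_of_le h).trans
    ((Nat.card_zpowers z).le.trans (orderOf_le_of_pow_eq_one hp.out.pos hz)))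
  have := hp.out.one_lt
  nlinarith

theorem exists_normal_sq (hG : IsPGroup p G) {E : Subgroup G} [E.Normal]
    (hE : IsElementaryAbelian p E) (h : p ^ 2 ≤ Nat.card E) :
    ∃ U ≤ E, U.Normal ∧ IsElementaryAbelian p U ∧ Nat.card U = p ^ 2 := by
  obtain ⟨z, z1, z2, z3⟩ := exists_mem_center_elemAb hG (ne_bot_of_pow_le (by norm_num) h)
  have := hG.isNilpotent
  have : (zpowers z).Normal := ⟨fun n hn g => by
    rw [mem_center_iff.1 (zpowers_le.2 z3 hn) g, mul_inv_cancel_right]; exact hn⟩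
  obtain ⟨u, u1, u2⟩ := exists_not_mem_zpowers h (hE.2 z z1)
  obtain ⟨x, x1, x2, x3⟩ := Core.exists_mem_center_mod (N := zpowers z) (C := E) fun e => u2 (e u1)
  have h2 : zpowers z ⊔ zpowers x ≤ E := sup_le (zpowers_le.2 z1) (zpowers_le.2 x1)
  refine ⟨_, h2, ?_, elemAb_le hE h2, ?_⟩
  · rw [← normalizer_eq_top_iff, eq_top_iff, le_normalizer_iff_commutator_le_left]
    exact (comm_sup_left_le le_normalizer_of_normal le_normalizer_of_normal
      (commutator_le_left _ _) x3).trans le_sup_left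
  · rw [card_sup_zpowers_elemAb (elemAb_zpowers (hE.2 z z1)) (hE.2 x x1)
      (elemAb_le_centralizer hE le_rfl (zpowers_le.2 z1) x1) x2, Nat.card_zpowers,
      orderOf_eq_of_elemAb hE z1 z2, ← sq]

theorem card_le_mul_centralizer (hG : IsPGroup p G) {U : Subgroup G} [U.Normal]
    (hU : IsElementaryAbelian p U) (h : Nat.card U = p ^ 2) (X : Subgroup G) :
    Nat.card X ≤ Nat.card ↥(X ⊓ centralizer (U : Set G)) * p := by
  obtain ⟨z, z1, z2, z3⟩ := exists_mem_center_elemAb hG (ne_bot_of_pow_le (by norm_num) h.ge)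
  obtain ⟨u, u1, u2⟩ := exists_not_mem_zpowers h.ge (hU.2 z z1)
  have e : centralizer (U : Set G) = centralizer {u} := by
    rw [← eq_sup_zpowers_of_card hU h.le z1 z2 u1 u2, centralizer_sup, centralizer_zpowers,
      centralizer_zpowers, inf_eq_right]
    exact fun g _ => mem_centralizer_singleton_iff.2 (mem_center_iff.1 z3 g)
  rw [e, inf_comm, ← Core.card_inf_mul_relIndex (centralizer {u}) X]
  refine Nat.mul_le_mul_left _ ?_
  have h1 := relIndex_centralizer_lt (X := X) le_normalizer_of_normal u1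
    fun e => u2 (e ▸ one_mem _)
  obtain ⟨n, hn⟩ := (hG.to_subgroup X).index ((centralizer {u}).subgroupOf X)
  rw [relIndex, hn, h, Nat.pow_lt_pow_iff_right hp.out.one_lt] at h1
  rw [relIndex, hn]
  exact (Nat.pow_le_pow_right hp.out.pos (Nat.lt_succ_iff.1 h1)).trans (pow_one p).le

theorem exists_bridge (hG : IsPGroup p G) {U : Subgroup G} [U.Normal]
    (hU : IsElementaryAbelian p U) (h : Nat.card U = p ^ 2) {E : Subgroup G}
    (hE : IsElementaryAbelian p E) (h3 : p ^ 3 ≤ Nat.card E) :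
    ∃ F ≤ E, IsElementaryAbelian p F ∧ Nat.card F = p ^ 2 ∧ F ≤ centralizer (U : Set G) := by
  have h1 := h3.trans (card_le_mul_centralizer hG hU h E)
  rw [pow_succ] at h1
  obtain ⟨F, f1, f2⟩ := exists_le_card_eq_pow (hG.to_subgroup _)
    (Nat.le_of_mul_le_mul_right h1 hp.out.pos)
  exact ⟨F, f1.trans inf_le_left, elemAb_le hE (f1.trans inf_le_left), f2, f1.trans inf_le_right⟩

theorem exists_three_centralizing (hG : IsPGroup p G) {E : Subgroup G} [E.Normal]
    (hE : IsElementaryAbelian p E) (h3 : p ^ 3 ≤ Nat.card E)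
    (hx : ∀ x : G, x ^ p = 1 → p ^ 2 ≤ Nat.card ↥(E ⊓ centralizer {x})) {X : Subgroup G}
    (hX : IsElementaryAbelian p X) (h2 : p ^ 2 ≤ Nat.card X) :
    ∃ F ≤ centralizer (X : Set G), IsElementaryAbelian p F ∧ p ^ 3 ≤ Nat.card F := by
  have hXc := elemAb_le_centralizer hX le_rfl le_rfl
  have key : ∀ d ∈ E, d ∈ centralizer (X : Set G) → d ∉ X →
      ∃ F ≤ centralizer (X : Set G), IsElementaryAbelian p F ∧ p ^ 3 ≤ Nat.card F :=
    fun d h4 h5 h6 => ⟨_, sup_le hXc (zpowers_le.2 h5), elemAb_sup_zpowers hX (hE.2 d h4) h5, by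
      rw [card_sup_zpowers_elemAb hX (hE.2 d h4) h5 h6, pow_succ]
      exact Nat.mul_le_mul_right _ h2⟩
  by_cases h4 : p ^ 3 ≤ Nat.card X
  · exact ⟨X, hXc, hX, h4⟩
  have h5 := card_le_pow_of_lt (hG.to_subgroup X) (not_le.1 h4)
  obtain ⟨z, z1, z2, z3⟩ := exists_mem_center_elemAb hG (ne_bot_of_pow_le (by norm_num) h3)
  by_cases h6 : z ∈ X
  swap
  · exact key z z1 (center_le_centralizer _ z3) h6
  obtain ⟨w, w1, w2⟩ := exists_not_mem_zpowers h2 (hE.2 z z1)
  have e : centralizer {w} ≤ centralizer (X : Set G) := by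
    rw [← eq_sup_zpowers_of_card hX h5 h6 z2 w1 w2, centralizer_sup, centralizer_zpowers,
      centralizer_zpowers]
    exact le_inf (fun g _ => mem_centralizer_singleton_iff.2 (mem_center_iff.1 z3 g)) le_rfl
  by_cases h7 : E ⊓ centralizer {w} ≤ X
  · have := eq_of_le_of_card_ge h7 (h5.trans (hx w (hX.2 w w1)))
    exact ⟨E, elemAb_le_centralizer hE le_rfl (this ▸ inf_le_left), hE, h3⟩
  · obtain ⟨d, d1, d2⟩ := SetLike.not_le_iff_exists.1 h7
    exact key d d1.1 (e d1.2) d2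

theorem card_le_of_elemAb_le_cyclic {A E : Subgroup G} (hA : IsCyclic A) (h : E ≤ A)
    (hE : IsElementaryAbelian p E) : Nat.card E ≤ p := by
  have := card_le_pow_of_lt (k := 1) (elemAb_isPGroup hE) (not_le.1 fun e =>
    elemAb_not_isCyclic hE e (Subgroup.isCyclic_of_le h))
  rwa [pow_one] at this

omit hp in
theorem eq_of_sq_of_cyclic {A : Subgroup G} (hA : IsCyclic A) {x y : G} (hx : x ∈ A) (hy : y ∈ A)
    (x1 : x ≠ 1) (y1 : y ≠ 1) (x2 : x ^ 2 = 1) (y2 : y ^ 2 = 1) : x = y :=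
  Core.eq_of_mem_zpowers_of_sq_eq_one y2 (Core.mem_of_pow_card_eq_one_of_isCyclic hA
    (zpowers_le.2 hy) hx (by rwa [Nat.card_zpowers, orderOf_eq_prime y2 y1])) x1

/-- a `p`-group of rank at least three has a normal elementary abelian subgroup of rank two -/
theorem exists_normal_sq_of_rank (hG : IsPGroup p G) {E : Subgroup G}
    (hE : IsElementaryAbelian p E) (h3 : p ^ 3 ≤ Nat.card E) :
    ∃ U : Subgroup G, U.Normal ∧ IsElementaryAbelian p U ∧ Nat.card U = p ^ 2 := by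
  suffices h : ∃ U : Subgroup G, U.Normal ∧ IsElementaryAbelian p U ∧ p ^ 2 ≤ Nat.card U by
    obtain ⟨U, h1, h2, h4⟩ := h
    obtain ⟨V, -, h5⟩ := exists_normal_sq hG h2 h4
    exact ⟨V, h5⟩
  have := hG.isNilpotent
  obtain ⟨A, -, ⟨hAn, hAa⟩, hmax⟩ := Core.exists_maximal_ge
    (P := fun A : Subgroup G => A.Normal ∧ IsMulCommutative A) (H := ⊥)
    ⟨inferInstance, inferInstance⟩
  have hC := Core.centralizer_eq_of_maximal_abelian_normal A hAa fun M h1 h2 h3 => hmax M ⟨h1, h2⟩ h3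
  by_cases hc : IsCyclic A
  swap
  · obtain ⟨q, x, y, hq, x1, y1, hx, hy, hy1, hxy⟩ := Core.exists_pp_of_not_isCyclic hAa hc
    obtain rfl : q = p := by
      obtain ⟨n, hn⟩ := (IsPGroup.iff_orderOf.mp hG) y
      rw [Core.orderOf_eq_prime_of_pow_eq_one hq hy hy1] at hn
      exact (Nat.prime_dvd_prime_iff_eq hq hp.out).mp (hq.dvd_of_dvd_pow (dvd_of_eq hn))
    refine ⟨_, PLoc.omegaOne_normal A, PLoc.isEA_omegaOne hAa, le_trans ?_ (card_le_of_le
      (sup_le (zpowers_le.2 (PLoc.mem_omegaOne y1 hy)) (zpowers_le.2 (PLoc.mem_omegaOne x1 hx))))⟩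
    rw [card_sup_zpowers_elemAb (elemAb_zpowers hy) hx (centralizer_le (zpowers_le.2 y1)
      (hC.ge x1)) hxy, Nat.card_zpowers, orderOf_eq_prime hy hy1, sq]
  have hEA : Nat.card ↥(E ⊓ A) ≤ p :=
    card_le_of_elemAb_le_cyclic hc inf_le_right (elemAb_le hE inf_le_left)
  by_cases h2 : p = 2
  swap
  · exfalso
    obtain ⟨n, hn⟩ := (hG.to_subgroup A).exists_card_eq
    have h4 : IsCyclic (MulAut A) := by
      have := ZMod.isCyclic_units_of_prime_pow p hp.out h2 n
      rw [← hn] at this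
      exact isCyclic_of_injective (IsCyclic.mulAutMulEquiv A).toMonoidHom
        (IsCyclic.mulAutMulEquiv A).injective
    have h5 := Core.card_map_mul_card_inf_ker E (MulAut.conjNormal (H := A))
    have h6 : (MulAut.conjNormal (H := A)).ker = A := by
      refine Eq.trans ?_ hC
      ext g
      simp only [MonoidHom.mem_ker, MulEquiv.ext_iff, Subtype.ext_iff, MulAut.conjNormal_apply,
        mul_inv_eq_iff_eq_mul]
      exact ⟨fun h a ha => (h ⟨a, ha⟩).symm, fun h a => (h a a.2).symm⟩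
    have h7 := card_le_of_elemAb_le_cyclic (A := ⊤) inferInstance le_top
      (elemAb_map (MulAut.conjNormal (H := A)) hE)
    rw [h6] at h5
    have h8 := h3.trans (h5.ge.trans (Nat.mul_le_mul h7 hEA))
    rw [← sq, Nat.pow_le_pow_iff_right hp.out.one_lt] at h8
    omega
  subst h2
  obtain ⟨a, rfl⟩ := (Subgroup.isCyclic_iff_exists_zpowers_eq_top A).mp hc
  rw [centralizer_zpowers] at hC
  have hn : ∀ g, g * a * g⁻¹ ∈ zpowers a := hAn.conj_mem a (mem_zpowers a)
  have hca : ∀ c ∈ zpowers a, Commute c a := fun c h => mem_centralizer_singleton_iff.1 (hC.ge h)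
  -- elements centralizing `a ^ 2`
  have k1 : ∀ y, y ∉ zpowers a → Commute y (a ^ 2) →
      y * a * y⁻¹ * a⁻¹ ∈ zpowers a ∧ y * a * y⁻¹ * a⁻¹ ≠ 1 ∧ (y * a * y⁻¹ * a⁻¹) ^ 2 = 1 := by
    intro y y1 y2
    refine ⟨mul_mem (hn y) (inv_mem (mem_zpowers a)), fun e => y1 (hC.le
      (mem_centralizer_singleton_iff.2 (commutatorElement_eq_one_iff_mul_comm.1 e))), ?_⟩
    rw [(hca _ (hn y)).inv_right.mul_pow, conj_pow, y2.eq]; group
  have k2 : ∀ e ∈ E, e * a ^ 2 * e⁻¹ = a ^ 2 ∨ e * a ^ 2 * e⁻¹ = (a ^ 2)⁻¹ := by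
    intro e he
    obtain ⟨k, hk⟩ := mem_zpowers_iff.1 (hn e)
    have a1 := Core.pow_conj_of_conj_eq_zpow hk.symm 2
    rw [hE.2 e he, one_mul, inv_one, mul_one] at a1
    have a2 : a ^ ((k - 1) * (k + 1)) = 1 := by
      rw [show (k - 1) * (k + 1) = k ^ 2 - 1 by ring, zpow_sub, ← a1]; simp
    rw [← conj_pow, ← hk]
    have a3 : ∀ m u : ℤ, Odd u → a ^ (m * (2 * u)) = 1 → (a ^ 2) ^ m = 1 := fun m u h1 h2 =>
      Core.eq_one_of_zpow_eq_one_of_isPGroup hG (u := u) (by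
        rw [Int.odd_iff] at h1; omega) (by
        rw [← h2, ← zpow_natCast, ← zpow_mul, ← zpow_mul]; congr 1; push_cast; ring)
    have a4 : (a ^ k) ^ 2 = (a ^ 2) ^ k := by
      rw [← zpow_natCast, ← zpow_natCast, ← zpow_mul, ← zpow_mul, mul_comm]
    rw [a4]
    obtain ⟨j, rfl | rfl | rfl | rfl⟩ : ∃ j, k = 4 * j ∨ k = 4 * j + 1 ∨ k = 4 * j + 2 ∨
        k = 4 * j + 3 := ⟨k / 4, by omega⟩
    · have := Core.eq_one_of_zpow_eq_one_of_isPGroup hG (u := (4 * j - 1) * (4 * j + 1))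
        (fun h => by rcases Int.prime_two.dvd_or_dvd h with h | h <;> omega) a2
      simp [this]
    · left
      have := a3 (4 * j) (2 * j + 1) (odd_two_mul_add_one j) (by rw [← a2]; congr 1; ring)
      rw [zpow_add, this, one_mul, zpow_one]
    · have := Core.eq_one_of_zpow_eq_one_of_isPGroup hG (u := (4 * j + 2 - 1) * (4 * j + 2 + 1))
        (fun h => by rcases Int.prime_two.dvd_or_dvd h with h | h <;> omega) a2
      simp [this]
    · right
      have := a3 (4 * j + 4) (2 * j + 1) (odd_two_mul_add_one j) (by rw [← a2]; congr 1; ring)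
      rw [eq_inv_iff_mul_eq_one, ← zpow_add_one, ← this]; congr 1; ring
  have k3 : ∀ (H : Subgroup G), (∀ x ∈ E, ∀ y ∈ E, x ∉ H → y ∉ H → x * y ∈ H) →
      4 ≤ Nat.card ↥(E ⊓ H) := by
    intro H h
    have a1 : H.relIndex E ≤ 2 := by
      by_cases e : E ≤ H
      · rw [relIndex_eq_one.2 e]; norm_num
      obtain ⟨x, x1, x2⟩ := SetLike.not_le_iff_exists.1 e
      refine (index_eq_two_iff.2 ⟨⟨x, x1⟩, fun y => ?_⟩).le
      by_cases e' : (y : G) ∈ H
      · exact Or.inr ⟨e', fun h1 => x2 ((H.mul_mem_cancel_left e').1 h1)⟩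
      · exact Or.inl ⟨h y y.2 x x1 e' x2, e'⟩
    have a2 := Core.card_inf_mul_relIndex H E
    rw [inf_comm] at a2
    nlinarith
  obtain ⟨e, ⟨e1, e2⟩, e3⟩ : ∃ e ∈ E ⊓ centralizer {a ^ 2}, e ∉ zpowers a := by
    by_contra h
    push Not at h
    have a1 := k3 (centralizer {a ^ 2}) fun x hx y hy x1 y1 => by
      rw [mem_centralizer_singleton_iff, ← mul_inv_eq_iff_eq_mul] at x1 y1 ⊢
      calc _ = x * (y * a ^ 2 * y⁻¹) * x⁻¹ := by group
        _ = (x * a ^ 2 * x⁻¹)⁻¹ := by rw [(k2 y hy).resolve_left y1]; group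
        _ = _ := by rw [(k2 x hx).resolve_left x1, inv_inv]
    have a2 := card_le_of_le (le_inf inf_le_left h : E ⊓ centralizer {a ^ 2} ≤ E ⊓ zpowers a)
    omega
  replace e2 : Commute e (a ^ 2) := mem_centralizer_singleton_iff.1 e2
  obtain ⟨z1, z2, z3⟩ := k1 e e3 e2
  set z := e * a * e⁻¹ * a⁻¹ with hz
  have k4 : ∀ y, y ∉ zpowers a → Commute y (a ^ 2) → y * a * y⁻¹ = z * a := fun y y1 y2 => by
    obtain ⟨b1, b2, b3⟩ := k1 y y1 y2
    rw [← eq_of_sq_of_cyclic hc b1 z1 b2 z2 b3 z3, inv_mul_cancel_right]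
  have hzc : z ∈ center G := mem_center_iff.2 fun g => mul_inv_eq_iff_eq_mul.1
    (eq_of_sq_of_cyclic hc (hAn.conj_mem z z1 g) z1 (by simpa using z2) z2
      (by rw [conj_pow, z3]; simp) z3)
  have k5 : ∀ x y, x ∉ zpowers a → y ∉ zpowers a → Commute x (a ^ 2) → Commute y (a ^ 2) →
      x * y ∈ zpowers a := fun x y x1 y1 x2 y2 => by
    refine hC.le (mem_centralizer_singleton_iff.2 (mul_inv_eq_iff_eq_mul.1 ?_))
    calc _ = x * (y * a * y⁻¹) * x⁻¹ := by group
      _ = z * (x * a * x⁻¹) := by rw [k4 y y1 y2, ← mul_assoc, mem_center_iff.1 hzc x]; group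
      _ = _ := by rw [k4 x x1 x2, ← mul_assoc, ← sq, z3, one_mul]
  have k6 : e * a * e⁻¹ ≠ a⁻¹ := fun h => by
    have a1 : a ^ 2 = z := by
      rw [← inv_inj, inv_eq_of_mul_eq_one_right (a := z) (sq z ▸ z3), hz, h, sq, mul_inv_rev]
    have a2 : ∀ x, Commute x (a ^ 2) := fun x => a1 ▸ mem_center_iff.1 hzc x
    have := k3 (zpowers a) fun x _ y _ x1 y1 => k5 x y x1 y1 (a2 x) (a2 y)
    omega
  have hze : e ∈ centralizer (zpowers z : Set G) := by
    rw [centralizer_zpowers]; exact mem_centralizer_singleton_iff.2 (mem_center_iff.1 hzc e)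
  refine ⟨zpowers z ⊔ zpowers e, ?_, elemAb_sup_zpowers (elemAb_zpowers z3) (hE.2 e e1) hze, ?_⟩
  swap
  · rw [card_sup_zpowers_elemAb (elemAb_zpowers z3) (hE.2 e e1) hze
      fun h => e3 (zpowers_le.2 z1 h), Nat.card_zpowers, orderOf_eq_prime z3 z2]
    norm_num
  refine normalizer_eq_top_iff.1 (eq_top_iff.2 fun g _ => mem_normalizer_of_map_conj_eq
    (eq_of_le_of_card_ge ?_ (card_map_of_injective map_conj_inj).ge))
  rw [Subgroup.map_sup, MonoidHom.map_zpowers, MonoidHom.map_zpowers]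
  refine sup_le (zpowers_le.2 (mem_sup_left ?_)) (zpowers_le.2 ?_)
  · change g * z * g⁻¹ ∈ _
    rw [mem_center_iff.1 hzc g, mul_inv_cancel_right]; exact mem_zpowers z
  change g * e * g⁻¹ ∈ _
  have b1 : g * e * g⁻¹ ∉ zpowers a := fun h => e3 (by simpa [mul_assoc] using hAn.conj_mem' _ h g)
  have b2 : Commute (g * e * g⁻¹) (a ^ 2) := by
    obtain ⟨k, hk⟩ := mem_zpowers_iff.1 (hn g⁻¹)
    have : a ^ 2 = g * (a ^ 2) ^ k * g⁻¹ := by
      rw [← zpow_natCast, ← zpow_mul, mul_comm ((2 : ℕ) : ℤ), zpow_mul, hk, zpow_natCast,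
        zpow_natCast, conj_pow]; group
    rw [this]
    exact (e2.zpow_right k).conj g
  obtain ⟨j, hj⟩ := mem_zpowers_iff.1 (k5 _ _ b1 e3 b2 e2)
  have b3 : e * e = 1 := sq e ▸ hE.2 e e1
  have b4 : g * e * g⁻¹ = a ^ j * e := by rw [hj, mul_assoc (g * e * g⁻¹) e e, b3, mul_one]
  have b5 : e * a ^ j * e⁻¹ = (a ^ j)⁻¹ := by
    rw [eq_inv_iff_mul_eq_one, inv_eq_of_mul_eq_one_right b3, hj]
    calc _ = e * (g * (e * (g⁻¹ * (e * e) * g) * e) * g⁻¹) * e := by group
      _ = 1 := by rw [b3]; simp [b3]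
  rw [b4]
  refine mul_mem_sup ?_ (mem_zpowers e)
  rcases Int.even_or_odd' j with ⟨i, rfl | rfl⟩
  · by_cases b6 : a ^ (2 * i) = 1
    · rw [b6]; exact one_mem _
    have b7 : Commute e (a ^ (2 * i)) := by
      rw [zpow_mul]; exact (zpow_natCast a 2 ▸ e2 : Commute e (a ^ (2 : ℤ))).zpow_right i
    rw [b7.eq, mul_inv_cancel_right, eq_inv_iff_mul_eq_one, ← sq] at b5
    rw [eq_of_sq_of_cyclic hc (zpow_mem (mem_zpowers a) _) z1 b6 z2 b5 z3]
    exact mem_zpowers z
  · exfalso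
    obtain ⟨m, hm⟩ := mem_zpowers_iff.1 (Core.mem_zpowers_zpow_of_isPGroup hG a
      (u := 2 * i + 1) (by omega))
    apply k6
    rw [← hm, ← conj_zpow, b5, inv_zpow]

theorem rtg_symm {α : Type*} {r : α → α → Prop} (h : ∀ a b, r a b → r b a) {a b : α}
    (hab : Relation.ReflTransGen r a b) : Relation.ReflTransGen r b a := by
  induction hab with
  | refl => exact .refl
  | tail _ h1 ih => exact .head (h _ _ h1) ih

omit [Finite G] hp in
theorem rtg_cj {R : Subgroup G → Subgroup G → Prop}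
    (hc : ∀ g A B, R A B → R (PLoc.cj g A) (PLoc.cj g B)) (g : G) {A B : Subgroup G}
    (h : Relation.ReflTransGen R A B) : Relation.ReflTransGen R (PLoc.cj g A) (PLoc.cj g B) :=
  Relation.ReflTransGen.lift (PLoc.cj g) (hc g) _ _ h

/-- the stabilizer of a connected component -/
def compStab {R : Subgroup G → Subgroup G → Prop} (hs : ∀ A B, R A B → R B A)
    (hc : ∀ g A B, R A B → R (PLoc.cj g A) (PLoc.cj g B)) (E : Subgroup G) : Subgroup G where
  carrier := {g | Relation.ReflTransGen R (PLoc.cj g E) E}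
  one_mem' := by change Relation.ReflTransGen R _ _; rw [PLoc.cj_one]
  mul_mem' := fun {a b} ha hb => by
    change Relation.ReflTransGen R _ _
    rw [PLoc.cj_mul]; exact (rtg_cj hc a hb).trans ha
  inv_mem' := fun {a} ha => by
    have := rtg_cj hc a⁻¹ ha
    rw [PLoc.cj_inv_cj] at this
    exact rtg_symm hs this

omit [Finite G] hp in
theorem elemAb_cj {A : Subgroup G} (hA : IsElementaryAbelian p A) (g : G) :
    IsElementaryAbelian p (PLoc.cj g A) := elemAb_map _ hA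

omit [Finite G] hp in
theorem comm_cj {A B : Subgroup G} (h : ∀ a ∈ A, ∀ b ∈ B, a * b = b * a) (g : G) :
    ∀ a ∈ PLoc.cj g A, ∀ b ∈ PLoc.cj g B, a * b = b * a := by
  rintro _ ⟨a, ha, rfl⟩ _ ⟨b, hb, rfl⟩
  rw [← map_mul, ← map_mul, h a ha b hb]

omit hp in
theorem dihedral_struct {S : Subgroup G} {n : ℕ} (e : S ≃* DihedralGroup n) :
    ∃ a ∈ S, orderOf a = n ∧ (zpowers a).relIndex S = 2 ∧
      ∀ w ∈ S, w ∉ zpowers a → orderOf w = 2 := by
  have h1 : orderOf (e.symm (.r 1) : G) = n := by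
    rw [orderOf_coe, MulEquiv.orderOf_eq, DihedralGroup.orderOf_r_one]
  refine ⟨e.symm (.r 1), Subtype.property _, h1, Inv.relIndex_eq_two_of_card
    (zpowers_le.2 (Subtype.property _)) ?_, fun w hw h => ?_⟩
  · rw [Nat.card_zpowers, h1, Nat.card_congr e.toEquiv, DihedralGroup.nat_card]
  · have h2 : w = e.symm (e ⟨w, hw⟩) := by simp
    rcases h3 : e ⟨w, hw⟩ with i | i
    · refine absurd ⟨i.cast, ?_⟩ h
      rw [h2, h3]
      simp only [← SubgroupClass.coe_zpow, ← map_zpow, DihedralGroup.r_one_zpow,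
        ZMod.intCast_zmod_cast]
    · rw [h2, h3, orderOf_coe, MulEquiv.orderOf_eq, DihedralGroup.orderOf_sr]

end Cfsg.Agent.Comp
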