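import Cfsg.Agent.Comp.TB

/-! Factorizations `K = XY` under coprime action of a noncyclic elementary abelian group. -/

set_option autoImplicit false

namespace Cfsg.Agent.Comp

open Subgroup
open scoped commutatorElement Pointwise

variable {G : Type*} [Group G] [Finite G] {p : ℕ} [hp : Fact p.Prime]

omit hp in
theorem le_of_le_comm_sup {Q N M : Subgroup G} (hQ : Group.IsNilpotent Q) (hN : N ≤ Q)
    (hM : Q ≤ normalizer (M : Set G)) (h : N ≤ ⁅N, Q⁆ ⊔ M) : N ≤ M := by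
  obtain ⟨n, hn⟩ := (isNilpotent_iff_lowerCentralSeries Q).1 hQ
  have key : ∀ k, N ≤ Q.lowerCentralSeries k ⊔ M ∧ Q.lowerCentralSeries k ≤ Q ∧
      Q ≤ normalizer (Q.lowerCentralSeries k : Set G) := by
    intro k
    induction k with
    | zero => exact ⟨hN.trans le_sup_left, le_rfl, le_normalizer⟩
    | succ k ih =>
      have h1 : Q ≤ normalizer (Q.lowerCentralSeries (k + 1) : Set G) :=
        comm_normalizer' ih.2.2 le_normalizer
      have h2 : Q.lowerCentralSeries (k + 1) ≤ Q :=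
        (commutator_mono ih.2.1 le_rfl).trans (commutator_le_self Q)
      refine ⟨h.trans (sup_le ?_ le_sup_right), h2, h1⟩
      have h3 : N ≤ Q.lowerCentralSeries k ⊔ (M ⊓ Q) := fun x hx => by
        obtain ⟨a, ha, b, hb, rfl⟩ := (mem_sup_of_normalizes (ih.2.1.trans hM)).1 (ih.1 hx)
        exact mul_mem_sup ha ⟨hb, (Q.mul_mem_cancel_left (ih.2.1 ha)).1 (hN hx)⟩
      refine (commutator_mono h3 le_rfl).trans (comm_sup_left_le
        (ih.2.1.trans (sup_normalizer' h1 hM)) (inf_le_right.trans (sup_normalizer' h1 hM))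
        le_sup_left ?_)
      exact ((commutator_mono inf_le_left le_rfl).trans
        (le_normalizer_iff_commutator_le_left.1 hM)).trans le_sup_right
  simpa [hn] using (key n).1

omit hp in
theorem coe_eq_mul_iff {K X Y : Subgroup G} (hX : X ≤ K) (hY : Y ≤ K) :
    (K : Set G) = (X : Set G) * (Y : Set G) ↔
      Nat.card K * Nat.card ↥(X ⊓ Y) = Nat.card X * Nat.card Y := by
  rw [← Core.ncard_mul_mul_card_inf X Y, Nat.mul_left_inj Nat.card_pos.ne']
  have h1 : Nat.card K = (K : Set G).ncard := rfl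
  rw [h1]
  refine ⟨fun h => by rw [h], fun h => (Set.eq_of_subset_of_ncard_le ?_ h.le).symm⟩
  rintro _ ⟨x, hx, y, hy, rfl⟩
  exact K.mul_mem (hX hx) (hY hy)

theorem SylIn.card_eq_pow {P H : Subgroup G} (h : SylIn p P H) :
    Nat.card P = p ^ (Nat.card H).factorization p := by
  obtain ⟨S, rfl⟩ := h.exists_sylow
  rw [card_map_of_injective H.subtype_injective, S.card_eq_multiplicity]

theorem sylow_factor_iff {K X Y D P R S T : Subgroup G} (h1 : SylIn p P K) (h2 : SylIn p R D)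
    (h3 : SylIn p S X) (h4 : SylIn p T Y) :
    Nat.card P * Nat.card R = Nat.card S * Nat.card T ↔
      (Nat.card K * Nat.card D).factorization p = (Nat.card X * Nat.card Y).factorization p := by
  rw [h1.card_eq_pow, h2.card_eq_pow, h3.card_eq_pow, h4.card_eq_pow, ← pow_add, ← pow_add,
    Nat.factorization_mul Nat.card_pos.ne' Nat.card_pos.ne',
    Nat.factorization_mul Nat.card_pos.ne' Nat.card_pos.ne', Nat.pow_right_inj hp.out.one_lt]
  rfl

theorem factor_nilpotent {A Q X Y : Subgroup G} (hA : IsElementaryAbelian p A)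
    (hA2 : p ^ 2 ≤ Nat.card A) (hQ : Group.IsNilpotent Q) (hc : (Nat.card Q).Coprime p)
    (hAQ : A ≤ normalizer (Q : Set G)) (hX : X ≤ Q) (hY : Y ≤ Q)
    (h : ∀ a ∈ A, a ≠ 1 → ∀ c ∈ Q ⊓ centralizer {a}, ∃ x ∈ X, ∃ y ∈ Y, x * y = c) :
    ∀ c ∈ Q, ∃ x ∈ X, ∃ y ∈ Y, x * y = c := by
  obtain ⟨M, -, ⟨m1, m2, m3, m4⟩, hmax⟩ := Core.exists_maximal_ge (P := fun M : Subgroup G =>
    M ≤ Q ∧ Q ≤ normalizer (M : Set G) ∧ A ≤ normalizer (M : Set G) ∧
      ∀ c ∈ M, ∀ x ∈ X, ∀ y ∈ Y, ∃ x' ∈ X, ∃ y' ∈ Y, x' * y' = x * c * y) (H := ⊥)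
    ⟨bot_le, le_normalizer_of_normal, le_normalizer_of_normal, fun c hc x hx y hy =>
      ⟨x, hx, y, hy, by rw [mem_bot.1 hc, mul_one]⟩⟩
  by_cases e : Q ≤ M
  · intro c hc
    simpa using m4 c (e hc) 1 X.one_mem 1 Y.one_mem
  exfalso
  obtain ⟨N, n0, ⟨n1, n2, n3, n4⟩, hmin⟩ := Core.exists_minimal_le (P := fun N : Subgroup G =>
    M ≤ N ∧ Q ≤ normalizer (N : Set G) ∧ A ≤ normalizer (N : Set G) ∧ ¬ N ≤ M) (H := Q)
    ⟨m1, le_normalizer, hAQ, e⟩
  have h1 : ⁅N, Q⁆ ≤ M := by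
    by_contra h1
    refine n4 (le_of_le_comm_sup hQ n0 m2 (hmin _ ⟨le_sup_right,
      sup_normalizer' (comm_normalizer' n2 le_normalizer) m2,
      sup_normalizer' (comm_normalizer' n3 hAQ) m3, fun h2 => h1 (le_sup_left.trans h2)⟩
      (sup_le (le_normalizer_iff_commutator_le_left.1 n2) n1)).ge)
  refine n4 (le_of_elements hA hA2 (coprime_card_of_le n0 hc) n3 fun a ha a1 => ?_)
  have h2 : N ⊓ centralizer {a} ≤ normalizer (M : Set G) := (inf_le_left.trans n0).trans m2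
  refine le_sup_left.trans (hmax ((N ⊓ centralizer {a}) ⊔ M) ⟨sup_le (inf_le_left.trans n0) m1,
    le_normalizer_iff_commutator_le_left.2 (((commutator_mono (sup_le inf_le_left n1)
      le_rfl).trans h1).trans le_sup_right),
    sup_normalizer' (inf_normalizer' n3 (elemAb_normalizes_centralizer_singleton hA ha)) m3,
    fun c hc x hx y hy => ?_⟩ le_sup_right).le
  obtain ⟨d, hd, m, hm, rfl⟩ := (mem_sup_of_normalizes h2).1 hc
  obtain ⟨x', hx', y', hy', rfl⟩ := h a ha a1 d ⟨n0 hd.1, hd.2⟩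
  obtain ⟨x'', hx'', y'', hy'', e⟩ := m4 (y' * m * y'⁻¹)
    (le_normalizer_iff_mem.1 m2 y' (hY hy') m hm) (x * x') (X.mul_mem hx hx') (y' * y)
    (Y.mul_mem hy' hy)
  exact ⟨x'', hx'', y'', hy'', by rw [e]; group⟩

theorem SylIn.inf_centralizer {A K P : Subgroup G} (hA : IsPGroup p A)
    (hAK : A ≤ normalizer (K : Set G)) (hK : (Nat.card K).Coprime p) {q : ℕ} [Fact q.Prime]
    (hP : SylIn q P K) (hAP : A ≤ normalizer (P : Set G)) :
    SylIn q (P ⊓ centralizer (A : Set G)) (K ⊓ centralizer (A : Set G)) :=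
  sylIn_iff.2 (Core.IsSylowIn.inf_centralizer hAK (pgroup_coprime hA hK)
    (Or.inl (pgroup_solvable hA)) (sylIn_iff.1 hP) hAP)

theorem exists_inv_sylIn_ge {A K U : Subgroup G} (hA : IsPGroup p A)
    (hAK : A ≤ normalizer (K : Set G)) (hK : (Nat.card K).Coprime p) {q : ℕ} [Fact q.Prime]
    (hU : U ≤ K) (hUq : IsPGroup q U) (hAU : A ≤ normalizer (U : Set G)) :
    ∃ P, U ≤ P ∧ SylIn q P K ∧ A ≤ normalizer (P : Set G) := by
  obtain ⟨P, a, b, d⟩ := Core.exists_invariant_isSylowIn_ge hAK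
    (pgroup_coprime hA hK) (Or.inl (pgroup_solvable hA)) hU hUq hAU
  exact ⟨P, d, sylIn_iff.2 a, b⟩

theorem exists_inv_sylIn {A K : Subgroup G} (hA : IsPGroup p A)
    (hAK : A ≤ normalizer (K : Set G)) (hK : (Nat.card K).Coprime p) (q : ℕ) [Fact q.Prime] :
    ∃ P, SylIn q P K ∧ A ≤ normalizer (P : Set G) :=
  let ⟨P, _, h⟩ := exists_inv_sylIn_ge hA hAK hK bot_le (IsPGroup.of_bot (p := q))
    le_normalizer_of_normal; ⟨P, h⟩

theorem inv_sylIn_conj {A K P Q : Subgroup G} (hA : IsPGroup p A)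
    (hAK : A ≤ normalizer (K : Set G)) (hK : (Nat.card K).Coprime p) {q : ℕ} [Fact q.Prime]
    (hP : SylIn q P K) (hQ : SylIn q Q K) (hAP : A ≤ normalizer (P : Set G))
    (hAQ : A ≤ normalizer (Q : Set G)) :
    ∃ c ∈ K ⊓ centralizer (A : Set G), P.map (MulAut.conj c).toMonoidHom = Q :=
  Core.exists_centralizer_conj_of_isSylowIn hAK (pgroup_coprime hA hK)
    (Or.inl (pgroup_solvable hA)) (sylIn_iff.1 hP) (sylIn_iff.1 hQ) hAP hAQ

/-- an invariant Sylow subgroup meets a `C_K(A) A`-invariant subgroup in a Sylow subgroup -/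
theorem SylIn.inf_of_inv {A K P X : Subgroup G} (hA : IsPGroup p A)
    (hAK : A ≤ normalizer (K : Set G)) (hK : (Nat.card K).Coprime p) {q : ℕ} [Fact q.Prime]
    (hP : SylIn q P K) (hAP : A ≤ normalizer (P : Set G)) (hX : X ≤ K)
    (hAX : A ≤ normalizer (X : Set G))
    (hCX : K ⊓ centralizer (A : Set G) ≤ normalizer (X : Set G)) : SylIn q (P ⊓ X) X := by
  obtain ⟨S, s1, s2⟩ := exists_inv_sylIn hA hAX (coprime_card_of_le hX hK) q
  obtain ⟨T, t1, t2, t3⟩ := exists_inv_sylIn_ge hA hAK hK (s1.le.trans hX) s1.pg s2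
  obtain ⟨c, hc, rfl⟩ := inv_sylIn_conj hA hAK hK t2 hP t3 hAP
  have := s1.conj_self (hCX hc)
  rwa [this.eq_of_le (le_inf (map_mono t1) this.le) inf_le_right hP.pg.to_inf_left]

/-- KS 11.2.1 -/
theorem factor_of_centralizers {A K X Y : Subgroup G} (hA : IsElementaryAbelian p A)
    (hA2 : p ^ 2 ≤ Nat.card A) (hK : (Nat.card K).Coprime p) (hAK : A ≤ normalizer (K : Set G))
    (hX : X ≤ K) (hY : Y ≤ K) (hAX : A ≤ normalizer (X : Set G))
    (hAY : A ≤ normalizer (Y : Set G))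
    (hCX : K ⊓ centralizer (A : Set G) ≤ normalizer (X : Set G))
    (h : ∀ a ∈ A, a ≠ 1 → ((K ⊓ centralizer {a} : Subgroup G) : Set G) =
      ((X ⊓ centralizer {a} : Subgroup G) : Set G) * ((Y ⊓ centralizer {a} : Subgroup G) : Set G)) :
    (K : Set G) = (X : Set G) * (Y : Set G) := by
  rw [coe_eq_mul_iff hX hY]
  refine Nat.eq_of_factorization_eq (Nat.mul_pos Nat.card_pos Nat.card_pos).ne'
    (Nat.mul_pos Nat.card_pos Nat.card_pos).ne' fun q => ?_
  by_cases hq : q.Prime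
  swap
  · rw [Nat.factorization_eq_zero_of_not_prime _ hq, Nat.factorization_eq_zero_of_not_prime _ hq]
  have := Fact.mk hq
  have hAp := elemAb_isPGroup hA
  have cX := coprime_card_of_le hX hK
  have cY := coprime_card_of_le hY hK
  have cD : (Nat.card ↥(X ⊓ Y)).Coprime p := coprime_card_of_le inf_le_left cX
  have hAD := inf_normalizer' hAX hAY
  obtain ⟨R, r1, r2⟩ := exists_inv_sylIn hAp hAD cD q
  obtain ⟨T, t1, t2, t3⟩ := exists_inv_sylIn_ge hAp hAY cY (r1.le.trans inf_le_right) r1.pg r2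
  obtain ⟨P, p1, p2, p3⟩ := exists_inv_sylIn_ge hAp hAK hK (t2.le.trans hY) t2.pg t3
  have s1 := p2.inf_of_inv hAp hAK hK p3 hX hAX hCX
  have s2 := inf_normalizer' p3 hAX
  have e : (P ⊓ X) ⊓ T = R := r1.eq_of_le (le_inf (le_inf (t1.trans p1)
    (r1.le.trans inf_le_left)) t1) (inf_le_inf inf_le_right t2.le) t2.pg.to_inf_right
  rw [← sylow_factor_iff p2 r1 s1 t2, ← e, ← coe_eq_mul_iff inf_le_left p1]
  refine Set.Subset.antisymm (fun c hc => ?_) ?_
  swap
  · rintro _ ⟨x, hx, y, hy, rfl⟩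
    exact P.mul_mem hx.1 (p1 hy)
  refine factor_nilpotent hA hA2 p2.pg.isNilpotent (coprime_card_of_le p2.le hK) p3 inf_le_left p1
    (fun a ha a1 => ?_) c hc
  have hz := elemAb_zpowers_isPGroup hA ha
  have z1 := zpowers_le.2 ha
  have h1 := (coe_eq_mul_iff (inf_le_inf_right _ hX) (inf_le_inf_right _ hY)).1 (h a ha a1)
  have h2 := (sylow_factor_iff (p2.inf_centralizer hz (z1.trans hAK) hK (z1.trans p3))
    (r1.inf_centralizer hz (z1.trans hAD) cD (z1.trans r2))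
    (s1.inf_centralizer hz (z1.trans hAX) cX (z1.trans s2))
    (t2.inf_centralizer hz (z1.trans hAY) cY (z1.trans t3))).2 (by
      rw [centralizer_zpowers, inf_inf_distrib_right, h1])
  rw [centralizer_zpowers, ← e, inf_inf_distrib_right _ T,
    ← coe_eq_mul_iff (inf_le_inf_right _ inf_le_left) (inf_le_inf_right _ p1)] at h2
  intro d hd
  obtain ⟨x, hx, y, hy, e⟩ := h2.subset hd
  exact ⟨x, hx.1, y, hy.1, e⟩

/-- generation by a family of pieces, in a solvable group -/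
theorem inf_centralizer_le_of_generated {ι : Type*} {A B H : Subgroup G} (hB : IsPGroup p B)
    (Δ : ι → Subgroup G) (hBA : B ≤ A) (hΔ : ∀ i, A ≤ normalizer (Δ i : Set G))
    (hH : ∀ i, Δ i ⊓ centralizer (B : Set G) ≤ H)
    (hcomm : ∀ V W : Subgroup G, (Nat.card V).Coprime p → A ≤ normalizer (V : Set G) →
      (∀ k, V ⊓ Δ k ≤ W) → ∀ i j, ⁅Δ i, Δ j⁆ ⊓ V ≤ W)
    {U : Subgroup G} (hs : Group.IsSolvable U) (hc : (Nat.card U).Coprime p)
    (hA : A ≤ normalizer (U : Set G)) (hU : U ≤ ⨆ i, U ⊓ Δ i) :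
    U ⊓ centralizer (B : Set G) ≤ H := by
  induction hn : Nat.card U using Nat.strong_induction_on generalizing U with
  | _ n ih => ?_
  subst hn
  by_cases h0 : U = ⊥
  · rw [h0]; exact inf_le_left.trans bot_le
  have hlt : ⁅U, U⁆ < U := lt_of_le_of_ne (commutator_le_self U) fun e =>
    h0 (perfect_solvable_eq_bot e hs)
  have hA' := comm_normalizer' hA hA
  have hc' := coprime_card_of_le hlt.le hc
  set M := ⨆ i, ⁅U, U⁆ ⊓ Δ i with hM
  have h1 : ∀ i j, ⁅U ⊓ Δ i, U ⊓ Δ j⁆ ≤ M := fun i j =>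
    (le_inf (commutator_mono inf_le_right inf_le_right)
      (commutator_mono inf_le_left inf_le_left)).trans
      (hcomm _ M hc' hA' (le_iSup fun i => ⁅U, U⁆ ⊓ Δ i) i j)
  have h2 : U ≤ normalizer (M : Set G) := by
    refine hU.trans (iSup_le fun j => le_normalizer_iff.2 fun g hg x hx => ?_)
    induction hx using iSup_induction' with
    | hp i x hx =>
      have : g * x * g⁻¹ = ⁅g, x⁆ * x := by simp [commutatorElement_def]
      rw [this]
      exact M.mul_mem (h1 j i (commutator_mem_commutator hg ⟨hlt.le hx.1, hx.2⟩))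
        (le_iSup (fun i => ⁅U, U⁆ ⊓ Δ i) i hx)
    | h1 => simp
    | hmul x y _ _ a b => simpa [mul_assoc] using M.mul_mem a b
  have h3 : ⁅U, U⁆ ≤ M := by
    have k1 : ∀ C : Subgroup G, (∀ i, ⁅U ⊓ Δ i, C⁆ ≤ M) → ⁅U, C⁆ ≤ M := fun C h =>
      (commutator_mono hU le_rfl).trans (comm_sSup_left_le (by
        rintro _ ⟨i, rfl⟩; exact inf_le_left.trans h2) (by rintro _ ⟨i, rfl⟩; exact h i))
    refine k1 _ fun i => ?_
    rw [Subgroup.commutator_comm]
    exact k1 _ fun j => h1 j i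
  have h4 := ih _ (Core.card_lt_of_lt hlt) (solvable_of_le hlt.le hs) hc' hA' h3 rfl
  obtain ⟨V, v0, ⟨v1, v2, v3⟩, hmax⟩ := Core.exists_maximal_ge (P := fun V : Subgroup G =>
    V ≤ U ∧ A ≤ normalizer (V : Set G) ∧ V ⊓ centralizer (B : Set G) ≤ H) ⟨hlt.le, hA', h4⟩
  refine le_trans (inf_le_inf_right _ (hU.trans (iSup_le fun i => ?_))) v3
  have n1 : U ⊓ Δ i ≤ normalizer (V : Set G) := le_normalizer_iff_commutator_le_left.2
    ((commutator_mono v1 inf_le_left).trans v0)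
  have n2 := inf_normalizer' hA (hΔ i)
  refine le_sup_left.trans (hmax _ ⟨sup_le inf_le_left v1, sup_normalizer' n2 v2, ?_⟩
    le_sup_right).le
  exact (inf_centralizer_sup_le hB (hBA.trans n2) (hBA.trans v2)
    (coprime_card_of_le inf_le_left hc) n1).trans
    (sup_le ((inf_le_inf_right _ inf_le_right).trans (hH i)) v3)

theorem exists_le_card_eq_pow {B : Subgroup G} (hB : IsPGroup p B) {k : ℕ}
    (h : p ^ k ≤ Nat.card B) : ∃ D ≤ B, Nat.card D = p ^ k := by
  obtain ⟨D, hD⟩ := Sylow.exists_subgroup_card_pow_prime_of_le_card hp.out hB h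
  exact ⟨D.map B.subtype, map_subtype_le _, by rwa [card_map_of_injective B.subtype_injective]⟩

omit hp in
theorem delta_normalizer {A D : Subgroup G} (h : A ≤ centralizer (D : Set G)) :
    A ≤ normalizer (signalizerDelta p D : Set G) :=
  le_normalizer_iff_mem.2 fun b hb u hu => mem_iInf.2 fun d => by
    rw [cppc_eq]
    exact le_normalizer_iff_mem.1 ((h.trans (centralizer_le
      (Set.singleton_subset_iff.2 d.2.1))).trans (Opp_normal _)) b hb u (delta_le d.2.1 d.2.2 hu)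

omit hp in
theorem iSup_normalizer' {ι : Sort*} {A : Subgroup G} {f : ι → Subgroup G}
    (h : ∀ i, A ≤ normalizer (f i : Set G)) : A ≤ normalizer ((⨆ i, f i : Subgroup G) : Set G) :=
  fun g hg => mem_normalizer_of_map_conj_eq (by
    rw [Subgroup.map_iSup]
    exact iSup_congr fun i => map_conj_eq_of_mem_normalizer (h i hg))

end Cfsg.Agent.Comp
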