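import Cfsg.Agent.Comp.PLocal
import Cfsg.Agent.Blk.ZStar

/-! Glauberman's theorem on automorphisms centralizing a Sylow 2-subgroup, and `L`-balance. -/

set_option autoImplicit false

namespace Cfsg.Agent.Comp

open Subgroup
open scoped commutatorElement

variable {G : Type*} [Group G] {p : ℕ}

/-- `C' O^p(C)` -/
def Res (p : ℕ) (C : Subgroup G) : Subgroup G :=
  ⁅C, C⁆ ⊔ closure {x | x ∈ C ∧ (orderOf x).Coprime p}

theorem Res_le {C D : Subgroup G} (h1 : ⁅C, C⁆ ≤ D) (h2 : ∀ x ∈ C, (orderOf x).Coprime p → x ∈ D) :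
    Res p C ≤ D := sup_le h1 ((closure_le _).2 fun x hx => h2 x hx.1 hx.2)

theorem Res_map_le {G' : Type*} [Group G'] (f : G →* G') {C : Subgroup G} {D : Subgroup G'}
    (h : C.map f ≤ D) : (Res p C).map f ≤ Res p D :=
  map_le_iff_le_comap.2 (Res_le (map_le_iff_le_comap.1 (by
    rw [map_commutator]; exact (commutator_mono h h).trans le_sup_left)) fun x hx hc =>
      mem_sup_right (subset_closure ⟨h (mem_map_of_mem f hx),
        Nat.Coprime.coprime_dvd_left (orderOf_map_dvd f x) hc⟩))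

theorem Res_mono {C D : Subgroup G} (h : C ≤ D) : Res p C ≤ Res p D := by
  simpa using Res_map_le (p := p) (MonoidHom.id G) (C := C) (D := D) (by simpa)

theorem Res_le_self {C : Subgroup G} : Res p C ≤ C := Res_le (commutator_le_self C) fun _ h _ => h

variable [Finite G] [Fact p.Prime]

theorem SylIn.le_sup_Opp {Z W : Subgroup G} (h : SylIn p Z W) (hc : ⁅Z, W⁆ = ⊥) :
    W ≤ Z ⊔ Opp p W := by
  obtain ⟨P, rfl⟩ := h.exists_sylow
  have h1 : normalizer ((P : Subgroup W) : Set W) ≤ centralizer ((P : Subgroup W) : Set W) :=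
    fun g _ x hx => Subtype.ext (comm_bot_iff.1 hc x (mem_map_of_mem _ hx) g g.2)
  have h2 := (MonoidHom.ker_transferSylow_isComplement' P h1).sup_eq_top
  conv_lhs => rw [← map_top_subtype W, ← h2, Subgroup.map_sup, sup_comm]
  refine sup_le_sup_left ?_ _
  rw [← Opp_eq, ← Opp_top]
  exact map_mono (le_Opp le_top le_normalizer_of_normal
    (coprime_iff_not_dvd'.2 (MonoidHom.not_dvd_card_ker_transferSylow P h1)))

theorem comm_mem_of_Res {C W Z O : Subgroup G} (h1 : C ≤ normalizer (O : Set G)) (h2 : W ≤ C)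
    (h3 : W ≤ Z ⊔ O) (h4 : O ≤ W) (h5 : ⁅Z, C⁆ = ⊥) (h6 : IsPGroup p Z) (h7 : Z ≤ W) {n u : G}
    (hn : ∀ k ∈ C, ⁅n, k⁆ ∈ W) (hu : u ∈ Res p C) : ⁅n, u⁆ ∈ O := by
  have := (normal_subgroupOf_iff_le_normalizer h4).2 (h2.trans h1)
  have k1 : ∀ w ∈ W, ∃ z ∈ Z, ∃ o ∈ O, z * o = w := fun w hw =>
    (mem_sup_of_normalizes (h7.trans (h2.trans h1))).1 (h3 hw)
  have k2 : ∀ k ∈ C, ∀ w ∈ W, w⁻¹ * (k * w * k⁻¹) ∈ O := fun k hk w hw => by
    obtain ⟨z, z1, o, o1, rfl⟩ := k1 w hw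
    rw [← mul_assoc k, ← comm_bot_iff.1 h5 z z1 k hk]
    convert mul_mem (inv_mem o1) ((mem_normalizer_iff.1 (h1 hk) o).1 o1) using 1
    group
  let φ : C →* W ⧸ O.subgroupOf W := MonoidHom.mk' (fun k => QuotientGroup.mk ⟨_, hn k k.2⟩)
    fun a b => by
      rw [← QuotientGroup.mk_mul, eq_comm, QuotientGroup.eq, mem_subgroupOf]
      convert k2 a a.2 _ (hn b b.2) using 1
      simp only [coe_mul, coe_inv, commutatorElement_def]
      group
  have k3 : ∀ k : C, φ k = 1 → ⁅n, (k : G)⁆ ∈ O := fun k hk =>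
    (QuotientGroup.eq_one_iff (N := O.subgroupOf W) ⟨_, hn k k.2⟩).1 hk
  suffices Res p C ≤ φ.ker.map C.subtype by
    obtain ⟨k, hk, rfl⟩ := this hu
    exact k3 k hk
  refine Res_le (commutator_le.2 fun a ha b hb => ⟨⁅(⟨a, ha⟩ : C), (⟨b, hb⟩ : C)⁆, ?_, rfl⟩)
    fun x hx hc => ⟨⟨x, hx⟩, ?_, rfl⟩
  · change φ _ = 1
    rw [map_commutatorElement, commutatorElement_eq_one_iff_mul_comm]
    obtain ⟨v, hv⟩ := QuotientGroup.mk_surjective (φ ⟨a, ha⟩)
    obtain ⟨w, hw⟩ := QuotientGroup.mk_surjective (φ ⟨b, hb⟩)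
    rw [← hv, ← hw, ← QuotientGroup.mk_mul, ← QuotientGroup.mk_mul, QuotientGroup.eq, mem_subgroupOf]
    convert (mem_normalizer_iff''.1 (h1 (h2 w.2)) _).1 (k2 w (h2 w.2) v v.2) using 1
    simp only [coe_mul, coe_inv]
    group
  · obtain ⟨z, z1, o, o1, e⟩ := k1 _ (hn x hx)
    obtain ⟨k, hk⟩ := h6 ⟨z, z1⟩
    refine eq_one_of_pow_of_coprime (p := p) (k := k) ?_ (Nat.Coprime.coprime_dvd_left
      ((orderOf_map_dvd φ _).trans (by rw [orderOf_mk])) hc)
    have : φ ⟨x, hx⟩ = QuotientGroup.mk ⟨z, h7 z1⟩ := (QuotientGroup.eq.2 (by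
      rw [mem_subgroupOf]; simpa [← e] using o1)).symm
    rw [this, ← QuotientGroup.mk_pow, show (⟨z, h7 z1⟩ : W) ^ p ^ k = 1 from
      Subtype.ext (congrArg Subtype.val hk :), QuotientGroup.mk_one]

theorem local_cent {E D R : Subgroup G} [hE : E.Normal] {u : G} (hR : R ≤ centralizer {u})
    (hu : u ∈ Res p (centralizer ((R ⊓ E : Subgroup G) : Set G))) (h1 : u ∈ D) (h2 : D ≤ R)
    (h3 : R ≤ zpowers u ⊔ E)
    (hN : SylIn p (R ⊓ normalizer (D : Set G)) ((zpowers u ⊔ E) ⊓ normalizer (D : Set G)))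
    (hC : R ⊓ centralizer (D : Set G) ≤ D) :
    (zpowers u ⊔ E) ⊓ normalizer (D : Set G) ≤ centralizer {u} := by
  have pD : IsPGroup p D := hN.pg.to_le (le_inf h2 le_normalizer)
  have e1 : D = zpowers u ⊔ E ⊓ D := by
    rw [← Core.inf_sup_dedekind' le_normalizer_of_normal (zpowers_le.2 h1), inf_eq_right.2 (h2.trans h3)]
  set W := E ⊓ centralizer ((E ⊓ D : Subgroup G) : Set G) with hW
  have n1 : normalizer (D : Set G) ≤ normalizer ((E ⊓ D : Subgroup G) : Set G) :=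
    inf_normalizer' le_normalizer_of_normal le_rfl
  have n2 : normalizer ((E ⊓ D : Subgroup G) : Set G) ≤ normalizer (W : Set G) :=
    inf_normalizer' le_normalizer_of_normal (centralizer_normalizer _)
  have s1 : SylIn p D (D ⊔ W) := sylIn_of_maximal le_sup_left pD fun Q q1 q2 q3 => by
    by_contra q4
    refine (Core.lt_inf_normalizer_of_isNilpotent q3.isNilpotent (lt_of_le_not_ge q1 q4)).not_ge ?_
    obtain ⟨m, m1, m2⟩ := hN.le_conj (Q := Q ⊓ normalizer (D : Set G)) (inf_le_inf_right _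
      (q2.trans (sup_le (h2.trans h3) (inf_le_left.trans le_sup_right)))) q3.to_inf_left
    intro q hq
    have a1 : m⁻¹ * q * m ∈ (D ⊔ W) ⊓ R := ⟨(mem_normalizer_iff''.1
      (sup_normalizer' le_rfl (n1.trans n2) m1.2) q).1 (q2 hq.1), (mem_map_conj.1 (m2 hq)).1⟩
    rw [Core.inf_sup_dedekind' (le_normalizer.trans (n1.trans n2)) h2] at a1
    refine (mem_normalizer_iff''.1 m1.2 q).2 ((sup_le le_rfl fun x hx => hC ⟨hx.2, ?_⟩ :
      D ⊔ W ⊓ R ≤ D) a1)
    rw [e1, centralizer_sup, centralizer_zpowers]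
    exact ⟨hR hx.2, hx.1.2⟩
  have s2 := s1.inf_normal le_sup_right (le_normalizer.trans (n1.trans n2))
  have c1 : ⁅D ⊓ W, centralizer ((E ⊓ D : Subgroup G) : Set G)⁆ = ⊥ :=
    comm_bot_iff.2 fun a ha b hb => hb a ⟨ha.2.1, ha.1⟩
  rintro n ⟨n3, n4⟩
  obtain ⟨v, v1, e, e2, rfl⟩ := (mem_sup_of_normalizes le_normalizer_of_normal).1 n3
  have e3 : e ∈ normalizer (D : Set G) :=
    (mul_mem_cancel_left (le_normalizer (zpowers_le.2 h1 v1))).1 n4
  refine mul_mem (zpowers_le.2 (mem_centralizer_singleton_iff.2 rfl) v1) ?_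
  have e4 := comm_mem_of_Res (n := e) ((centralizer_le_normalizer _).trans (n2.trans (Opp_normalizer W)))
    inf_le_right (s2.le_sup_Opp (comm_bot_mono c1 le_rfl inf_le_right)) Opp_le c1 s2.pg inf_le_right
    (fun k hk => ⟨by
      simpa [commutatorElement_def, mul_assoc] using mul_mem e2 (hE.conj_mem _ (inv_mem e2) k),
      Subgroup.mul_mem _ ((mem_normalizer_iff.1 (centralizer_normalizer _ (n1 e3)) k).1 hk) (inv_mem hk)⟩)
    (Res_mono (centralizer_le (SetLike.coe_subset_coe.2 (le_inf (inf_le_right.trans h2) inf_le_left))) hu)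
  exact mem_centralizer_singleton_iff.2 (commutatorElement_eq_one_iff_mul_comm.1
    ((inf_eq_bot_of_pgroup_coprime pD (Opp_coprime W)).le
      ⟨D.mul_mem ((mem_normalizer_iff.1 e3 u).1 h1) (inv_mem h1), e4⟩))

theorem weakly_closed {E S : Subgroup G} [hE : E.Normal] (hS : SylIn p S E) {u : G}
    (hp : IsPGroup p (zpowers u)) (hu : u ∈ Res p (centralizer (S : Set G))) {g : G}
    (hg : g ∈ zpowers u ⊔ E) (hc : Commute u (g * u * g⁻¹)) : g ∈ centralizer {u} := by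
  set H := zpowers u ⊔ E with hH
  have uH : u ∈ H := mem_sup_left (mem_zpowers u)
  have u1 : zpowers u ≤ centralizer (S : Set G) := zpowers_le.2 (Res_le_self hu)
  have uC : zpowers u ≤ centralizer {u} := zpowers_le.2 (mem_centralizer_singleton_iff.2 rfl)
  have r1 : SylIn p (zpowers u ⊔ S) H := ⟨sup_le_sup_left hS.le _,
    hp.to_sup_of_normal_right' hS.pg (u1.trans (centralizer_le_normalizer _)), fun h => hS.idx (h.trans (by
      rw [hH, show zpowers u ⊔ E = (zpowers u ⊔ S) ⊔ E by rw [sup_assoc, sup_eq_right.2 hS.le],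
        relIndex_sup_left' le_normalizer_of_normal]
      exact relIndex_dvd_of_le_left E le_sup_right))⟩
  have r2 : zpowers u ⊔ S ≤ centralizer {u} := sup_le uC (by
    rw [← centralizer_zpowers]; exact le_centralizer_iff.1 u1)
  have r3 := r1.restrict (le_inf r1.le r2) inf_le_left
  have good : ∀ Q, Q ≤ H → Q ≤ centralizer {u} → IsPGroup p Q →
      ∃ R, Q ≤ R ∧ SylIn p R H ∧ R ≤ centralizer {u} := fun Q q1 q2 q3 => by
    obtain ⟨c, c1, c2⟩ := r3.le_conj (le_inf q1 q2) q3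
    exact ⟨_, c2, r1.conj_self (le_normalizer c1.1), map_conj_le_of_mem r2 (le_normalizer c1.2)⟩
  have loc : ∀ R D, SylIn p R H → R ≤ centralizer {u} → u ∈ D → D ≤ R →
      SylIn p (R ⊓ normalizer (D : Set G)) (H ⊓ normalizer (D : Set G)) →
      R ⊓ centralizer (D : Set G) ≤ D → H ⊓ normalizer (D : Set G) ≤ centralizer {u} :=
    fun R D a1 a2 a3 a4 a5 a6 => by
      refine local_cent a2 ?_ a3 a4 a1.le a5 a6
      obtain ⟨c, c1, rfl⟩ := r3.conj (a1.restrict (le_inf a1.le a2) inf_le_left)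
      refine Res_map_le (MulAut.conj c).toMonoidHom ?_ ⟨u, hu, by
        simp [mem_centralizer_singleton_iff.1 c1.2]⟩
      rw [centralizer_map_conj]
      refine centralizer_le (SetLike.coe_subset_coe.2 fun x hx => mem_map_conj.2 ?_)
      exact (hS.eq_of_le (le_inf le_sup_right hS.le) inf_le_right r1.pg.to_inf_left).le
        ⟨mem_map_conj.1 hx.1, hE.conj_mem' x hx.2 c⟩
  have nobad : ∀ R, SylIn p R H → u ∈ R → R ≤ centralizer {u} := fun R a1 a2 => by
    by_contra a3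
    obtain ⟨D, -, ⟨d1, d2, d3, R, d4, d5, d6⟩, dm⟩ := Core.exists_maximal_ge
      (P := fun D : Subgroup G => u ∈ D ∧ D ≤ centralizer {u} ∧ D ≤ H ∧
        ∃ R, D ≤ R ∧ SylIn p R H ∧ ¬ R ≤ centralizer {u}) (H := zpowers u)
      ⟨mem_zpowers u, uC, le_sup_left, R, zpowers_le.2 a2, a1, a3⟩
    have pD := d5.pg.to_le d4
    have lt : ∀ R, SylIn p R H → D ≤ R → D < R ⊓ normalizer (D : Set G) := fun R' b1 b2 =>
      Core.lt_inf_normalizer_of_isNilpotent b1.pg.isNilpotent (lt_of_le_of_ne b2 fun e =>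
        d6 ((b1.eq_of_le (e ▸ d4) d5.le d5.pg).le.trans (e ▸ d2)))
    have mx : ∀ Q R, D ≤ Q → Q ≤ centralizer {u} → Q ≤ R → SylIn p R H →
        Q ≤ D ∨ R ≤ centralizer {u} := fun Q R b1 b2 b3 b4 => or_iff_not_imp_right.2 fun b5 =>
      (dm Q ⟨b1 d1, b2, b3.trans b4.le, R, b3, b4, b5⟩ b1).le
    have ex : ∀ R, SylIn p R H → D ≤ R → ∃ R', R ⊓ normalizer (D : Set G) ≤ R' ∧ SylIn p R' H ∧
        SylIn p (R' ⊓ normalizer (D : Set G)) (H ⊓ normalizer (D : Set G)) := fun R b1 b2 => by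
      obtain ⟨P, p1, p2⟩ := exists_sylIn_ge (inf_le_inf_right (normalizer (D : Set G)) b1.le)
        b1.pg.to_inf_left
      obtain ⟨R', p3, p4⟩ := exists_sylIn_ge (p2.le.trans inf_le_left) p2.pg
      exact ⟨R', p1.trans p3, p4, by rwa [p2.eq_of_le (le_inf p3 (p2.le.trans inf_le_right))
        (inf_le_inf_right _ p4.le) p4.pg.to_inf_left]⟩
    obtain ⟨R₀, b1, b2, b3⟩ := good D d3 d2 pD
    obtain ⟨R₂, b4, b5, b6⟩ := ex R₀ b2 b1
    obtain ⟨R₃, c4, c5, c6⟩ := ex R d5 d4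
    have k : ¬ R ⊓ normalizer (D : Set G) ≤ centralizer {u} := fun e =>
      (mx _ R (lt R d5 d4).le e inf_le_left d5).elim (lt R d5 d4).not_ge d6
    have cD : centralizer (D : Set G) ≤ centralizer {u} := centralizer_le (Set.singleton_subset_iff.2 d1)
    refine k ((inf_le_inf_right _ d5.le).trans (loc R₂ D b5 ((mx _ R₂ (lt R₀ b2 b1).le
      (inf_le_left.trans b3) b4 b5).resolve_left (lt R₀ b2 b1).not_ge) d1
      ((lt R₀ b2 b1).le.trans b4) b6 fun x hx => ?_))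
    obtain ⟨m, m1, m2⟩ := c6.le_conj b6.le b6.pg
    refine (mem_normalizer_iff''.1 m1.2 x).2 (((mx (D ⊔ R₃ ⊓ centralizer (D : Set G)) R₃ le_sup_left
      (sup_le d2 (inf_le_right.trans cD)) (sup_le ((lt R d5 d4).le.trans c4) inf_le_left) c5).resolve_right
      fun e => k (c4.trans e)) (mem_sup_right ⟨(mem_map_conj.1 (m2 ⟨hx.1, centralizer_le_normalizer _
        hx.2⟩)).1, (mem_normalizer_iff''.1 (centralizer_normalizer D m1.2) x).1 hx.2⟩))
  obtain ⟨R, a1, a2⟩ := exists_sylIn_ge (Q := zpowers u ⊔ zpowers (g * u * g⁻¹)) (H := H)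
    (sup_le le_sup_left (zpowers_le.2 (mul_mem (mul_mem hg uH) (inv_mem hg))))
    (hp.to_sup_of_normal_right' (by
      rw [show g * u * g⁻¹ = (MulAut.conj g).toMonoidHom u from rfl, ← MonoidHom.map_zpowers]
      exact hp.map _) ((zpowers_le.2 (by
        rw [centralizer_zpowers]; exact mem_centralizer_singleton_iff.2 hc.eq)).trans
        (centralizer_le_normalizer _)))
  have a3 : u ∈ R := a1 (mem_sup_left (mem_zpowers u))
  have a4 := a2.conj_self (le_normalizer (inv_mem hg))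
  have a5 := nobad R a2 a3
  have a6 := nobad _ a4 (mem_map_conj.2 (by simpa using a1 (mem_sup_right (mem_zpowers _))))
  obtain ⟨c, c1, c2⟩ := (a4.restrict (le_inf a4.le a6) inf_le_left).conj
    (a2.restrict (le_inf a2.le a5) inf_le_left)
  rw [map_conj_map_conj] at c2
  have := loc R R a2 a5 a3 le_rfl (by
    rw [inf_eq_left.2 le_normalizer]; exact a2.restrict (le_inf a2.le le_normalizer) inf_le_left)
    inf_le_left ⟨H.mul_mem c1.1 (inv_mem hg), mem_normalizer_of_map_conj_eq c2⟩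
  exact (inv_mem_iff (x := g)).1 ((mul_mem_cancel_left (mem_inf.1 c1).2).1 this)

omit [Fact p.Prime] in
/-- Glauberman -/
theorem comm_mem_Opp_of_Res {E S : Subgroup G} [hE : E.Normal] (hS : SylIn 2 S E) {u : G}
    (h2 : orderOf u = 2) (hu : u ∈ Res 2 (centralizer (S : Set G))) {e : G} (he : e ∈ E) :
    ⁅u, e⁆ ∈ Opp 2 E := by
  have h1 := Blk.zstar (G := ↥(zpowers u ⊔ E)) (t := ⟨u, mem_sup_left (mem_zpowers u)⟩)
    ⟨by rwa [orderOf_mk], fun g hg => Subtype.ext (mul_inv_eq_iff_eq_mul.2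
      (mem_centralizer_singleton_iff.1 (weakly_closed hS (isPGroup_zpowers_of_orderOf h2) hu g.2
        (hg.map (Subgroup.subtype _)))))⟩ ⟨e, mem_sup_right he⟩
  exact Opp_inf_le le_sup_right ⟨Opp_eq (p := 2) (zpowers u ⊔ E) ▸ mem_map_of_mem _ h1,
    E.mul_mem (hE.conj_mem e he u) (inv_mem he)⟩

omit [Fact p.Prime] in
theorem Opp_map_eq_bot {G' : Type*} [Group G'] [Finite G'] [Fact p.Prime] (f : G →* G') {E : Subgroup G}
    (hO : Opp p E = ⊥) (h1 : IsPGroup p ↥(E ⊓ f.ker)) (h2 : ⁅E ⊓ f.ker, E⁆ = ⊥) :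
    Opp p (E.map f) = ⊥ := by
  have e := map_comap_inf (Opp_le : Opp p (E.map f) ≤ _)
  have h3 : SylIn p (E ⊓ f.ker) ((Opp p (E.map f)).comap f ⊓ E) :=
    ⟨le_inf (inf_le_right.trans (ker_le_comap f _)) inf_le_left, h1, by
      rw [← inf_relIndex_right, inf_right_comm, inf_eq_right.2 inf_le_right, inf_comm,
        inf_relIndex_right, relIndex_ker, e]
      exact coprime_iff_not_dvd'.1 (Opp_coprime _)⟩
  have h4 := h3.le_sup_Opp (comm_bot_mono h2 le_rfl inf_le_right)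
  rw [le_bot_iff.1 ((SubIn.of_normal inf_le_right (normalizer_comap_inf (Opp_normal _))).Opp_mono.trans
    hO.le), sup_bot_eq] at h4
  rw [← e, Subgroup.map_eq_bot_iff]
  exact h4.trans inf_le_right

omit [Fact p.Prime] in
theorem PQS.le_centralizer_of_sylIn {E S K : Subgroup G} [hE : E.Normal] (h1 : ⁅E, E⁆ = E)
    (hO : Opp 2 E = ⊥) (hZ : IsPGroup 2 ↥(E ⊓ centralizer (E : Set G))) (hS : SylIn 2 S E)
    (hK : PQS 2 K) (h : K ≤ centralizer (S : Set G)) : K ≤ centralizer (E : Set G) := by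
  let f := QuotientGroup.mk' (centralizer (E : Set G))
  have hf : f.ker = centralizer (E : Set G) := QuotientGroup.ker_mk' _
  refine inf_eq_right.1 (hK.eq_of_index inf_le_right (inf_normalizer' le_normalizer_of_normal
    le_normalizer) fun h2 => ?_)
  rw [inf_relIndex_right, ← hf, relIndex_ker] at h2
  obtain ⟨_, ⟨u, u1, rfl⟩, u2⟩ := Core.exists_prime_orderOf_mem Nat.prime_two h2
  have := hE.map f (QuotientGroup.mk'_surjective _)
  have h3 : K.map f ≤ centralizer (S.map f : Set _) :=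
    (map_mono h).trans (map_centralizer_le_centralizer_image _ f)
  have h4 : f u ∈ Res 2 (centralizer (S.map f : Set _)) := mem_sup_left (commutator_mono h3 h3 (by
    rw [← map_commutator, hK.perfect]; exact mem_map_of_mem f u1))
  have h5 := Opp_map_eq_bot f hO (by rwa [hf]) (by
    rw [hf]; exact commutator_eq_bot_iff_le_centralizer.2 inf_le_right)
  have h6 : (⁅zpowers u, E⁆ : Subgroup G).map f = ⊥ := by
    rw [map_commutator, MonoidHom.map_zpowers, commutator_eq_bot_iff_le_centralizer, zpowers_le]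
    exact fun e he => (commutatorElement_eq_one_iff_mul_comm.1
      (h5.le (comm_mem_Opp_of_Res (hS.map f) u2 h4 he))).symm
  rw [Subgroup.map_eq_bot_iff, hf, ← commutator_eq_bot_iff_le_centralizer] at h6
  have h7 := commutator_eq_bot_iff_le_centralizer.1 (comm_bot_of_perfect h1 h6) (mem_zpowers u)
  rw [← hf, MonoidHom.mem_ker] at h7
  rw [h7, orderOf_one] at u2
  exact absurd u2 (by norm_num)

omit [Finite G] [Fact p.Prime] in
theorem PCompIn.exists_centralizing {Y : Type*} [Group Y] [Finite Y] [Fact p.Prime] {K P U : Subgroup Y}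
    (hK : PCompIn p K ⊤) (hP : IsPGroup p P) (h1 : P ≤ U) (h : ⁅U, K⁆ ≤ Opp p ⊤) :
    ∃ L, PCompIn p L (centralizer (P : Set Y)) ∧ K ≤ L ⊔ Opp p ⊤ ∧ L ≤ K ⊔ Opp p ⊤ := by
  let f := QuotientGroup.mk' (pPrimeCore p Y)
  have hf : f.ker = Opp p ⊤ := (QuotientGroup.ker_mk' _).trans Opp_top.symm
  have h2 := hK.map f (ker_coprime K)
  have h3 : K.map f ≤ (centralizer (P : Set Y)).map f := by
    rw [map_centralizer_eq f (QuotientGroup.mk'_surjective _) (hf ▸ Opp_coprime ⊤) hP,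
      le_centralizer_iff, ← commutator_eq_bot_iff_le_centralizer, ← map_commutator,
      Subgroup.map_eq_bot_iff, hf]
    exact (commutator_mono h1 le_rfl).trans h
  obtain ⟨L, l1, l2⟩ := (h2.restrict h3 (map_mono le_top)).exists_lift f (ker_coprime _)
  exact ⟨L, l1, hf ▸ map_le_map_iff.1 l2.ge, hf ▸ map_le_map_iff.1 l2.le⟩

theorem PCompIn.exists_centralizing' {Y K P U : Subgroup G} (hK : PCompIn p K Y) (hP : IsPGroup p P)
    (h1 : P ≤ U) (h2 : U ≤ Y) (h : ⁅U, K⁆ ≤ Opp p Y) :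
    ∃ L, PCompIn p L (Y ⊓ centralizer (P : Set G)) ∧ K ≤ L ⊔ Opp p Y ∧ L ≤ K ⊔ Opp p Y := by
  obtain ⟨K, rfl⟩ : ∃ K' : Subgroup Y, K'.map Y.subtype = K := ⟨_, map_subgroupOf_eq_of_le hK.le⟩
  obtain ⟨U, rfl⟩ : ∃ K' : Subgroup Y, K'.map Y.subtype = U := ⟨_, map_subgroupOf_eq_of_le h2⟩
  obtain ⟨P, rfl⟩ : ∃ K' : Subgroup Y, K'.map Y.subtype = P := ⟨_, map_subgroupOf_eq_of_le (h1.trans h2)⟩
  have i := Y.subtype_injective
  have e : Opp p Y = (Opp p ⊤).map Y.subtype := by rw [Opp_map i, map_top_subtype]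
  rw [e, ← map_commutator, map_le_map_iff_of_injective i] at h
  obtain ⟨L, l1, l2, l3⟩ := PCompIn.exists_centralizing (K := K) ((pcompIn_map_iff i).1 (by
    rwa [map_top_subtype])) ((isPGroup_map_iff i).1 hP) ((map_le_map_iff_of_injective i).1 h1) h
  refine ⟨L.map Y.subtype, ?_, ?_, ?_⟩
  · convert (pcompIn_map_iff i).2 l1
    ext x
    exact ⟨fun h => ⟨⟨x, h.1⟩, Core.mem_centralizer_map_subtype_iff.1 h.2, rfl⟩,
      fun ⟨y, h, e⟩ => e ▸ ⟨y.2, Core.mem_centralizer_map_subtype_iff.2 h⟩⟩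
  · rw [e, ← Subgroup.map_sup]; exact map_mono l2
  · rw [e, ← Subgroup.map_sup]; exact map_mono l3

omit [Fact p.Prime] in
theorem lbalance_aux (hO : Opp 2 (⊤ : Subgroup G) = ⊥) {T : Subgroup G} (hT : IsPGroup 2 T) :
    PLay 2 (centralizer (T : Set G)) ≤ Lay ⊤ := by
  by_contra h
  obtain ⟨T, -, ⟨hT, h⟩, hm⟩ := Core.exists_maximal_ge (P := fun T : Subgroup G => IsPGroup 2 T ∧
    ¬ PLay 2 (centralizer (T : Set G)) ≤ Lay ⊤) ⟨hT, h⟩
  have hE : (Lay (⊤ : Subgroup G)).Normal := normalizer_eq_top_iff.1 (top_le_iff.1 (Lay_normal ⊤))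
  have e1 := PLay_normalizer_eq (p := 2) (H := ⊤) hT le_top
  have e2 := OE_normalizer_le (p := 2) (H := ⊤) hT le_top
  rw [top_inf_eq, top_inf_eq] at e1 e2
  refine h (e1 ▸ PLay_le_iff.2 fun K hK => ?_)
  have u1 : SubIn (Lay ⊤ ⊓ normalizer (T : Set G)) (normalizer (T : Set G)) :=
    SubIn.of_normal inf_le_right (inf_normalizer' le_normalizer_of_normal le_normalizer)
  refine (hK.le_or_comm u1).elim (·.trans inf_le_left) fun h1 => ?_
  obtain ⟨R, r1, r2⟩ := exists_sylIn_ge (le_sup_left : T ≤ T ⊔ Lay ⊤) hT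
  by_cases h2 : R ≤ T
  · have s := r2.inf_normal le_sup_right le_normalizer_of_normal
    have k1 : K ≤ OE 2 (centralizer (T : Set G)) := (hK.le_PLay.trans e1.le).trans le_sup_left
    have k2 := hK.2.le_centralizer_of_sylIn (Lay_perfect ⊤)
      (le_bot_iff.1 ((Lay_subIn ⊤).Opp_mono.trans hO.le))
      ((Op_isPGroup ⊤).to_le (center_le_Op hO (Lay_subIn ⊤))) s
      ((k1.trans OE_le).trans (centralizer_le (SetLike.coe_subset_coe.2 (inf_le_left.trans h2))))
    have k3 := OE_centralizer_comm_Op (H := ⊤) hT le_normalizer_of_normal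
    rw [top_inf_eq] at k3
    refine absurd (le_Fit_of_comm_FStar le_top ?_) (hK.2.not_le_solvable (Fit_solvable ⊤))
    rw [FStar, Fit_eq_Op hO]
    exact comm_sup_right_bot (commutator_eq_bot_iff_le_centralizer.2 k2) (comm_bot_mono k3 k1 le_rfl)
  have h3 := Core.lt_inf_normalizer_of_isNilpotent r2.pg.isNilpotent (lt_of_le_not_ge r1 h2)
  obtain ⟨L, l1, l2, l3⟩ := hK.exists_centralizing' (P := R ⊓ (Lay ⊤ ⊓ normalizer (T : Set G)))
    r2.pg.to_inf_left inf_le_right inf_le_right h1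
  have h4 : R ⊓ normalizer (T : Set G) = T ⊔ R ⊓ (Lay ⊤ ⊓ normalizer (T : Set G)) := by
    rw [inf_left_comm, ← Core.inf_sup_dedekind' le_normalizer_of_normal h3.le,
      inf_eq_right.2 (inf_le_left.trans r2.le)]
  have h5 : L ≤ Lay ⊤ := by
    refine (PCompIn.le_PLay (l1.restrict ?_ ?_)).trans (by_contra fun h => h3.ne'
      (hm _ ⟨r2.pg.to_inf_left, h⟩ h3.le))
    · rw [h4, centralizer_sup]
      exact le_inf (l3.trans ((sup_le_sup_right hK.le_PLay _).trans e2)) (l1.le.trans inf_le_right)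
    · rw [h4, centralizer_sup]
      exact inf_le_inf_right _ (centralizer_le_normalizer _)
  exact (hK.le_of_le_sup u1 Opp_le (inf_le_right.trans (Opp_normal _)) (Opp_coprime _)
    (l2.trans (sup_le_sup_right (le_inf h5 (l1.le.trans inf_le_left)) _))).trans inf_le_left

theorem PQS.le_of_le_sup {X K U O : Subgroup G} (hK : PQS p K) (hX : K ≤ X)
    (hU : SubIn U X) (hO : O ≤ X) (hn : U ≤ normalizer (O : Set G))
    (hc : (Nat.card O).Coprime p) (h : K ≤ U ⊔ O) : K ≤ U := by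
  obtain ⟨T, hT⟩ := exists_sylIn p K
  have h1 : T ≤ U := by
    refine (hU.restrict le_sup_left (sup_le hU.le hO)).pgroup_le ?_ hT.pg (hT.le.trans h)
    rw [relIndex_sup_left' hn]
    exact fun hd => coprime_iff_not_dvd'.1 hc (hd.trans (relIndex_dvd_card U O))
  have h2 : SubIn (U ⊓ K) K := by
    have := hU.inf K
    rwa [inf_eq_right.2 hX] at this
  exact inf_eq_right.1 (hK.le_of_sylIn hT h2 (le_inf h1 hT.le))

omit [Fact p.Prime] in
/-- `L`-balance -/
theorem lbalance {T : Subgroup G} (hT : IsPGroup 2 T) :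
    PLay 2 (centralizer (T : Set G)) ≤ PLay 2 ⊤ := by
  let f := QuotientGroup.mk' (pPrimeCore 2 G)
  have hf : f.ker = Opp 2 ⊤ := (QuotientGroup.ker_mk' _).trans Opp_top.symm
  have h := lbalance_aux Opp_quot (hT.map f)
  rw [← map_centralizer_eq f (QuotientGroup.mk'_surjective _) (hf ▸ Opp_coprime ⊤) hT,
    ← PLay_map_of_coprime f (ker_coprime _), Lay_top, ← PLay_map_quot, Subgroup.map_le_map_iff, hf] at h
  exact PLay_le_iff.2 fun K hK => hK.2.le_of_le_sup le_top (PLay_subIn ⊤) le_top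
    (le_top.trans (Opp_normal ⊤)) (Opp_coprime ⊤) (hK.le_PLay.trans h)

end Cfsg.Agent.Comp
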