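import Cfsg.Agent.Comp.Rad

/-! Ambient layer `Lay` and generalized Fitting subgroup `FStar`. -/

set_option autoImplicit false

namespace Cfsg.Agent.Comp

open Subgroup
open scoped commutatorElement

variable {G : Type*} [Group G]

/-- `E(H)` inside `G` -/
def Lay (H : Subgroup G) : Subgroup G := sSup {K | CompIn K H}
/-- `F*(H)` inside `G` -/
def FStar (H : Subgroup G) : Subgroup G := Lay H ⊔ Fit H

theorem subIn_map_iff {G' : Type*} [Group G'] {f : G →* G'} (hf : Function.Injective f)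
    {K H : Subgroup G} : SubIn (K.map f) (H.map f) ↔ SubIn K H := by
  refine ⟨fun h => ?_, fun h => h.map f⟩
  have := h.comap f
  rwa [comap_map_eq_self_of_injective hf, comap_map_eq_self_of_injective hf] at this

theorem compIn_map_iff {G' : Type*} [Group G'] {f : G →* G'} (hf : Function.Injective f)
    {K H : Subgroup G} : CompIn (K.map f) (H.map f) ↔ CompIn K H :=
  ⟨fun h => ⟨(subIn_map_iff hf).1 h.1, (qs_map_iff hf).1 h.2⟩, fun h => h.map_inj hf⟩

theorem Lay_top : Lay (⊤ : Subgroup G) = layer G := by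
  unfold Lay layer; congr 1; ext K; exact compIn_top

theorem CompIn.le_Lay {K H : Subgroup G} (h : CompIn K H) : K ≤ Lay H := le_sSup h

theorem Lay_le_iff {H X : Subgroup G} : Lay H ≤ X ↔ ∀ K, CompIn K H → K ≤ X := sSup_le_iff

theorem Lay_le {H : Subgroup G} : Lay H ≤ H := Lay_le_iff.2 fun _ h => h.le

theorem Lay_map_le {G' : Type*} [Group G'] (f : G →* G') (H : Subgroup G) :
    (Lay H).map f ≤ Lay (H.map f) := by
  rw [map_le_iff_le_comap, Lay_le_iff]
  intro K hK
  rw [← map_le_iff_le_comap]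
  by_cases h : K.map f = ⊥
  · rw [h]; exact bot_le
  · exact (hK.map_of_ne_bot f h).le_Lay

theorem Lay_map {G' : Type*} [Group G'] {f : G →* G'} (hf : Function.Injective f)
    (H : Subgroup G) : (Lay H).map f = Lay (H.map f) := by
  refine le_antisymm (Lay_map_le f H) (Lay_le_iff.2 fun K hK => ?_)
  have h1 : (K.comap f).map f = K := map_comap_eq_self (hK.le.trans (map_le_range f H))
  rw [← h1] at hK ⊢
  exact map_mono ((compIn_map_iff hf).1 hK).le_Lay

theorem Lay_eq (H : Subgroup G) : (layer H).map H.subtype = Lay H := by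
  rw [← Lay_top, Lay_map H.subtype_injective, map_top_subtype]

theorem FStar_top : FStar (⊤ : Subgroup G) = generalizedFittingSubgroup G := by
  rw [FStar, Lay_top, Fit_top]; rfl

theorem FStar_map {G' : Type*} [Group G'] {f : G →* G'} (hf : Function.Injective f)
    (H : Subgroup G) : (FStar H).map f = FStar (H.map f) := by
  rw [FStar, Subgroup.map_sup, Lay_map hf, Fit_map hf]; rfl

theorem FStar_map_le {G' : Type*} [Group G'] (f : G →* G') (H : Subgroup G) :
    (FStar H).map f ≤ FStar (H.map f) := by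
  rw [FStar, Subgroup.map_sup]; exact sup_le_sup (Lay_map_le f H) (Fit_map_le f H)

theorem FStar_eq (H : Subgroup G) : (generalizedFittingSubgroup H).map H.subtype = FStar H := by
  rw [← FStar_top, FStar_map H.subtype_injective, map_top_subtype]

theorem FStar_le {H : Subgroup G} : FStar H ≤ H := sup_le Lay_le Fit_le
theorem Lay_le_FStar {H : Subgroup G} : Lay H ≤ FStar H := le_sup_left
theorem Fit_le_FStar {H : Subgroup G} : Fit H ≤ FStar H := le_sup_right

theorem Lay_normalizer (H : Subgroup G) : normalizer (H : Set G) ≤ normalizer (Lay H : Set G) := by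
  intro g hg
  apply mem_normalizer_of_map_conj_eq
  rw [Lay_map (MulAut.conj g).injective, map_conj_eq_of_mem_normalizer hg]

theorem FStar_normalizer (H : Subgroup G) :
    normalizer (H : Set G) ≤ normalizer (FStar H : Set G) :=
  (le_inf (Lay_normalizer H) (Fit_normalizer H)).trans
    (normalizer_inf_normalizer_le_normalizer_sup _ _)

theorem Lay_normal (H : Subgroup G) : H ≤ normalizer (Lay H : Set G) :=
  le_normalizer.trans (Lay_normalizer H)
theorem FStar_normal (H : Subgroup G) : H ≤ normalizer (FStar H : Set G) :=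
  le_normalizer.trans (FStar_normalizer H)

theorem Lay_subIn (H : Subgroup G) : SubIn (Lay H) H := SubIn.of_normal Lay_le (Lay_normal H)
theorem FStar_subIn (H : Subgroup G) : SubIn (FStar H) H :=
  SubIn.of_normal FStar_le (FStar_normal H)

theorem SubIn.Lay_mono {K H : Subgroup G} (h : SubIn K H) : Lay K ≤ Lay H :=
  Lay_le_iff.2 fun _ hL => (hL.trans h).le_Lay

theorem SubIn.FStar_mono [Finite G] {K H : Subgroup G} (h : SubIn K H) : FStar K ≤ FStar H :=
  sup_le_sup h.Lay_mono h.Fit_mono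

theorem Lay_le_Lay_of_le {K H : Subgroup G} (h : K ≤ H) (h2 : Lay H ≤ K) : Lay H ≤ Lay K :=
  Lay_le_iff.2 fun _ hL => (hL.restrict (hL.le_Lay.trans h2) h).le_Lay

theorem Lay_Lay (H : Subgroup G) : Lay (Lay H) = Lay H :=
  le_antisymm Lay_le (Lay_le_Lay_of_le Lay_le le_rfl)

theorem QS.compIn_self {K : Subgroup G} (h : QS K) : CompIn K K := ⟨SubIn.refl K, h⟩

theorem sSup_perfect {S : Set (Subgroup G)} (h : ∀ K ∈ S, ⁅K, K⁆ = K) :
    ⁅sSup S, sSup S⁆ = sSup S := by
  refine le_antisymm (commutator_le_self _) (sSup_le fun K hK => ?_)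
  rw [← h K hK]
  exact commutator_mono (le_sSup hK) (le_sSup hK)

theorem Lay_perfect (H : Subgroup G) : ⁅Lay H, Lay H⁆ = Lay H :=
  sSup_perfect fun _ hK => hK.2.perfect

theorem Lay_eq_bot_iff {H : Subgroup G} : Lay H = ⊥ ↔ ∀ K, ¬ CompIn K H := by
  rw [eq_bot_iff, Lay_le_iff]
  exact ⟨fun h K hK => hK.2.ne_bot (le_bot_iff.1 (h K hK)), fun h K hK => absurd hK (h K)⟩

theorem Lay_eq_bot_of_solvable {H : Subgroup G} (h : Group.IsSolvable H) : Lay H = ⊥ :=
  perfect_solvable_eq_bot (Lay_perfect H) (solvable_of_le Lay_le h)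

theorem CompIn.Lay_normalizes [Finite G] {K H : Subgroup G} (h : CompIn K H) :
    Lay H ≤ normalizer (K : Set G) := by
  refine Lay_le_iff.2 fun L hL => ?_
  rcases hL.eq_or_comm h with rfl | h1
  · exact le_normalizer
  · exact normalizes_of_comm_bot h1

theorem Lay_comm_of_solvable [Finite G] {H S : Subgroup G} (hS : S ≤ H) (hs : Group.IsSolvable S)
    (hn : Lay H ≤ normalizer (S : Set G)) : ⁅Lay H, S⁆ = ⊥ :=
  comm_sSup_left_bot fun _ hK => hK.comm_of_solvable hS hs (hK.le_Lay.trans hn)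

theorem Lay_comm_Fit [Finite G] (H : Subgroup G) : ⁅Lay H, Fit H⁆ = ⊥ :=
  Lay_comm_of_solvable Fit_le (Fit_solvable H) (Lay_le.trans (Fit_normal H))

theorem CompIn.FStar_normalizes [Finite G] {K H : Subgroup G} (h : CompIn K H) :
    FStar H ≤ normalizer (K : Set G) :=
  sup_le h.Lay_normalizes
    (normalizes_of_comm_bot (comm_bot_symm (comm_bot_mono (Lay_comm_Fit H) h.le_Lay le_rfl)))

/-- a component inside a join of components is one of them -/
theorem CompIn.mem_of_le_sSup [Finite G] {K H : Subgroup G} (h : CompIn K H)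
    {S : Set (Subgroup G)} (hS : ∀ L ∈ S, CompIn L H) (hle : K ≤ sSup S) : K ∈ S := by
  by_contra hn
  refine h.2.not_comm (comm_bot_mono (comm_sSup_left_bot (C := K) fun L hL => ?_) hle le_rfl)
  rcases (hS L hL).eq_or_comm h with rfl | h1
  · exact absurd hL hn
  · exact h1

/-- the components not contained in `U` -/
def LayOut (H U : Subgroup G) : Subgroup G := sSup {K | CompIn K H ∧ ¬ K ≤ U}

theorem LayOut_le {H U : Subgroup G} : LayOut H U ≤ Lay H := sSup_le fun _ h => h.1.le_Lay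

theorem SubIn.LayOut_comm [Finite G] {H U : Subgroup G} (h : SubIn U H) : ⁅LayOut H U, U⁆ = ⊥ :=
  comm_sSup_left_bot fun _ hK => comm_bot_symm ((hK.1.le_or_comm h).resolve_left hK.2)

theorem Lay_le_sup_LayOut {H U : Subgroup G} (h : U ≤ H) : Lay H ≤ Lay U ⊔ LayOut H U := by
  refine Lay_le_iff.2 fun K hK => ?_
  by_cases hU : K ≤ U
  · exact (hK.restrict hU h).le_Lay.trans le_sup_left
  · exact (le_sSup (s := {K | CompIn K H ∧ ¬ K ≤ U}) ⟨hK, hU⟩).trans le_sup_right

theorem SubIn.Lay_split {H U : Subgroup G} (h : SubIn U H) : Lay H = Lay U ⊔ LayOut H U :=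
  le_antisymm (Lay_le_sup_LayOut h.le) (sup_le h.Lay_mono LayOut_le)

theorem center_map_subtype (H : Subgroup G) :
    (center H).map H.subtype = H ⊓ centralizer (H : Set G) := by
  ext x
  simp only [mem_map, mem_center_iff, Subtype.forall, coe_subtype, Subtype.exists, mem_inf,
    mem_centralizer_iff, SetLike.mem_coe]
  constructor
  · rintro ⟨a, ha, h, rfl⟩
    exact ⟨ha, fun g hg => congrArg Subtype.val (h g hg)⟩
  · rintro ⟨h1, h2⟩
    exact ⟨x, h1, fun g hg => Subtype.ext (h2 g hg), rfl⟩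

theorem centralizer_normalizer (H : Subgroup G) :
    normalizer (H : Set G) ≤ normalizer (centralizer (H : Set G) : Set G) := by
  rw [le_normalizer_iff]
  intro g hg c hc h hh
  have h1 : g⁻¹ * h * g ∈ H := by
    have := (mem_normalizer_iff.1 (inv_mem hg) h).1 hh
    simpa using this
  have := hc _ h1
  calc h * (g * c * g⁻¹) = g * ((g⁻¹ * h * g) * c) * g⁻¹ := by group
    _ = g * (c * (g⁻¹ * h * g)) * g⁻¹ := by rw [this]
    _ = g * c * g⁻¹ * h := by group

theorem inf_normalizer' {A B H : Subgroup G} (h1 : H ≤ normalizer (A : Set G))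
    (h2 : H ≤ normalizer (B : Set G)) : H ≤ normalizer ((A ⊓ B : Subgroup G) : Set G) :=
  (le_inf h1 h2).trans inf_normalizer_le_normalizer_inf

theorem sup_normalizer' {A B H : Subgroup G} (h1 : H ≤ normalizer (A : Set G))
    (h2 : H ≤ normalizer (B : Set G)) : H ≤ normalizer ((A ⊔ B : Subgroup G) : Set G) :=
  (le_inf h1 h2).trans (normalizer_inf_normalizer_le_normalizer_sup _ _)

theorem comm_normalizer' {A B H : Subgroup G} (h1 : H ≤ normalizer (A : Set G))
    (h2 : H ≤ normalizer (B : Set G)) : H ≤ normalizer ((⁅A, B⁆ : Subgroup G) : Set G) := by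
  intro g hg
  apply mem_normalizer_of_map_conj_eq
  rw [map_commutator, map_conj_eq_of_mem_normalizer (h1 hg), map_conj_eq_of_mem_normalizer (h2 hg)]

theorem center_le_Fit {N H : Subgroup G} (h1 : N ≤ H) (h2 : H ≤ normalizer (N : Set G)) :
    N ⊓ centralizer (N : Set G) ≤ Fit H := by
  refine le_Fit (inf_le_left.trans h1) (inf_normalizer' h2 (h2.trans (centralizer_normalizer N)))
    (nilpotent_of_comm_bot ?_)
  rw [commutator_eq_bot_iff_le_centralizer]
  exact inf_le_right.trans (centralizer_le (SetLike.coe_subset_coe.2 inf_le_left))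

theorem center_Lay [Finite G] (H : Subgroup G) :
    Lay H ⊓ centralizer (Lay H : Set G) = Fit H ⊓ Lay H := by
  refine le_antisymm (le_inf (center_le_Fit Lay_le (Lay_normal H)) inf_le_left)
    (le_inf inf_le_right (inf_le_left.trans ?_))
  exact commutator_eq_bot_iff_le_centralizer.1 (comm_bot_symm (Lay_comm_Fit H))

/-- subgroups subnormal in `F*(H)` are their own `F*` -/
theorem FStar_eq_self_of_subIn [Finite G] {S H : Subgroup G} (h : SubIn S (FStar H)) :
    FStar S = S := by
  have hS : SubIn S H := h.trans (FStar_subIn H)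
  refine le_antisymm FStar_le fun s hs => ?_
  have h1 : s ∈ Lay S ⊔ (LayOut H S ⊔ Fit H) := by
    rw [← sup_assoc, ← hS.Lay_split]; exact h.le hs
  have hc := hS.LayOut_comm
  have hc2 : ⁅LayOut H S, Fit H⁆ = ⊥ := comm_bot_mono (Lay_comm_Fit H) LayOut_le le_rfl
  have hc3 : ⁅Lay S, LayOut H S⁆ = ⊥ := comm_bot_symm (comm_bot_mono hc le_rfl Lay_le)
  obtain ⟨a, ha, y, hy, rfl⟩ := (mem_sup_of_normalizes (normalizes_of_comm_bot
    (comm_sup_right_bot hc3 (comm_bot_mono (Lay_comm_Fit H) hS.Lay_mono le_rfl)))).1 h1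
  obtain ⟨b, hb, f, hf, rfl⟩ := (mem_sup_of_normalizes (normalizes_of_comm_bot hc2)).1 hy
  have hbf : b * f ∈ S := by
    have := S.mul_mem (S.inv_mem (Lay_le ha)) hs
    simpa using this
  refine mul_mem_sup ha ?_
  rw [hS.Fit_eq]
  refine ⟨(Fit H).mul_mem ?_ hf, hbf⟩
  have : b ∈ Lay H ⊓ centralizer (Lay H : Set G) := by
    refine ⟨LayOut_le hb, ?_⟩
    have h5 : Lay S ⊔ LayOut H S ≤ centralizer {b} := by
      refine sup_le (fun x hx => ?_) (fun x hx => ?_) <;> rw [mem_centralizer_singleton_iff]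
      · exact comm_bot_iff.1 hc3 x hx b hb
      · have e1 := comm_bot_iff.1 hc x hx _ hbf
        have e2 := comm_bot_iff.1 hc2 x hx _ hf
        calc x * b = x * (b * f) * f⁻¹ := by group
          _ = b * (f * x) * f⁻¹ := by rw [e1]; group
          _ = b * x := by rw [← e2]; group
    intro x hx
    rw [hS.Lay_split] at hx
    exact mem_centralizer_singleton_iff.1 (h5 hx)
  rw [center_Lay] at this
  exact this.1

theorem SubIn.FStar_eq [Finite G] {K H : Subgroup G} (h : SubIn K H) : FStar K = FStar H ⊓ K := by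
  refine le_antisymm (le_inf h.FStar_mono FStar_le) ?_
  have h1 : SubIn (FStar H ⊓ K) (FStar H) := by
    have := h.inf (FStar H)
    rwa [inf_eq_right.2 FStar_le, inf_comm] at this
  rw [← FStar_eq_self_of_subIn h1]
  refine SubIn.FStar_mono ?_
  exact SubIn.of_normal inf_le_right (inf_normalizer (FStar_normal H) h.le)

theorem exists_nilp_or_comp [Finite G] {Z X : Subgroup G} (hlt : Z < X) (hc : ⁅Z, X⁆ = ⊥) :
    (∃ M, Z < M ∧ SubIn M X ∧ Group.IsNilpotent M) ∨ ∃ K, CompIn K X := by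
  obtain ⟨M, ⟨hM1, hM2⟩, hmin⟩ :=
    (Set.toFinite {M | Z < M ∧ SubIn M X}).exists_minimal ⟨X, hlt, SubIn.refl X⟩
  have hcM : ⁅Z, M⁆ = ⊥ := comm_bot_mono hc le_rfl hM2.le
  have key : ∀ N, N ≤ M → M ≤ normalizer (N : Set G) → N ≤ Z ∨ N ⊔ Z = M := by
    intro N h1 h2
    by_cases h : N ≤ Z
    · exact Or.inl h
    · right
      have h3 : N ⊔ Z ≤ M := sup_le h1 hM1.le
      refine le_antisymm h3 (hmin ⟨?_, ?_⟩ h3)
      · exact lt_of_le_of_ne le_sup_right fun e => h (e ▸ le_sup_left)
      · exact SubIn.step h3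
          (sup_normalizer' h2 (normalizes_of_comm_bot (comm_bot_symm hcM))) hM2
  have hcs : ∀ N, N ≤ M → ⁅N ⊔ Z, N ⊔ Z⁆ = ⁅N, N⁆ := fun N h => by
    have a : ⁅Z, N⁆ = ⊥ := comm_bot_mono hcM le_rfl h
    exact comm_sup_central a (comm_bot_mono hcM le_rfl hM1.le) (comm_bot_symm a)
      (comm_bot_symm a) (comm_bot_symm a)
  have hn : M ≤ normalizer ((⁅M, M⁆ : Subgroup G) : Set G) := normalizer_commutator_ge_left _ _
  rcases key ⁅M, M⁆ (commutator_le_self M) hn with h | h
  · exact Or.inl ⟨M, hM1, hM2, nilpotent_of_comm_le_central h hcM⟩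
  · right
    have hp : ⁅⁅M, M⁆, ⁅M, M⁆⁆ = ⁅M, M⁆ := by rw [← hcs _ (commutator_le_self M), h]
    refine ⟨⁅M, M⁆, SubIn.step (commutator_le_self M) hn hM2, hp, ?_, ?_⟩
    · intro hb
      rw [hb, bot_sup_eq] at h
      exact hM1.ne h
    · intro N h1 h2
      have h3 : N ≤ M := h1.trans (commutator_le_self M)
      have h4 : M ≤ normalizer (N : Set G) := by
        rw [← h]
        exact sup_le h2 (normalizes_of_comm_bot (comm_bot_mono hcM le_rfl h3))
      rcases key N h3 h4 with h5 | h5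
      · exact Or.inr (comm_bot_mono hcM h5 (commutator_le_self M))
      · left
        refine le_antisymm h1 ?_
        rw [← h5, hcs N h3]
        exact commutator_le_self N

theorem centralizer_FStar_le_Fit [Finite G] (H : Subgroup G) :
    H ⊓ centralizer (FStar H : Set G) ≤ Fit H := by
  set C := H ⊓ centralizer (FStar H : Set G) with hC
  have hCn : SubIn C H := SubIn.of_normal inf_le_left
    (inf_normalizer' le_normalizer ((FStar_normal H).trans (centralizer_normalizer _)))
  have hCc : ⁅C, FStar H⁆ = ⊥ := commutator_eq_bot_iff_le_centralizer.2 inf_le_right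
  by_contra hn
  have hlt : Fit H ⊓ C < C := lt_of_le_of_ne inf_le_right fun e => hn (inf_eq_right.1 e)
  rcases exists_nilp_or_comp hlt (comm_bot_symm (comm_bot_mono hCc le_rfl
    (inf_le_left.trans Fit_le_FStar))) with ⟨M, h1, h2, h3⟩ | ⟨K, hK⟩
  · exact h1.not_ge (le_inf ((h2.trans hCn).le_Fit h3) h2.le)
  · exact hK.2.not_comm (comm_bot_mono hCc hK.le ((hK.trans hCn).le_Lay.trans Lay_le_FStar))

theorem centralizer_FStar_le [Finite G] (H : Subgroup G) :
    H ⊓ centralizer (FStar H : Set G) ≤ FStar H := (centralizer_FStar_le_Fit H).trans Fit_le_FStar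

theorem le_Fit_of_comm_FStar [Finite G] {H X : Subgroup G} (h1 : X ≤ H) (h2 : ⁅X, FStar H⁆ = ⊥) :
    X ≤ Fit H :=
  (le_inf h1 (commutator_eq_bot_iff_le_centralizer.1 h2)).trans (centralizer_FStar_le_Fit H)

theorem FStar_ne_bot [Finite G] {H : Subgroup G} (h : H ≠ ⊥) : FStar H ≠ ⊥ := by
  intro hb
  apply h
  rw [eq_bot_iff, ← hb]
  exact (le_Fit_of_comm_FStar le_rfl (by rw [hb]; simp)).trans Fit_le_FStar

theorem FStar_eq_Fit_of_solvable {H : Subgroup G} (h : Group.IsSolvable H) : FStar H = Fit H := by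
  rw [FStar, Lay_eq_bot_of_solvable h, bot_sup_eq]

theorem FStar_eq_Op_iff [Finite G] {p : ℕ} [Fact p.Prime] {H : Subgroup G} :
    FStar H = Op p H ↔ Lay H = ⊥ ∧ Opp p H = ⊥ := by
  constructor
  · intro h
    have h1 : Lay H = ⊥ := perfect_solvable_eq_bot (Lay_perfect H)
      (solvable_of_le (Lay_le_FStar.trans (h.le.trans (Op_le_Fit H))) (Fit_solvable H))
    refine ⟨h1, eq_bot_of_pgroup_coprime ((Op_isPGroup H).to_le ?_) (Opp_coprime H)⟩
    rw [← h]
    refine (le_Fit_of_comm_FStar Opp_le ?_).trans Fit_le_FStar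
    rw [h]; exact comm_bot_symm (Op_comm_Opp H)
  · rintro ⟨h1, h2⟩
    rw [FStar, h1, bot_sup_eq, Fit_eq_Op h2]

theorem FStar_eq_Op_iff' [Finite G] {p : ℕ} [Fact p.Prime] {H : Subgroup G} :
    FStar H = Op p H ↔ H ⊓ centralizer (Op p H : Set G) ≤ Op p H := by
  constructor
  · intro h; rw [← h]; exact centralizer_FStar_le H
  · intro h
    rw [FStar_eq_Op_iff]
    constructor
    · refine perfect_solvable_eq_bot (Lay_perfect H)
        (solvable_of_le (le_trans ?_ (h.trans (Op_le_Fit H))) (Fit_solvable H))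
      exact le_inf Lay_le (commutator_eq_bot_iff_le_centralizer.1
        (comm_bot_mono (Lay_comm_Fit H) le_rfl (Op_le_Fit H)))
    · refine eq_bot_of_pgroup_coprime ((Op_isPGroup H).to_le (le_trans ?_ h)) (Opp_coprime H)
      exact le_inf Opp_le (commutator_eq_bot_iff_le_centralizer.1 (comm_bot_symm (Op_comm_Opp H)))

theorem FStar_eq_Op_of_isPGroup [Finite G] {p : ℕ} [Fact p.Prime] {H : Subgroup G}
    (h : IsPGroup p (FStar H)) : FStar H = Op p H :=
  le_antisymm (le_Op FStar_le (FStar_normal H) h) ((Op_le_Fit H).trans Fit_le_FStar)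

theorem comm_sup_le_sup_comm {N A B : Subgroup G} (hA : A ≤ normalizer (N : Set G))
    (hB : B ≤ normalizer (N : Set G)) : ⁅A ⊔ N, B ⊔ N⁆ ≤ ⁅A, B⁆ ⊔ N := by
  rw [commutator_le]
  intro x hx y hy
  obtain ⟨a, ha, n, hn, rfl⟩ := (mem_sup_of_normalizes hA).1 hx
  obtain ⟨b, hb, m, hm, rfl⟩ := (mem_sup_of_normalizes hB).1 hy
  have e : ⁅a * n, b * m⁆ = ⁅a, b⁆ * (((b * a) * ((b⁻¹ * n * b⁻¹⁻¹) * m * n⁻¹) * (b * a)⁻¹) *
      (b * m⁻¹ * b⁻¹)) := by
    simp only [commutatorElement_def]; group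
  rw [e]
  have c : ∀ g ∈ normalizer (N : Set G), ∀ z ∈ N, g * z * g⁻¹ ∈ N := fun g hg z hz =>
    (mem_normalizer_iff.1 hg z).1 hz
  refine mul_mem_sup (commutator_mem_commutator ha hb) (N.mul_mem (c _ ?_ _ ?_) (c _ (hB hb) _ ?_))
  · exact mul_mem (hB hb) (hA ha)
  · exact N.mul_mem (N.mul_mem (c _ (inv_mem (hB hb)) _ hn) hm) (N.inv_mem hn)
  · exact N.inv_mem hm

theorem qs_top_of_simple {S : Type*} [Group S] (hs : IsSimpleGroup S) (hna : ¬ IsMulCommutative S) :
    QS (⊤ : Subgroup S) := by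
  have h1 : ⁅(⊤ : Subgroup S), (⊤ : Subgroup S)⁆ ≠ ⊥ := fun h =>
    hna ((commutator_eq_bot_iff S).1 h)
  refine ⟨(Normal.eq_bot_or_eq_top inferInstance).resolve_left h1, top_ne_bot, fun N _ hN => ?_⟩
  have hN' : N.Normal := normalizer_eq_top_iff.1 (top_le_iff.1 hN)
  rcases hN'.eq_bot_or_eq_top with h | h
  · right; rw [h]; simp
  · exact Or.inl h

theorem qs_of_simple {K : Subgroup G} (hs : IsSimpleGroup K) (hna : ¬ IsMulCommutative K) :
    QS K := by
  rw [← map_top_subtype K]; exact (qs_top_of_simple hs hna).map_inj K.subtype_injective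

theorem QS.isSimpleGroup {K : Subgroup G} (h : QS K) (hz : K ⊓ centralizer (K : Set G) = ⊥) :
    IsSimpleGroup K := by
  have : Nontrivial K := (nontrivial_iff_ne_bot K).2 h.ne_bot
  refine ⟨fun N hN => ?_⟩
  have h1 : K ≤ normalizer ((N.map K.subtype : Subgroup G) : Set G) := by
    have := le_normalizer_map (H := N) K.subtype
    rwa [normalizer_eq_top, map_top_subtype] at this
  rcases h.normal _ (map_subtype_le N) h1 with h2 | h2
  · right
    apply map_injective K.subtype_injective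
    rw [h2, map_top_subtype]
  · left
    rw [← map_eq_bot_iff_of_injective _ K.subtype_injective, eq_bot_iff, ← hz]
    exact le_inf (map_subtype_le N) (commutator_eq_bot_iff_le_centralizer.1 h2)

theorem QS.not_isMulCommutative {K : Subgroup G} (h : QS K) : ¬ IsMulCommutative K :=
  fun hc => h.not_comm (commutator_self_eq_bot_iff.2 hc)

end Cfsg.Agent.Comp
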