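import Cfsg.Agent.Comp.Syl

/-! Ambient `p`-components and the `p`-layer. -/

set_option autoImplicit false

namespace Cfsg.Agent.Comp

open Subgroup
open scoped commutatorElement

variable {G : Type*} [Group G] {p : ℕ}

/-- ambient intrinsic form of "perfect, minimal over the `p'`-core, quasisimple modulo it" -/
structure PQS (p : ℕ) (K : Subgroup G) : Prop where
  perfect : ⁅K, K⁆ = K
  dvd : ¬ (Nat.card K).Coprime p
  normal : ∀ N : Subgroup G, N ≤ K → K ≤ normalizer (N : Set G) → N = K ∨ ⁅N, K⁆ ≤ Opp p K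

/-- `K` is a `p`-component of `H` -/
structure PCompIn (p : ℕ) (K H : Subgroup G) : Prop where
  sub : SubIn K H
  pqs : PQS p K

/-- `L_{p'}(H)` inside `G` -/
def PLay (p : ℕ) (H : Subgroup G) : Subgroup G := sSup {K | PCompIn p K H}

theorem PQS.not_le {K N : Subgroup G} (h : PQS p K) (hN : (Nat.card N).Coprime p) : ¬ K ≤ N :=
  fun hle => h.dvd (coprime_card_of_le hle hN)

theorem PQS.ne_bot {K : Subgroup G} (h : PQS p K) : K ≠ ⊥ :=
  fun e => h.not_le (N := ⊥) (by simp) e.le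

theorem PQS.not_le_solvable {K H : Subgroup G} (h : PQS p K) (hs : Group.IsSolvable H) : ¬ K ≤ H :=
  fun hle => h.ne_bot (perfect_solvable_eq_bot h.perfect (solvable_of_le hle hs))

theorem PQS.subIn {K N : Subgroup G} (h : PQS p K) (hN : SubIn N K) :
    N = K ∨ ⁅N, K⁆ ≤ Opp p K := by
  rcases hN.eq_or_exists with h1 | ⟨M, h1, h2, h3⟩
  · exact Or.inl h1
  · rcases h.normal M h1.le h2 with h4 | h4
    · exact absurd h4 h1.ne
    · exact Or.inr ((commutator_mono h3.le le_rfl).trans h4)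

theorem QS.pqs {K : Subgroup G} (h : QS K) (hd : ¬ (Nat.card K).Coprime p) : PQS p K :=
  ⟨h.perfect, hd, fun N h1 h2 => (h.normal N h1 h2).imp id fun e => e.le.trans bot_le⟩

theorem PQS.qs {K : Subgroup G} (h : PQS p K) (hc : ⁅Opp p K, K⁆ = ⊥) : QS K :=
  ⟨h.perfect, h.ne_bot, fun N h1 h2 => (h.normal N h1 h2).imp id fun e =>
    comm_bot_of_perfect h.perfect (comm_bot_mono hc e le_rfl)⟩

theorem QS.Opp_comm [Finite G] {K : Subgroup G} (h : QS K) (hd : ¬ (Nat.card K).Coprime p) :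
    ⁅Opp p K, K⁆ = ⊥ :=
  (h.normal _ Opp_le (Opp_normal K)).resolve_left fun e => hd (e ▸ Opp_coprime K)

section map
variable {G' : Type*} [Group G']

theorem map_comap_inf {f : G →* G'} {K : Subgroup G} {N : Subgroup G'} (hN : N ≤ K.map f) :
    (N.comap f ⊓ K).map f = N := by
  refine le_antisymm ((map_mono inf_le_left).trans (map_comap_le _ _)) ?_
  intro x hx
  obtain ⟨k, hk, rfl⟩ := hN hx
  exact ⟨k, ⟨hx, hk⟩, rfl⟩

theorem normalizer_comap_inf {f : G →* G'} {K : Subgroup G} {N : Subgroup G'}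
    (hN : K.map f ≤ normalizer (N : Set G')) :
    K ≤ normalizer ((N.comap f ⊓ K : Subgroup G) : Set G) :=
  inf_normalizer' ((map_le_iff_le_comap.1 hN).trans (le_normalizer_comap f)) le_normalizer

theorem PQS.map_of_dvd (f : G →* G') {K : Subgroup G} (h : PQS p K)
    (hd : ¬ (Nat.card (K.map f)).Coprime p) : PQS p (K.map f) := by
  refine ⟨by rw [← map_commutator, h.perfect], hd, fun N hN hN2 => ?_⟩
  rcases h.normal _ inf_le_right (normalizer_comap_inf hN2) with h3 | h3
  · left; rw [← map_comap_inf hN, h3]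
  · right
    rw [← map_comap_inf hN, ← map_commutator]
    exact (map_mono h3).trans (Opp_map_le f K)

theorem PQS.map (f : G →* G') {K : Subgroup G} (h : PQS p K)
    (hk : (Nat.card ↥(K ⊓ f.ker)).Coprime p) : PQS p (K.map f) :=
  h.map_of_dvd f fun hc => h.dvd (coprime_card_of_map f hc hk)

theorem comap_Opp_inf_le [Finite G'] (f : G →* G') {K : Subgroup G}
    (hk : (Nat.card ↥(K ⊓ f.ker)).Coprime p) : (Opp p (K.map f)).comap f ⊓ K ≤ Opp p K := by
  refine le_Opp inf_le_right (normalizer_comap_inf (Opp_normal _)) (coprime_card_of_map f ?_ ?_)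
  · rw [map_comap_inf Opp_le]; exact Opp_coprime _
  · exact coprime_card_of_le (inf_le_inf_right _ inf_le_right) hk

theorem Opp_map_eq [Finite G'] (f : G →* G') {K : Subgroup G}
    (hk : (Nat.card ↥(K ⊓ f.ker)).Coprime p) : (Opp p K).map f = Opp p (K.map f) := by
  refine le_antisymm (Opp_map_le f K) ?_
  rw [← map_comap_inf (Opp_le : Opp p (K.map f) ≤ _)]
  exact map_mono (comap_Opp_inf_le f hk)

theorem Op_map_eq [Finite G'] (f : G →* G') {K : Subgroup G}
    (hk : IsPGroup p ↥(K ⊓ f.ker)) : (Op p K).map f = Op p (K.map f) := by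
  refine le_antisymm (Op_map_le f K) ?_
  rw [← map_comap_inf (Op_le : Op p (K.map f) ≤ _)]
  refine map_mono (le_Op inf_le_right (normalizer_comap_inf (Op_normal _)) (isPGroup_of_map f ?_ ?_))
  · rw [map_comap_inf Op_le]; exact Op_isPGroup _
  · exact hk.to_le (inf_le_inf_right _ inf_le_right)

theorem PQS.of_map [Finite G'] (f : G →* G') {K : Subgroup G} (h : PQS p (K.map f))
    (hk : (Nat.card ↥(K ⊓ f.ker)).Coprime p)
    (hmin : ∀ N ≤ K, K ≤ normalizer (N : Set G) → N.map f = K.map f → N = K) : PQS p K := by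
  refine ⟨hmin _ (commutator_le_self K) (normalizer_commutator_ge_left _ _)
    (by rw [map_commutator, h.perfect]), fun hc => h.dvd (coprime_card_map f hc),
    fun N h1 h2 => ?_⟩
  rcases h.normal _ (map_mono h1) ((map_mono h2).trans (le_normalizer_map f)) with h3 | h3
  · exact Or.inl (hmin N h1 h2 h3)
  · right
    rw [← map_commutator, map_le_iff_le_comap] at h3
    exact (le_inf h3 ((commutator_mono h1 le_rfl).trans (commutator_le_self K))).trans
      (comap_Opp_inf_le f hk)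

theorem pqs_map_iff {f : G →* G'} (hf : Function.Injective f) {K : Subgroup G} :
    PQS p (K.map f) ↔ PQS p K := by
  refine ⟨fun h => ⟨map_injective hf (by rw [map_commutator, h.perfect]),
    fun hc => h.dvd (coprime_card_map f hc), fun N h1 h2 => ?_⟩,
    fun h => h.map f (by rw [(MonoidHom.ker_eq_bot_iff f).2 hf]; simp)⟩
  rcases h.normal _ (map_mono h1) ((map_mono h2).trans (le_normalizer_map f)) with h3 | h3
  · exact Or.inl (map_injective hf h3)
  · right
    rwa [← map_commutator, ← Opp_map hf, map_le_map_iff_of_injective hf] at h3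

theorem pcompIn_map_iff {f : G →* G'} (hf : Function.Injective f) {K H : Subgroup G} :
    PCompIn p (K.map f) (H.map f) ↔ PCompIn p K H :=
  ⟨fun h => ⟨(subIn_map_iff hf).1 h.1, (pqs_map_iff hf).1 h.2⟩,
   fun h => ⟨h.1.map f, (pqs_map_iff hf).2 h.2⟩⟩

theorem PCompIn.map (f : G →* G') {K H : Subgroup G} (h : PCompIn p K H)
    (hk : (Nat.card ↥(K ⊓ f.ker)).Coprime p) : PCompIn p (K.map f) (H.map f) :=
  ⟨h.1.map f, h.2.map f hk⟩

theorem PCompIn.exists_lift [Finite G] [Finite G'] (f : G →* G') {H : Subgroup G}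
    {K' : Subgroup G'} (h : PCompIn p K' (H.map f)) (hk : (Nat.card ↥(H ⊓ f.ker)).Coprime p) :
    ∃ K, PCompIn p K H ∧ K.map f = K' := by
  have h0 : SubIn (K'.comap f ⊓ H) H := by
    have := (h.1.comap f).inf H
    rwa [inf_eq_right.2 (le_comap_map f H)] at this
  obtain ⟨K, -, ⟨h1, h2⟩, h3⟩ := Core.exists_minimal_le
    (P := fun K => SubIn K H ∧ K.map f = K') ⟨h0, map_comap_inf h.1.le⟩
  refine ⟨K, ⟨h1, PQS.of_map f (h2 ▸ h.2) (coprime_card_of_le (inf_le_inf_right _ h1.le) hk) ?_⟩, h2⟩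
  intro N a b c
  exact h3 N ⟨SubIn.step a b h1, c.trans h2⟩ a

end map

theorem PCompIn.le {K H : Subgroup G} (h : PCompIn p K H) : K ≤ H := h.1.le

theorem PCompIn.trans {K L H : Subgroup G} (h : PCompIn p K L) (h2 : SubIn L H) : PCompIn p K H :=
  ⟨h.1.trans h2, h.2⟩

theorem PCompIn.restrict {K H Y : Subgroup G} (h : PCompIn p K H) (h1 : K ≤ Y) (h2 : Y ≤ H) :
    PCompIn p K Y := ⟨h.1.restrict h1 h2, h.2⟩

theorem PCompIn.conj {K H : Subgroup G} (h : PCompIn p K H) {g : G}
    (hg : g ∈ normalizer (H : Set G)) : PCompIn p (K.map (MulAut.conj g).toMonoidHom) H := by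
  have := (pcompIn_map_iff (f := (MulAut.conj g).toMonoidHom) map_conj_inj).2 h
  rwa [map_conj_eq_of_mem_normalizer hg] at this

theorem PCompIn.compIn [Finite G] {K H : Subgroup G} (h : PCompIn p K H) (hO : Opp p H = ⊥) :
    CompIn K H :=
  ⟨h.1, h.2.qs (comm_bot_mono (commutator_bot_left K) (hO ▸ h.1.Opp_mono) le_rfl)⟩

theorem CompIn.not_coprime [Finite G] {K H : Subgroup G} (h : CompIn K H) (hO : Opp p H = ⊥) :
    ¬ (Nat.card K).Coprime p := fun hc => h.2.ne_bot (le_bot_iff.1 (hO ▸ h.1.le_Opp hc))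

theorem CompIn.pcompIn [Finite G] {K H : Subgroup G} (h : CompIn K H) (hO : Opp p H = ⊥) :
    PCompIn p K H := ⟨h.1, h.2.pqs (h.not_coprime hO)⟩

theorem CompIn.pcompIn_or [Finite G] {K H : Subgroup G} (p : ℕ) (h : CompIn K H) :
    PCompIn p K H ∨ K ≤ Opp p H := by
  by_cases hc : (Nat.card K).Coprime p
  · exact Or.inr (h.1.le_Opp hc)
  · exact Or.inl ⟨h.1, h.2.pqs hc⟩

theorem Opp_quot [Finite G] : Opp p (⊤ : Subgroup (G ⧸ pPrimeCore p G)) = ⊥ := by
  rw [Opp_top, Core.pPrimeCore_quotient_pPrimeCore]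

theorem ker_coprime [Finite G] (K : Subgroup G) :
    (Nat.card ↥(K ⊓ (QuotientGroup.mk' (pPrimeCore p G)).ker)).Coprime p := by
  rw [QuotientGroup.ker_mk']
  exact coprime_card_of_le inf_le_right (Core.pPrimeCore_coprime p)

theorem map_top_mk' (N : Subgroup G) [N.Normal] :
    (⊤ : Subgroup G).map (QuotientGroup.mk' N) = ⊤ :=
  map_top_of_surjective _ (QuotientGroup.mk'_surjective N)

theorem PCompIn.compIn_quot [Finite G] {K : Subgroup G} (h : PCompIn p K ⊤) :
    CompIn (K.map (QuotientGroup.mk' (pPrimeCore p G))) ⊤ := by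
  have := h.map (QuotientGroup.mk' (pPrimeCore p G)) (ker_coprime K)
  rw [map_top_mk'] at this
  exact this.compIn Opp_quot

theorem pcompIn_top [Finite G] {K : Subgroup G} : PCompIn p K ⊤ ↔ IsPComponent p K := by
  constructor
  · intro h
    refine ⟨subIn_top.1 h.1, compIn_top.1 h.compIn_quot, fun H h1 h2 h3 => ?_⟩
    rcases h.2.subIn (SubIn.of_isSubnormal h1 h2) with h4 | h4
    · exact h4
    · exfalso
      apply h.compIn_quot.2.not_comm
      conv_lhs => rw [← h3]; arg 2; rw [h3]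
      rw [← map_commutator, Core.map_mk'_eq_bot_iff, ← Opp_top]
      exact h4.trans h.1.Opp_mono
  · rintro ⟨h1, h2, h3⟩
    refine ⟨subIn_top.2 h1, PQS.of_map _ ((compIn_top.2 h2).pcompIn Opp_quot).2 (ker_coprime K)
      fun N a b c => h3 N (subIn_top.1 (SubIn.step a b (subIn_top.2 h1))) a c⟩

theorem pcompIn_map_subtype [Finite G] {H : Subgroup G} {K : Subgroup H} :
    PCompIn p (K.map H.subtype) H ↔ IsPComponent p K := by
  rw [← pcompIn_top, ← pcompIn_map_iff H.subtype_injective, map_top_subtype]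

theorem pcompIn_iff [Finite G] {K H : Subgroup G} :
    PCompIn p K H ↔ K ≤ H ∧ IsPComponent p (K.subgroupOf H) := by
  constructor
  · intro h
    refine ⟨h.1.le, ?_⟩
    rw [← pcompIn_map_subtype, map_subgroupOf_eq_of_le h.1.le]; exact h
  · rintro ⟨h1, h2⟩
    rwa [← pcompIn_map_subtype, map_subgroupOf_eq_of_le h1] at h2

theorem PLay_top [Finite G] : PLay p (⊤ : Subgroup G) = pLayer p G := by
  unfold PLay pLayer; congr 1; ext K; exact pcompIn_top

theorem PCompIn.le_PLay {K H : Subgroup G} (h : PCompIn p K H) : K ≤ PLay p H := le_sSup h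

theorem PLay_le_iff {H X : Subgroup G} : PLay p H ≤ X ↔ ∀ K, PCompIn p K H → K ≤ X := sSup_le_iff

theorem PLay_le {H : Subgroup G} : PLay p H ≤ H := PLay_le_iff.2 fun _ h => h.le

theorem PLay_map {G' : Type*} [Group G'] {f : G →* G'} (hf : Function.Injective f)
    (H : Subgroup G) : (PLay p H).map f = PLay p (H.map f) := by
  apply le_antisymm
  · rw [map_le_iff_le_comap, PLay_le_iff]
    intro K hK
    rw [← map_le_iff_le_comap]
    exact ((pcompIn_map_iff hf).2 hK).le_PLay
  · refine PLay_le_iff.2 fun K hK => ?_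
    have h1 : (K.comap f).map f = K := map_comap_eq_self (hK.le.trans (map_le_range f H))
    rw [← h1] at hK ⊢
    exact map_mono ((pcompIn_map_iff hf).1 hK).le_PLay

theorem PLay_map_of_coprime {G' : Type*} [Group G'] [Finite G] [Finite G'] (f : G →* G')
    {H : Subgroup G} (hk : (Nat.card ↥(H ⊓ f.ker)).Coprime p) :
    (PLay p H).map f = PLay p (H.map f) := by
  apply le_antisymm
  · rw [map_le_iff_le_comap, PLay_le_iff]
    intro K hK
    rw [← map_le_iff_le_comap]
    exact (hK.map f (coprime_card_of_le (inf_le_inf_right _ hK.le) hk)).le_PLay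
  · refine PLay_le_iff.2 fun K hK => ?_
    obtain ⟨L, hL, rfl⟩ := hK.exists_lift f hk
    exact map_mono hL.le_PLay

theorem PLay_map_le {G' : Type*} [Group G'] [Finite G'] (f : G →* G') (H : Subgroup G) :
    (PLay p H).map f ≤ PLay p (H.map f) ⊔ Opp p (H.map f) := by
  rw [map_le_iff_le_comap, PLay_le_iff]
  intro K hK
  rw [← map_le_iff_le_comap]
  by_cases hc : (Nat.card (K.map f)).Coprime p
  · exact ((hK.1.map f).le_Opp hc).trans le_sup_right
  · exact (PCompIn.le_PLay ⟨hK.1.map f, hK.2.map_of_dvd f hc⟩).trans le_sup_left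

theorem PLay_eq [Finite G] (H : Subgroup G) : (pLayer p H).map H.subtype = PLay p H := by
  rw [← PLay_top, PLay_map H.subtype_injective, map_top_subtype]

theorem PLay_normalizer (H : Subgroup G) :
    normalizer (H : Set G) ≤ normalizer (PLay p H : Set G) := by
  intro g hg
  apply mem_normalizer_of_map_conj_eq
  rw [PLay_map map_conj_inj, map_conj_eq_of_mem_normalizer hg]

theorem PLay_normal (H : Subgroup G) : H ≤ normalizer (PLay p H : Set G) :=
  le_normalizer.trans (PLay_normalizer H)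

theorem PLay_subIn (H : Subgroup G) : SubIn (PLay p H) H := SubIn.of_normal PLay_le (PLay_normal H)

theorem SubIn.PLay_mono {K H : Subgroup G} (h : SubIn K H) : PLay p K ≤ PLay p H :=
  PLay_le_iff.2 fun _ hL => (hL.trans h).le_PLay

theorem PLay_le_PLay_of_le {K H : Subgroup G} (h : K ≤ H) (h2 : PLay p H ≤ K) :
    PLay p H ≤ PLay p K :=
  PLay_le_iff.2 fun _ hL => (hL.restrict (hL.le_PLay.trans h2) h).le_PLay

theorem PLay_perfect (H : Subgroup G) : ⁅PLay p H, PLay p H⁆ = PLay p H :=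
  sSup_perfect fun _ hK => hK.2.perfect

theorem PLay_eq_bot_iff {H : Subgroup G} : PLay p H = ⊥ ↔ ∀ K, ¬ PCompIn p K H := by
  rw [eq_bot_iff, PLay_le_iff]
  exact ⟨fun h K hK => hK.2.ne_bot (le_bot_iff.1 (h K hK)), fun h K hK => absurd hK (h K)⟩

theorem PLay_eq_bot_of_solvable {H : Subgroup G} (h : Group.IsSolvable H) : PLay p H = ⊥ :=
  perfect_solvable_eq_bot (PLay_perfect H) (solvable_of_le PLay_le h)

theorem PLay_eq_bot_of_le_coprime {H N : Subgroup G} (h : PLay p H ≤ N)
    (hN : (Nat.card N).Coprime p) : PLay p H = ⊥ :=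
  PLay_eq_bot_iff.2 fun _ hK => hK.2.not_le hN (hK.le_PLay.trans h)

theorem PLay_eq_Lay [Finite G] {H : Subgroup G} (hO : Opp p H = ⊥) : PLay p H = Lay H :=
  le_antisymm (PLay_le_iff.2 fun _ h => (h.compIn hO).le_Lay)
    (Lay_le_iff.2 fun _ h => (h.pcompIn hO).le_PLay)

theorem Lay_le_PLay_sup [Finite G] (p : ℕ) (H : Subgroup G) : Lay H ≤ PLay p H ⊔ Opp p H :=
  Lay_le_iff.2 fun _ h => (h.pcompIn_or p).elim (fun h => h.le_PLay.trans le_sup_left)
    fun h => h.trans le_sup_right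

theorem PLay_map_quot [Finite G] : (PLay p (⊤ : Subgroup G)).map
    (QuotientGroup.mk' (pPrimeCore p G)) = layer (G ⧸ pPrimeCore p G) := by
  rw [PLay_map_of_coprime _ (ker_coprime ⊤), map_top_mk', PLay_eq_Lay Opp_quot, Lay_top]

/-- `O_{p',E}(H) = L_{p'}(H) O_{p'}(H)` -/
theorem comap_layer_map_subtype [Finite G] (H : Subgroup G) :
    ((layer (H ⧸ pPrimeCore p H)).comap (QuotientGroup.mk' (pPrimeCore p H))).map H.subtype =
      PLay p H ⊔ Opp p H := by
  rw [← PLay_map_quot, Core.comap_map_mk'', Subgroup.map_sup, PLay_top, PLay_eq, Opp_eq]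

/-- a `p`-component has no proper normal subgroup of `p'`-index -/
theorem PQS.eq_of_index [Finite G] [Fact p.Prime] {K N : Subgroup G} (h : PQS p K) (h1 : N ≤ K)
    (h2 : K ≤ normalizer (N : Set G)) (hi : ¬ p ∣ N.relIndex K) : N = K := by
  rcases h.normal N h1 h2 with h3 | h3
  · exact h3
  exfalso
  obtain ⟨N, rfl⟩ : ∃ N' : Subgroup K, N'.map K.subtype = N := ⟨_, map_subgroupOf_eq_of_le h1⟩
  have hT : PQS p (⊤ : Subgroup K) := by
    rw [← pqs_map_iff K.subtype_injective, map_top_subtype]; exact h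
  let f := QuotientGroup.mk' (pPrimeCore p K)
  have hq := hT.map f (ker_coprime ⊤)
  refine hq.dvd (coprime_of_perfect_of_center (Z := N.map f) hq.perfect ?_ ?_)
  · rw [← map_commutator, Core.map_mk'_eq_bot_iff, ← map_le_map_iff_of_injective K.subtype_injective,
      map_commutator, map_top_subtype, Opp_eq]
    exact h3
  · rw [map_top_mk', relIndex_top_right]
    intro hd
    apply hi
    rw [relIndex, ← comap_subtype, comap_map_eq_self_of_injective K.subtype_injective]
    exact hd.trans (index_map_dvd N (QuotientGroup.mk'_surjective _))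

theorem PQS.le_of_sylIn [Finite G] [Fact p.Prime] {K N T : Subgroup G} (h : PQS p K)
    (hT : SylIn p T K) (h1 : SubIn N K) (h2 : T ≤ N) : N = K := by
  rcases h1.eq_or_exists with h3 | ⟨M, h3, h4, h5⟩
  · exact h3
  · refine absurd (h.eq_of_index h3.le h4 fun hd => hT.idx (hd.trans ?_)) h3.ne
    exact relIndex_dvd_of_le_left K (h2.trans h5.le)

theorem PCompIn.le_of_le_sup [Finite G] [Fact p.Prime] {X K U O : Subgroup G} (hK : PCompIn p K X)
    (hU : SubIn U X) (hO : O ≤ X) (hn : U ≤ normalizer (O : Set G))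
    (hc : (Nat.card O).Coprime p) (h : K ≤ U ⊔ O) : K ≤ U := by
  obtain ⟨T, hT⟩ := exists_sylIn p K
  have h1 : T ≤ U := by
    refine (hU.restrict le_sup_left (sup_le hU.le hO)).pgroup_le ?_ hT.pg (hT.le.trans h)
    rw [relIndex_sup_left' hn]
    exact fun hd => coprime_iff_not_dvd'.1 hc (hd.trans (relIndex_dvd_card U O))
  have h2 : SubIn (U ⊓ K) K := by
    have := hU.inf K
    rwa [inf_eq_right.2 hK.le] at this
  exact inf_eq_right.1 (hK.2.le_of_sylIn hT h2 (le_inf h1 hT.le))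

theorem PCompIn.le_or_comm_top [Finite G] [Fact p.Prime] {K U : Subgroup G} (hK : PCompIn p K ⊤)
    (hU : SubIn U ⊤) : K ≤ U ∨ ⁅U, K⁆ ≤ Opp p ⊤ := by
  have h1 := hU.map (QuotientGroup.mk' (pPrimeCore p G))
  rw [map_top_mk'] at h1
  rcases hK.compIn_quot.le_or_comm h1 with h | h
  · left
    rw [Core.map_mk'_le_map_mk'_iff] at h
    exact hK.le_of_le_sup hU le_top le_normalizer_of_normal (Core.pPrimeCore_coprime p) h
  · right
    rwa [← map_commutator, Core.map_mk'_eq_bot_iff, ← Opp_top] at h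

theorem PCompIn.le_or_comm [Finite G] [Fact p.Prime] {X K U : Subgroup G} (hK : PCompIn p K X)
    (hU : SubIn U X) : K ≤ U ∨ ⁅U, K⁆ ≤ Opp p X := by
  obtain ⟨K, rfl⟩ : ∃ K' : Subgroup X, K'.map X.subtype = K := ⟨_, map_subgroupOf_eq_of_le hK.le⟩
  obtain ⟨U, rfl⟩ : ∃ K' : Subgroup X, K'.map X.subtype = U := ⟨_, map_subgroupOf_eq_of_le hU.le⟩
  rcases (pcompIn_top.2 (pcompIn_map_subtype.1 hK)).le_or_comm_top
    (subIn_top.2 (subIn_map_subtype.1 hU)) with h | h
  · exact Or.inl (map_mono h)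
  · right
    rw [← map_commutator, ← Opp_eq, ← Opp_top]
    exact map_mono h

theorem PCompIn.eq_of_le [Finite G] [Fact p.Prime] {X K L : Subgroup G} (hK : PCompIn p K X)
    (hL : PCompIn p L X) (h : K ≤ L) : K = L := by
  rcases hL.2.subIn (hK.1.restrict h hL.le) with h1 | h1
  · exact h1
  · exact absurd (hK.2.perfect ▸ (commutator_mono le_rfl h).trans h1) (hK.2.not_le (Opp_coprime L))

theorem PCompIn.eq_or_comm [Finite G] [Fact p.Prime] {X K L : Subgroup G} (hK : PCompIn p K X)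
    (hL : PCompIn p L X) : K = L ∨ ⁅K, L⁆ ≤ Opp p X := by
  rcases hL.le_or_comm hK.1 with h | h
  · exact Or.inl (hL.eq_of_le hK h).symm
  · exact Or.inr h

theorem PCompIn.eq_of_le_sup [Finite G] [Fact p.Prime] {X K L : Subgroup G} (hK : PCompIn p K X)
    (hL : PCompIn p L X) (h : K ≤ L ⊔ Opp p X) : K = L :=
  hK.eq_of_le hL (hK.le_of_le_sup hL.1 Opp_le (hL.le.trans (Opp_normal X)) (Opp_coprime X) h)

theorem PCompIn.mem_normalizer [Finite G] [Fact p.Prime] {X K : Subgroup G} (hK : PCompIn p K X)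
    {g : G} (hg : g ∈ normalizer (X : Set G)) (h : ∀ k ∈ K, g * k * g⁻¹ ∈ K ⊔ Opp p X) :
    g ∈ normalizer (K : Set G) := by
  refine mem_normalizer_of_map_conj_eq ((hK.conj hg).eq_of_le_sup hK ?_)
  rintro _ ⟨k, hk, rfl⟩
  exact h k hk

theorem PCompIn.normalizes_of_comm_le [Finite G] [Fact p.Prime] {X K Y : Subgroup G}
    (hK : PCompIn p K X) (hY : Y ≤ normalizer (X : Set G)) (h : ⁅Y, K⁆ ≤ K ⊔ Opp p X) :
    Y ≤ normalizer (K : Set G) := by
  intro g hg
  refine hK.mem_normalizer (hY hg) fun k hk => ?_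
  have : g * k * g⁻¹ = ⁅g, k⁆ * k := by simp [commutatorElement_def]
  rw [this]
  exact mul_mem (h (commutator_mem_commutator hg hk)) (mem_sup_left hk)

theorem PCompIn.Opp_normalizes [Finite G] [Fact p.Prime] {X K : Subgroup G} (hK : PCompIn p K X) :
    Opp p X ≤ normalizer (K : Set G) :=
  hK.normalizes_of_comm_le (Opp_le.trans le_normalizer)
    ((le_normalizer_iff_commutator_le_left.1 (hK.le.trans (Opp_normal X))).trans le_sup_right)

theorem PCompIn.PLay_normalizes [Finite G] [Fact p.Prime] {X K : Subgroup G} (hK : PCompIn p K X) :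
    PLay p X ≤ normalizer (K : Set G) := by
  refine PLay_le_iff.2 fun L hL => ?_
  rcases hL.eq_or_comm hK with rfl | h
  · exact le_normalizer
  · exact hK.normalizes_of_comm_le (hL.le.trans le_normalizer) (h.trans le_sup_right)

theorem PCompIn.comm_le_of_solvable [Finite G] [Fact p.Prime] {X K S : Subgroup G}
    (hK : PCompIn p K X) (hS : SubIn S X) (hs : Group.IsSolvable S) : ⁅S, K⁆ ≤ Opp p X :=
  (hK.le_or_comm hS).resolve_left (hK.2.not_le_solvable hs)

theorem comm_sSup_left_le {S : Set (Subgroup G)} {C N : Subgroup G}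
    (hS : ∀ A ∈ S, A ≤ normalizer (N : Set G)) (h : ∀ A ∈ S, ⁅A, C⁆ ≤ N) : ⁅sSup S, C⁆ ≤ N := by
  rw [commutator_le]
  intro x hx c hc
  have hn : sSup S ≤ normalizer (N : Set G) := sSup_le hS
  rw [sSup_eq_iSup'] at hx hn
  induction hx using iSup_induction' with
  | hp i x hx => exact h i i.2 (commutator_mem_commutator hx hc)
  | h1 => simp
  | hmul x y hx hy ihx ihy =>
    rw [commutatorElement_mul_left_eq_conj_mul]
    exact mul_mem ((mem_normalizer_iff.1 (hn hx) _).1 ihy) ihx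

theorem comm_sup_left_le {A B C N : Subgroup G} (hA : A ≤ normalizer (N : Set G))
    (hB : B ≤ normalizer (N : Set G)) (h1 : ⁅A, C⁆ ≤ N) (h2 : ⁅B, C⁆ ≤ N) : ⁅A ⊔ B, C⁆ ≤ N := by
  rw [← sSup_pair]
  refine comm_sSup_left_le ?_ ?_ <;> rintro _ (rfl | rfl) <;> assumption

/-- the `p`-layer centralizes modulo the `p'`-core each subnormal subgroup without
`p`-components -/
theorem PLay_comm_le [Finite G] [Fact p.Prime] {X S : Subgroup G} (hS : SubIn S X)
    (h : PLay p S = ⊥) : ⁅PLay p X ⊔ Opp p X, S⁆ ≤ Opp p X := by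
  refine comm_sup_left_le (PLay_le.trans (Opp_normal X)) le_normalizer ?_
    (le_normalizer_iff_commutator_le_left.1 (hS.le.trans (Opp_normal X)))
  refine comm_sSup_left_le (fun K hK => hK.le.trans (Opp_normal X)) fun K hK => ?_
  rw [Subgroup.commutator_comm]
  exact (PCompIn.le_or_comm hK hS).resolve_left fun hle =>
    PLay_eq_bot_iff.1 h K (PCompIn.restrict hK hle hS.le)

theorem PLay_comm_pgroup [Finite G] [Fact p.Prime] {X Q : Subgroup G} (h1 : Q ≤ X)
    (h2 : X ≤ normalizer (Q : Set G)) (hQ : IsPGroup p Q) : ⁅PLay p X ⊔ Opp p X, Q⁆ = ⊥ := by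
  rw [eq_bot_iff, ← inf_eq_bot_of_pgroup_coprime hQ (Opp_coprime X)]
  refine le_inf (le_normalizer_iff_commutator_le_right.1 ((sup_le PLay_le Opp_le).trans h2)) ?_
  exact PLay_comm_le (SubIn.of_normal h1 h2)
    (PLay_eq_bot_of_solvable (solvable_of_nilpotent hQ.isNilpotent))

theorem PLay_sup_le_of_coprime_mem [Finite G] [Fact p.Prime] {X D : Subgroup G}
    (h : ∀ x ∈ PLay p X ⊔ Opp p X, (orderOf x).Coprime p → x ∈ D) : PLay p X ⊔ Opp p X ≤ D :=
  sup_le (perfect_le_of_coprime_mem p (PLay_perfect X) fun x hx => h x (mem_sup_left hx))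
    fun x hx => h x (mem_sup_right hx) (orderOf_coprime_of_mem (Opp_coprime X) hx)

theorem FStar_eq_Op_iff_PLay [Finite G] [Fact p.Prime] {H : Subgroup G} :
    FStar H = Op p H ↔ PLay p H = ⊥ ∧ Opp p H = ⊥ := by
  rw [FStar_eq_Op_iff]
  exact ⟨fun h => ⟨(PLay_eq_Lay h.2).trans h.1, h.2⟩, fun h => ⟨(PLay_eq_Lay h.2).symm.trans h.1, h.2⟩⟩

end Cfsg.Agent.Comp
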