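import Cfsg.Agent.Comp.PComp
import Cfsg.Agent.S0028

/-! `O_{p',E}` of `p`-local subgroups (Aschbacher, Finite Group Theory, section 31). -/

set_option autoImplicit false

namespace Cfsg.Agent.Comp

open Subgroup
open scoped commutatorElement

variable {G : Type*} [Group G] [Finite G] {p : ℕ} [Fact p.Prime]

/-- `O_{p',E}(H)` -/
abbrev OE (p : ℕ) (H : Subgroup G) : Subgroup G := PLay p H ⊔ Opp p H

omit [Finite G] [Fact p.Prime] in
theorem OE_le {H : Subgroup G} : OE p H ≤ H := sup_le PLay_le Opp_le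

omit [Fact p.Prime] in
theorem SubIn.OE_mono {K H : Subgroup G} (h : SubIn K H) : OE p K ≤ OE p H :=
  sup_le_sup h.PLay_mono h.Opp_mono

omit [Fact p.Prime] in
theorem Opp_le_Opp_of_le {K H : Subgroup G} (h : K ≤ H) (h2 : Opp p H ≤ K) : Opp p H ≤ Opp p K :=
  (le_inf le_rfl h2).trans (Opp_inf_le h)

omit [Finite G] in
theorem centralizer_subIn_normalizer (H P : Subgroup G) :
    SubIn (H ⊓ centralizer (P : Set G)) (H ⊓ normalizer (P : Set G)) :=
  SubIn.of_normal (inf_le_inf_left _ (centralizer_le_normalizer _))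
    (inf_normalizer' (inf_le_left.trans le_normalizer) (inf_le_right.trans (centralizer_normalizer P)))

theorem OE_normalizer_le {H P : Subgroup G} (hP : IsPGroup p P) (hPH : P ≤ H) :
    OE p (H ⊓ normalizer (P : Set G)) ≤ H ⊓ centralizer (P : Set G) :=
  le_inf (OE_le.trans inf_le_left) (commutator_eq_bot_iff_le_centralizer.1
    (PLay_comm_pgroup (le_inf hPH le_normalizer) inf_le_right hP))

theorem PLay_normalizer_eq {H P : Subgroup G} (hP : IsPGroup p P) (hPH : P ≤ H) :
    PLay p (H ⊓ normalizer (P : Set G)) = PLay p (H ⊓ centralizer (P : Set G)) :=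
  le_antisymm (PLay_le_PLay_of_le (centralizer_subIn_normalizer H P).le
    (le_sup_left.trans (OE_normalizer_le hP hPH))) (centralizer_subIn_normalizer H P).PLay_mono

theorem Opp_normalizer_eq {H P : Subgroup G} (hP : IsPGroup p P) (hPH : P ≤ H) :
    Opp p (H ⊓ normalizer (P : Set G)) = Opp p (H ⊓ centralizer (P : Set G)) :=
  le_antisymm (Opp_le_Opp_of_le (centralizer_subIn_normalizer H P).le
    (le_sup_right.trans (OE_normalizer_le hP hPH))) (centralizer_subIn_normalizer H P).Opp_mono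

/-- `P × Q` lemma for elements -/
theorem mem_centralizer_of_PxQ {P U : Subgroup G} (hP : IsPGroup p P) (hU : IsPGroup p U)
    (hPU : P ≤ normalizer (U : Set G)) {x : G} (hx : (orderOf x).Coprime p)
    (h1 : x ∈ centralizer (P : Set G)) (h2 : x ∈ normalizer (U : Set G))
    (h3 : x ∈ centralizer ((U ⊓ centralizer (P : Set G) : Subgroup G) : Set G)) :
    x ∈ centralizer (U : Set G) := by
  have := Cfsg.Agent.S0028.result p P (zpowers x) U hP (by rwa [Nat.card_zpowers]) hU
    (le_centralizer_iff.1 (zpowers_le.2 h1)) hPU (zpowers_le.2 h2)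
    (le_centralizer_iff.1 (zpowers_le.2 h3))
  exact this (mem_zpowers x)

theorem OE_centralizer_comm_Op {H P : Subgroup G} (hP : IsPGroup p P)
    (hPH : P ≤ normalizer (H : Set G)) : ⁅OE p (H ⊓ centralizer (P : Set G)), Op p H⁆ = ⊥ := by
  rw [commutator_eq_bot_iff_le_centralizer]
  refine PLay_sup_le_of_coprime_mem fun x hx hc => ?_
  have hx' := OE_le hx
  refine mem_centralizer_of_PxQ hP (Op_isPGroup H) (hPH.trans (Op_normalizer H)) hc hx'.2
    (Op_normal H hx'.1) ?_
  have h1 := commutator_eq_bot_iff_le_centralizer.1 (PLay_comm_pgroup (p := p) Op_le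
    (Op_normal (H ⊓ centralizer (P : Set G))) (Op_isPGroup _)) hx
  refine centralizer_le (SetLike.coe_subset_coe.2 ?_) h1
  exact (le_inf inf_le_left (inf_le_inf_right _ Op_le)).trans (Op_inf_le inf_le_left)

theorem OE_centralizer_eq_bot {H P : Subgroup G} (hP : IsPGroup p P)
    (hPH : P ≤ normalizer (H : Set G)) (h : FStar H = Op p H) :
    PLay p (H ⊓ centralizer (P : Set G)) = ⊥ ∧ Opp p (H ⊓ centralizer (P : Set G)) = ⊥ := by
  have h1 : OE p (H ⊓ centralizer (P : Set G)) ≤ Fit H :=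
    le_Fit_of_comm_FStar (OE_le.trans inf_le_left) (h ▸ OE_centralizer_comm_Op hP hPH)
  refine ⟨perfect_solvable_eq_bot (PLay_perfect _)
    (solvable_of_le (le_sup_left.trans h1) (Fit_solvable H)), ?_⟩
  refine eq_bot_of_pgroup_coprime ((Op_isPGroup H).to_le ?_) (Opp_coprime _)
  exact le_sup_right.trans (h1.trans (h ▸ Fit_le_FStar))

theorem FStar_centralizer_eq_Op {H P : Subgroup G} (hP : IsPGroup p P)
    (hPH : P ≤ normalizer (H : Set G)) (h : FStar H = Op p H) :
    FStar (H ⊓ centralizer (P : Set G)) = Op p (H ⊓ centralizer (P : Set G)) :=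
  FStar_eq_Op_iff_PLay.2 (OE_centralizer_eq_bot hP hPH h)

theorem FStar_normalizer_eq_Op {H P : Subgroup G} (hP : IsPGroup p P) (hPH : P ≤ H)
    (h : FStar H = Op p H) :
    FStar (H ⊓ normalizer (P : Set G)) = Op p (H ⊓ normalizer (P : Set G)) := by
  rw [FStar_eq_Op_iff_PLay, PLay_normalizer_eq hP hPH, Opp_normalizer_eq hP hPH]
  exact OE_centralizer_eq_bot hP (hPH.trans le_normalizer) h

omit [Finite G] in
theorem centralizer_sup (A B : Subgroup G) : centralizer ((A ⊔ B : Subgroup G) : Set G) =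
    centralizer (A : Set G) ⊓ centralizer (B : Set G) := by
  refine le_antisymm (le_inf (centralizer_le (SetLike.coe_subset_coe.2 le_sup_left))
    (centralizer_le (SetLike.coe_subset_coe.2 le_sup_right))) ?_
  rw [le_centralizer_iff]
  exact sup_le (le_centralizer_iff.1 inf_le_left) (le_centralizer_iff.1 inf_le_right)

theorem OE_centralizer_le_centralizer_sup {H P : Subgroup G} (hP : IsPGroup p P)
    (hPH : P ≤ normalizer (H : Set G)) : OE p (H ⊓ centralizer (P : Set G)) ≤
      H ⊓ centralizer ((P ⊔ Op p H : Subgroup G) : Set G) := by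
  rw [centralizer_sup, ← inf_assoc]
  exact le_inf OE_le (commutator_eq_bot_iff_le_centralizer.1 (OE_centralizer_comm_Op hP hPH))

theorem PLay_centralizer_le_sup {H P : Subgroup G} (hP : IsPGroup p P)
    (hPH : P ≤ normalizer (H : Set G)) : PLay p (H ⊓ centralizer (P : Set G)) ≤
      PLay p (H ⊓ normalizer ((P ⊔ Op p H : Subgroup G) : Set G)) :=
  (PLay_le_PLay_of_le (inf_le_inf_left _ (centralizer_le (SetLike.coe_subset_coe.2 le_sup_left)))
    (le_sup_left.trans (OE_centralizer_le_centralizer_sup hP hPH))).trans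
    (centralizer_subIn_normalizer H _).PLay_mono

theorem Opp_centralizer_le_sup {H P : Subgroup G} (hP : IsPGroup p P)
    (hPH : P ≤ normalizer (H : Set G)) : Opp p (H ⊓ centralizer (P : Set G)) ≤
      Opp p (H ⊓ normalizer ((P ⊔ Op p H : Subgroup G) : Set G)) :=
  (Opp_le_Opp_of_le (inf_le_inf_left _ (centralizer_le (SetLike.coe_subset_coe.2 le_sup_left)))
    (le_sup_right.trans (OE_centralizer_le_centralizer_sup hP hPH))).trans
    (centralizer_subIn_normalizer H _).Opp_mono

omit [Finite G] in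
theorem mem_of_pow_mem_of_coprime {K : Subgroup G} {x : G} {n : ℕ} (h : (orderOf x).Coprime n)
    (hx : x ^ n ∈ K) : x ∈ K := by
  obtain ⟨m, hm⟩ := exists_pow_eq_self_of_coprime h.symm
  rw [← hm]; exact pow_mem hx m

omit [Finite G] in
theorem eq_one_of_pow_of_coprime {x : G} {k : ℕ} (h : x ^ p ^ k = 1) (hc : (orderOf x).Coprime p) :
    x = 1 :=
  orderOf_eq_one_iff.1 (Nat.Coprime.eq_one_of_dvd (hc.pow_right k) (orderOf_dvd_of_pow_eq_one h))

theorem center_le_Op {H M : Subgroup G} (hO : Opp p H = ⊥) (hM : SubIn M H) :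
    M ⊓ centralizer (M : Set G) ≤ Op p H :=
  (center_le_Fit le_rfl le_normalizer).trans (hM.Fit_mono.trans (Fit_eq_Op hO).le)

theorem exists_pelt_normalizing {M P : Subgroup G} (hM : ⁅M, M⁆ = M)
    (hd : ¬ (Nat.card M).Coprime p) (hP : IsPGroup p P) (hPM : P ≤ normalizer (M : Set G))
    (hZ : M ⊓ centralizer (M : Set G) ≤ P) :
    ∃ t ∈ M, t ∈ normalizer (P : Set G) ∧ t ∉ centralizer (M : Set G) ∧ ∃ k, t ^ p ^ k = 1 := by
  obtain ⟨T, hT1, hT2⟩ := exists_sylIn_ge (le_sup_left : P ≤ P ⊔ M) hP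
  have hW := hT2.inf_normal le_sup_right (hT2.le.trans (sup_le hPM le_normalizer))
  have hk : ∀ t ∈ T, ∃ k, t ^ p ^ k = 1 := Core.isPGroup_iff_mem.1 hT2.pg
  by_cases h : T ⊓ M ≤ P
  · have : ¬ T ⊓ M ≤ centralizer (M : Set G) := fun hc =>
      hd (coprime_of_perfect_of_center hM (commutator_eq_bot_iff_le_centralizer.2 hc) hW.idx)
    obtain ⟨t, ht1, ht2⟩ := SetLike.not_le_iff_exists.1 this
    exact ⟨t, ht1.2, le_normalizer (h ht1), ht2, hk t ht1.1⟩
  · have h1 : P < P ⊔ T ⊓ M := lt_of_le_of_ne le_sup_left fun e => h (e ▸ le_sup_right)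
    have h2 := Core.lt_inf_normalizer_of_isNilpotent
      (hT2.pg.to_le (sup_le hT1 inf_le_left)).isNilpotent h1
    obtain ⟨n, ⟨hn1, hn2⟩, hn3⟩ := SetLike.exists_of_lt h2
    obtain ⟨a, ha, w, hw, rfl⟩ :=
      (mem_sup_of_normalizes (inf_normalizer' (hT1.trans le_normalizer) hPM)).1 hn1
    refine ⟨w, hw.2, ?_, fun hc => hn3 (mul_mem ha (hZ ⟨hw.2, hc⟩)), hk w hw.1⟩
    have := mul_mem (inv_mem (le_normalizer ha)) hn2
    simpa using this

/-- Aschbacher 31.15 -/
theorem CompIn.OE_centralizer_normalizes {H P L : Subgroup G} (hL : CompIn L H)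
    (hO : Opp p H = ⊥) (hP : IsPGroup p P) (hPH : P ≤ normalizer (H : Set G)) :
    OE p (H ⊓ centralizer (P : Set G)) ≤ normalizer (L : Set G) := by
  refine PLay_sup_le_of_coprime_mem fun x hx hxc => ?_
  set P₁ := P ⊔ Op p H with hP₁
  have hP1 : IsPGroup p P₁ :=
    hP.to_sup_of_normal_right' (Op_isPGroup H) (hPH.trans (Op_normalizer H))
  have hP1H : P₁ ≤ normalizer (H : Set G) := sup_le hPH (Op_le.trans le_normalizer)
  have hxC := OE_centralizer_le_centralizer_sup hP hPH hx
  have hxX : x ∈ OE p (H ⊓ normalizer (P₁ : Set G)) :=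
    sup_le_sup (PLay_centralizer_le_sup hP hPH) (Opp_centralizer_le_sup hP hPH) hx
  by_cases hcase : ∃ a ∈ P₁, L.map (MulAut.conj x).toMonoidHom = L.map (MulAut.conj a).toMonoidHom
  · obtain ⟨a, ha, e⟩ := hcase
    have h1 : a⁻¹ * x ∈ normalizer (L : Set G) := by
      apply mem_normalizer_of_map_conj_eq
      rw [← map_conj_map_conj, e, map_conj_map_conj, inv_mul_cancel, map_conj_one]
    obtain ⟨k, hk⟩ := Core.isPGroup_iff_mem.1 hP1 a ha
    have h2 : Commute a⁻¹ x := (show Commute a x from hxC.2 a ha).inv_left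
    have h3 := pow_mem h1 (p ^ k)
    rw [h2.mul_pow, inv_pow, hk, inv_one, one_mul] at h3
    exact mem_of_pow_mem_of_coprime (hxc.pow_right k) h3
  exfalso
  set M : Subgroup G := ⨆ a : P₁, L.map (MulAut.conj (a : G)).toMonoidHom with hM
  have hLM : L ≤ M := le_iSup_of_le (1 : P₁) (map_conj_one L).ge
  have hMM : ⁅M, M.map (MulAut.conj x).toMonoidHom⁆ = ⊥ := by
    rw [commutator_eq_bot_iff_le_centralizer]
    refine iSup_le fun a => ?_
    rw [le_centralizer_iff, hM, Subgroup.map_iSup]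
    refine iSup_le fun b => ?_
    rw [← commutator_eq_bot_iff_le_centralizer]
    refine (((hL.conj (hP1H b.2)).conj (le_normalizer hxC.1)).eq_or_comm
      (hL.conj (hP1H a.2))).resolve_left fun e => hcase ⟨(b : G)⁻¹ * a, mul_mem (inv_mem b.2) a.2, ?_⟩
    rw [← map_conj_map_conj, ← e, map_conj_map_conj, map_conj_map_conj, mul_assoc,
      ← hxC.2 b b.2, inv_mul_cancel_left]
  have hME : M ≤ Lay H := iSup_le fun a => (hL.conj (hP1H a.2)).le_Lay
  have hMsub : SubIn M H := SubIn.step hME ((le_iInf fun a : P₁ =>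
    (hL.conj (hP1H a.2)).Lay_normalizes).trans (iInf_normalizer_le_normalizer_iSup _)) (Lay_subIn H)
  have hMp : ⁅M, M⁆ = M := by
    rw [hM, ← sSup_range]
    refine sSup_perfect ?_
    rintro _ ⟨a, rfl⟩
    exact (hL.conj (hP1H a.2)).2.perfect
  have hPM : P₁ ≤ normalizer (M : Set G) := by
    rw [le_normalizer_iff]
    intro a ha m hm
    have : M.map (MulAut.conj a).toMonoidHom ≤ M := by
      rw [hM, Subgroup.map_iSup]
      refine iSup_le fun b => ?_
      rw [map_conj_map_conj]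
      exact le_iSup_of_le (⟨a * b, mul_mem ha b.2⟩ : P₁) le_rfl
    exact this (mem_map_of_mem _ hm)
  obtain ⟨t, ht1, ht2, ht3, k, hk⟩ := exists_pelt_normalizing hMp
    (fun hc => hL.not_coprime hO (coprime_card_of_le hLM hc)) hP1 hPM
    ((center_le_Op hO hMsub).trans le_sup_right)
  have hD : SubIn (M ⊓ normalizer (P₁ : Set G)) (H ⊓ normalizer (P₁ : Set G)) := hMsub.inf _
  have hD2 : PLay p (M ⊓ normalizer (P₁ : Set G)) = ⊥ := by
    refine PLay_eq_bot_iff.2 fun K hK => ?_
    have hK2 := hK.trans hD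
    have h1 : x ∈ normalizer (K : Set G) := sup_le hK2.PLay_normalizes hK2.Opp_normalizes hxX
    apply hK.2.ne_bot
    rw [← hK.2.perfect]
    refine comm_bot_mono hMM (hK.le.trans inf_le_left) ?_
    rw [← map_conj_eq_of_mem_normalizer h1]
    exact map_mono (hK.le.trans inf_le_left)
  have h4 := PLay_comm_le hD hD2 (commutator_mem_commutator hxX ⟨ht1, ht2⟩)
  have h5 : x * t * x⁻¹ ∈ centralizer (M : Set G) :=
    commutator_eq_bot_iff_le_centralizer.1 (comm_bot_symm hMM) (mem_map_of_mem _ ht1)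
  have h6 : Commute (x * t * x⁻¹) t⁻¹ := (show Commute t (x * t * x⁻¹) from h5 t ht1).symm.inv_right
  have h7 : ⁅x, t⁆ = 1 := by
    refine eq_one_of_pow_of_coprime (p := p) (k := k) ?_ (orderOf_coprime_of_mem (Opp_coprime _) h4)
    rw [commutatorElement_def, h6.mul_pow, inv_pow, conj_pow, hk]; simp
  rw [commutatorElement_def, mul_inv_eq_one] at h7
  exact ht3 (h7 ▸ h5)

/-- Aschbacher 31.18 -/
theorem CompIn.comm_Opp_centralizer {H L : Subgroup G} (hL : CompIn L H) (hO : Opp p H = ⊥)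
    {x : G} (hx : orderOf x = p) (hxH : x ∈ normalizer (H : Set G)) :
    ⁅L, Opp p (H ⊓ centralizer {x})⁆ = ⊥ ∨ ⁅L, zpowers x⁆ = L := by
  set Y := Opp p (H ⊓ centralizer {x}) with hY
  have hYL : Y ≤ normalizer (L : Set G) := by
    have := hL.OE_centralizer_normalizes hO (isPGroup_zpowers_of_orderOf hx) (zpowers_le.2 hxH)
    rw [centralizer_zpowers] at this
    exact le_sup_right.trans this
  by_cases hxL : x ∈ normalizer (L : Set G)
  · rcases hL.2.normal ⁅L, zpowers x⁆ (le_normalizer_iff_commutator_le_left.1 (zpowers_le.2 hxL))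
      (normalizer_commutator_ge_left _ _) with h | h
    · exact Or.inr h
    · left
      rw [Subgroup.commutator_comm L] at h
      have h1 := commutator_eq_bot_iff_le_centralizer.1
        (comm_bot_symm (comm_bot_of_perfect hL.2.perfect h))
      rw [centralizer_zpowers] at h1
      have h2 : CompIn L (H ⊓ centralizer {x}) := hL.restrict (le_inf hL.le h1) inf_le_left
      rcases h2.le_or_comm (SubIn.of_normal Opp_le (Opp_normal _)) with h3 | h3
      · exact absurd (coprime_card_of_le h3 (Opp_coprime _)) (hL.not_coprime hO)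
      · exact comm_bot_symm h3
  left
  set R := Lay H ⊓ centralizer (L : Set G) with hR
  have hYR : Y ≤ normalizer (R : Set G) := inf_normalizer'
    ((Opp_le.trans inf_le_left).trans (Lay_normal H)) (hYL.trans (centralizer_normalizer L))
  have hLR : ⁅R, L⁆ = ⊥ := commutator_eq_bot_iff_le_centralizer.2 inf_le_right
  have hconj : ∀ n, 0 < n → n < p → ∀ l ∈ L, x ^ n * l * (x ^ n)⁻¹ ∈ R := by
    intro n h0 hn l hl
    have h1 := hL.conj (pow_mem hxH n)
    have h2 : x ^ n * l * (x ^ n)⁻¹ ∈ L.map (MulAut.conj (x ^ n)).toMonoidHom := mem_map_of_mem _ hl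
    refine ⟨h1.le_Lay h2, commutator_eq_bot_iff_le_centralizer.1
      ((h1.eq_or_comm hL).resolve_left fun e => hxL ?_) h2⟩
    refine mem_of_pow_mem_of_coprime (n := n) ?_ (mem_normalizer_of_map_conj_eq e)
    rw [hx]
    exact Nat.Coprime.symm ((Nat.coprime_of_lt_prime h0.ne' hn Fact.out).symm)
  have hdiag : ∀ l ∈ L, ∃ r ∈ R, l * r ∈ centralizer {x} := by
    intro l hl
    have key : ∀ n, n + 1 ≤ p → ∃ r ∈ R, (l * x) ^ (n + 1) = l * r * x ^ (n + 1) := by
      intro n
      induction n with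
      | zero => intro _; exact ⟨1, one_mem _, by simp⟩
      | succ n ih =>
        intro hn
        obtain ⟨r, hr, e⟩ := ih (by omega)
        refine ⟨r * (x ^ (n + 1) * l * (x ^ (n + 1))⁻¹),
          mul_mem hr (hconj _ (by omega) (by omega) l hl), ?_⟩
        rw [pow_succ, e]; group
    obtain ⟨r, hr, e⟩ := key (p - 1) (by have := (Fact.out : p.Prime).pos; omega)
    rw [Nat.sub_add_cancel (Fact.out : p.Prime).pos, ← hx, pow_orderOf_eq_one, mul_one] at e
    refine ⟨r, hr, mem_centralizer_singleton_iff.2 ?_⟩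
    have h1 : Commute (l * x) (l * r) := e ▸ (Commute.refl _).pow_right _
    have h2 : Commute l (l * r) := (Commute.refl l).mul_right (hr.2 l hl)
    have h3 : Commute (l⁻¹ * (l * x)) (l * r) := h2.inv_left.mul_left h1
    rw [inv_mul_cancel_left] at h3
    exact h3.symm
  rcases hL.2.normal ⁅L, Y⁆ (le_normalizer_iff_commutator_le_left.1 hYL)
      (normalizer_commutator_ge_left _ _) with h | h
  · exfalso
    have h1 : ⁅L, Y⁆ ≤ Y ⊔ R := by
      rw [commutator_le]
      intro l hl y hy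
      obtain ⟨r, hr, hc⟩ := hdiag l hl
      have h2 : ⁅l * r, y⁆ ∈ Y := le_normalizer_iff_commutator_le_right.1 (Opp_normal _)
        (commutator_mem_commutator (H₁ := H ⊓ centralizer {x})
          ⟨mul_mem (hL.le hl) (Lay_le hr.1), hc⟩ hy)
      have h3 : ⁅r, y⁆ ∈ R := le_normalizer_iff_commutator_le_left.1 hYR
        (commutator_mem_commutator hr hy)
      have h4 : ⁅l, y⁆ ∈ L := le_normalizer_iff_commutator_le_left.1 hYL
        (commutator_mem_commutator hl hy)
      have e : ⁅l, y⁆ = ⁅l * r, y⁆ * ⁅r, y⁆⁻¹ := by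
        rw [commutatorElement_mul_left_eq_conj_mul, h3.2 l hl, mul_inv_cancel_right,
          ← h3.2 _ h4, mul_inv_cancel_right]
      rw [e]
      exact mul_mem_sup h2 (inv_mem h3)
    rw [h] at h1
    refine hL.not_coprime hO (coprime_of_perfect_of_center (Z := R) hL.2.perfect hLR fun hd => ?_)
    rw [← Core.relIndex_sup_of_le_normalizer (normalizes_of_comm_bot (comm_bot_symm hLR))] at hd
    have h5 : R.relIndex (L ⊔ R) ∣ R.relIndex (Y ⊔ R) :=
      ⟨_, (relIndex_mul_relIndex R (L ⊔ R) (Y ⊔ R) le_sup_right (sup_le h1 le_sup_right)).symm⟩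
    rw [Core.relIndex_sup_of_le_normalizer hYR] at h5
    exact coprime_iff_not_dvd'.1 (Opp_coprime _) (hd.trans (h5.trans (relIndex_dvd_card R Y)))
  · rw [Subgroup.commutator_comm L] at h
    exact comm_bot_symm (comm_bot_of_perfect hL.2.perfect h)

/-- a `p'`-subgroup centralizing `O_p(H)` and all components is trivial when `O_{p'}(H) = 1` -/
theorem eq_bot_of_comm_components {H Y : Subgroup G} (hO : Opp p H = ⊥) (hY : Y ≤ H)
    (hc : (Nat.card Y).Coprime p) (h1 : ⁅Y, Op p H⁆ = ⊥) (h2 : ∀ L, CompIn L H → ⁅L, Y⁆ = ⊥) :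
    Y = ⊥ := by
  refine eq_bot_of_pgroup_coprime ((Op_isPGroup H).to_le ?_) hc
  rw [← Fit_eq_Op hO] at h1 ⊢
  exact le_Fit_of_comm_FStar hY (comm_sup_right_bot (comm_bot_symm (comm_sSup_left_bot h2)) h1)

/-- elements of `L ⊔ W` centralizing `x` modulo `C(L)` normalize `⟨x⟩ O_p(H)` -/
theorem CompIn.mem_normalizer_sup_Op {H L W : Subgroup G} (hL : CompIn L H) (hO : Opp p H = ⊥)
    {x : G} (hxL : x ∈ normalizer (L : Set G))
    (hW : W ≤ H ⊓ centralizer {x}) (hWL : W ≤ normalizer (L : Set G)) {g : G} (hg : g ∈ W ⊔ L)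
    (h : ⁅g⁻¹, x⁆ ∈ centralizer (L : Set G)) :
    g ∈ H ⊓ normalizer ((zpowers x ⊔ Op p H : Subgroup G) : Set G) := by
  refine ⟨sup_le (hW.trans inf_le_left) hL.le hg, ?_⟩
  obtain ⟨w, hw, l, hl, rfl⟩ := (mem_sup_of_normalizes hWL).1 hg
  refine mul_mem (sup_normalizer' ?_ ((hW.trans inf_le_left).trans (Op_normal H)) hw) ?_
  · rw [← centralizer_zpowers] at hW
    exact (hW.trans inf_le_right).trans (centralizer_le_normalizer _)
  · have e : ⁅(w * l)⁻¹, x⁆ = ⁅l⁻¹, x⁆ := by
      have := mem_centralizer_singleton_iff.1 (hW hw).2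
      simp only [commutatorElement_def, mul_inv_rev, inv_inv]
      calc l⁻¹ * w⁻¹ * x * (w * l) * x⁻¹ = l⁻¹ * w⁻¹ * (x * w) * l * x⁻¹ := by group
        _ = _ := by rw [← this]; group
    rw [e] at h
    have h2 : ⁅l⁻¹, x⁆ ∈ L := le_normalizer_iff_commutator_le_left.1 (zpowers_le.2 hxL)
      (commutator_mem_commutator (inv_mem hl) (mem_zpowers x))
    have h3 : ⁅l⁻¹, x⁆ ∈ Op p H := center_le_Op hO hL.1 ⟨h2, h⟩
    refine (Subgroup.inv_mem_iff _).1 (Core.mem_normalizer_of_conj_mem fun y hy => ?_)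
    have : zpowers x ⊔ Op p H ≤ (zpowers x ⊔ Op p H).comap (MulAut.conj l⁻¹).toMonoidHom := by
      refine sup_le (zpowers_le.2 ?_) fun z hz => ?_
      · show l⁻¹ * x * l⁻¹⁻¹ ∈ zpowers x ⊔ Op p H
        have : l⁻¹ * x * l⁻¹⁻¹ = ⁅l⁻¹, x⁆ * x := by simp [commutatorElement_def]
        rw [this]
        exact mul_mem (mem_sup_right h3) (mem_sup_left (mem_zpowers x))
      · exact mem_sup_right ((mem_normalizer_iff.1 (Op_normal H (hL.le (inv_mem hl))) z).1 hz)
    exact this hy

end Cfsg.Agent.Comp
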