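import Cfsg.Agent.Comp.Basic
import Cfsg.Agent.S0008
import Cfsg.Agent.S0009

/-! Ambient radicals: `Op`, `Opp`, `Fit`. -/

set_option autoImplicit false

namespace Cfsg.Agent.Comp

open Subgroup
open scoped commutatorElement

variable {G : Type*} [Group G]

theorem card_sup_dvd {A B : Subgroup G} (h : A ≤ normalizer (B : Set G)) :
    Nat.card (A ⊔ B : Subgroup G) ∣ Nat.card A * Nat.card B := by
  have h1 : (A ⊔ B : Subgroup G) ≤ normalizer (B : Set G) := sup_le h le_normalizer
  have : (B.subgroupOf (A ⊔ B)).Normal := (normal_subgroupOf_iff_le_normalizer le_sup_right).2 h1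
  have h2 := (B.subgroupOf (A ⊔ B)).card_mul_index
  rw [← h2, mul_comm, Nat.card_congr (subgroupOfEquivOfLe (le_sup_right : B ≤ A ⊔ B)).toEquiv]
  refine Nat.mul_dvd_mul_right ?_ _
  have h3 := relIndex_sup_right (A.subgroupOf (A ⊔ B)) (B.subgroupOf (A ⊔ B))
  rw [← subgroupOf_sup le_sup_left le_sup_right, subgroupOf_self, relIndex_top_right] at h3
  rw [h3, ← Nat.card_congr (subgroupOfEquivOfLe (le_sup_left : A ≤ A ⊔ B)).toEquiv]
  exact relIndex_dvd_card _ _

theorem coprime_card_sup {A B : Subgroup G} {n : ℕ} (h : A ≤ normalizer (B : Set G))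
    (hA : (Nat.card A).Coprime n) (hB : (Nat.card B).Coprime n) :
    (Nat.card (A ⊔ B : Subgroup G)).Coprime n :=
  Nat.Coprime.coprime_dvd_left (card_sup_dvd h) (Nat.Coprime.mul_left hA hB)

theorem coprime_card_of_le {A B : Subgroup G} {n : ℕ} (h : A ≤ B)
    (hB : (Nat.card B).Coprime n) : (Nat.card A).Coprime n :=
  Nat.Coprime.coprime_dvd_left (card_dvd_of_le h) hB

theorem coprime_card_map {G' : Type*} [Group G'] (f : G →* G') {A : Subgroup G} {n : ℕ}
    (hA : (Nat.card A).Coprime n) : (Nat.card (A.map f)).Coprime n :=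
  Nat.Coprime.coprime_dvd_left (card_map_dvd A f) hA

theorem nilpotent_of_le {K H : Subgroup G} (h : K ≤ H) (hs : Group.IsNilpotent H) :
    Group.IsNilpotent K :=
  (Group.isNilpotent_congr (subgroupOfEquivOfLe h)).1 inferInstance

theorem nilpotent_map {G' : Type*} [Group G'] (f : G →* G') {K : Subgroup G}
    (hs : Group.IsNilpotent K) : Group.IsNilpotent (K.map f) :=
  Group.nilpotent_of_surjective _ (f.subgroupMap_surjective K)

theorem solvable_map {G' : Type*} [Group G'] (f : G →* G') {K : Subgroup G}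
    (hs : Group.IsSolvable K) : Group.IsSolvable (K.map f) :=
  Group.isSolvable_of_surjective (f.subgroupMap_surjective K)

theorem solvable_of_nilpotent {K : Subgroup G} (hs : Group.IsNilpotent K) : Group.IsSolvable K :=
  inferInstance

theorem nilpotent_map_iff {G' : Type*} [Group G'] {f : G →* G'} (hf : Function.Injective f)
    {K : Subgroup G} : Group.IsNilpotent (K.map f) ↔ Group.IsNilpotent K :=
  (Group.isNilpotent_congr (K.equivMapOfInjective f hf)).symm

theorem solvable_map_iff {G' : Type*} [Group G'] {f : G →* G'} (hf : Function.Injective f)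
    {K : Subgroup G} : Group.IsSolvable (K.map f) ↔ Group.IsSolvable K :=
  ⟨fun _ => Group.isSolvable_of_isSolvable_injective
    (f := (K.equivMapOfInjective f hf).toMonoidHom) (K.equivMapOfInjective f hf).injective,
   solvable_map f⟩

theorem isPGroup_map_iff {G' : Type*} [Group G'] {f : G →* G'} (hf : Function.Injective f)
    {K : Subgroup G} {p : ℕ} : IsPGroup p (K.map f) ↔ IsPGroup p K :=
  ⟨fun h => h.of_equiv (K.equivMapOfInjective f hf).symm, fun h => h.map f⟩

theorem nilpotent_of_comm_le_central {M Z : Subgroup G} (h1 : ⁅M, M⁆ ≤ Z) (h2 : ⁅Z, M⁆ = ⊥) :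
    Group.IsNilpotent M := by
  refine isNilpotent_of_lowerCentralSeries_eq_bot (n := 2) ?_
  rw [Subgroup.lowerCentralSeries_succ, Subgroup.lowerCentralSeries_succ,
    Subgroup.lowerCentralSeries_zero]
  exact comm_bot_mono h2 h1 le_rfl

theorem nilpotent_of_comm_bot {M : Subgroup G} (h : ⁅M, M⁆ = ⊥) : Group.IsNilpotent M :=
  nilpotent_of_comm_le_central h.le (by simp)

/-- solvability of an extension, ambient form -/
theorem solvable_sup {A B : Subgroup G} (h : A ≤ normalizer (B : Set G))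
    (hA : Group.IsSolvable A) (hB : Group.IsSolvable B) :
    Group.IsSolvable (A ⊔ B : Subgroup G) := by
  have h1 : (A ⊔ B : Subgroup G) ≤ normalizer (B : Set G) := sup_le h le_normalizer
  have : (B.subgroupOf (A ⊔ B)).Normal := (normal_subgroupOf_iff_le_normalizer le_sup_right).2 h1
  rw [Group.isSolvable_iff_subgroup_quotient (B.subgroupOf (A ⊔ B))]
  refine ⟨Group.isSolvable_of_isSolvable_injective
    (f := (subgroupOfEquivOfLe (le_sup_right : B ≤ A ⊔ B)).toMonoidHom)
    (MulEquiv.injective _), ?_⟩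
  refine Group.isSolvable_of_surjective
    (f := (QuotientGroup.mk' _).comp (inclusion (le_sup_left : A ≤ A ⊔ B))) ?_
  intro y
  obtain ⟨⟨x, hx⟩, rfl⟩ := QuotientGroup.mk'_surjective _ y
  obtain ⟨a, ha, b, hb, rfl⟩ := (mem_sup_of_normalizes h).1 hx
  refine ⟨⟨a, ha⟩, ?_⟩
  simp only [MonoidHom.comp_apply, QuotientGroup.mk'_apply, QuotientGroup.eq, mem_subgroupOf]
  simpa using hb

/-- the radical of `H` for a class `P` of subgroups -/
def Rad (P : Subgroup G → Prop) (H : Subgroup G) : Subgroup G :=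
  sSup {N | N ≤ H ∧ H ≤ normalizer (N : Set G) ∧ P N}

theorem Rad_le {P : Subgroup G → Prop} {H : Subgroup G} : Rad P H ≤ H :=
  sSup_le fun _ h => h.1

theorem le_Rad {P : Subgroup G → Prop} {H N : Subgroup G} (h1 : N ≤ H)
    (h2 : H ≤ normalizer (N : Set G)) (h3 : P N) : N ≤ Rad P H := le_sSup ⟨h1, h2, h3⟩

theorem Rad_map_le {G' : Type*} [Group G'] (f : G →* G') {P : Subgroup G → Prop}
    {Q : Subgroup G' → Prop} (h : ∀ N, P N → Q (N.map f)) (H : Subgroup G) :
    (Rad P H).map f ≤ Rad Q (H.map f) := by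
  rw [map_le_iff_le_comap]
  refine sSup_le fun N hN => map_le_iff_le_comap.1 ?_
  exact le_Rad (map_mono hN.1) ((map_mono hN.2.1).trans (le_normalizer_map f)) (h N hN.2.2)

theorem Rad_map_eq {G' : Type*} [Group G'] {f : G →* G'} (hf : Function.Injective f)
    {P : Subgroup G → Prop} {Q : Subgroup G' → Prop} (h : ∀ N, Q (N.map f) ↔ P N)
    (H : Subgroup G) : (Rad P H).map f = Rad Q (H.map f) := by
  refine le_antisymm (Rad_map_le f (fun N => (h N).2) H) (sSup_le fun N hN => ?_)
  have h1 : (N.comap f).map f = N := map_comap_eq_self (hN.1.trans (map_le_range f H))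
  rw [← h1]
  refine map_mono (le_Rad ?_ ?_ ((h _).1 (h1.symm ▸ hN.2.2)))
  · exact (comap_mono hN.1).trans (comap_map_eq_self_of_injective hf H).le
  · exact (map_le_iff_le_comap.1 hN.2.1).trans (le_normalizer_comap f)

theorem Rad_normalizer {P : Subgroup G → Prop}
    (hP : ∀ g N, P (N.map (MulAut.conj g).toMonoidHom) ↔ P N) (H : Subgroup G) :
    normalizer (H : Set G) ≤ normalizer (Rad P H : Set G) := by
  intro g hg
  apply mem_normalizer_of_map_conj_eq
  rw [Rad_map_eq (MulAut.conj g).injective (hP g), map_conj_eq_of_mem_normalizer hg]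

theorem Rad_prop [Finite G] {P : Subgroup G → Prop} (H : Subgroup G) (h0 : P ⊥)
    (hs : ∀ A B : Subgroup G, A ≤ normalizer (B : Set G) → P A → P B → P (A ⊔ B)) : P (Rad P H) := by
  obtain ⟨M, hM, hmax⟩ := (Set.toFinite {N | N ≤ H ∧ H ≤ normalizer (N : Set G) ∧ P N}).exists_maximal
    ⟨⊥, bot_le, le_normalizer_of_normal, h0⟩
  have : Rad P H = M := by
    refine le_antisymm (sSup_le fun N hN => ?_) (le_sSup hM)
    refine le_sup_left.trans (hmax (y := N ⊔ M) ⟨sup_le hN.1 hM.1, ?_, ?_⟩ le_sup_right)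
    · exact (le_inf hN.2.1 hM.2.1).trans (normalizer_inf_normalizer_le_normalizer_sup _ _)
    · exact hs _ _ (hN.1.trans hM.2.1) hN.2.2 hM.2.2
  rw [this]; exact hM.2.2

theorem Rad_mono_subIn {P : Subgroup G → Prop}
    (hP : ∀ g N, P (N.map (MulAut.conj g).toMonoidHom) ↔ P N) (hR : ∀ H, P (Rad P H))
    {K H : Subgroup G} (h : SubIn K H) : Rad P K ≤ Rad P H := by
  induction h with
  | refl => exact le_rfl
  | step a b _ ih =>
    exact le_trans (le_Rad (Rad_le.trans a) (b.trans (Rad_normalizer hP _)) (hR _)) ih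

theorem Rad_top_eq {P : Subgroup G → Prop} : Rad P ⊤ = sSup {N | N.Normal ∧ P N} := by
  unfold Rad
  congr 1
  ext N
  simp [normalizer_eq_top_iff]

/-- `O_p(H)` inside `G` -/
def Op (p : ℕ) (H : Subgroup G) : Subgroup G := Rad (fun N => IsPGroup p N) H
/-- `O_{p'}(H)` inside `G` -/
def Opp (p : ℕ) (H : Subgroup G) : Subgroup G := Rad (fun N => (Nat.card N).Coprime p) H
/-- `F(H)` inside `G` -/
def Fit (H : Subgroup G) : Subgroup G := Rad (fun N => Group.IsNilpotent N) H

theorem Op_top {p : ℕ} : Op p (⊤ : Subgroup G) = pCore p G := Rad_top_eq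
theorem Opp_top {p : ℕ} : Opp p (⊤ : Subgroup G) = pPrimeCore p G := Rad_top_eq
theorem Fit_top : Fit (⊤ : Subgroup G) = fittingSubgroup G := Rad_top_eq

section map
variable {G' : Type*} [Group G'] {f : G →* G'}

theorem Op_map (hf : Function.Injective f) {p : ℕ} (H : Subgroup G) :
    (Op p H).map f = Op p (H.map f) := Rad_map_eq hf (fun _ => isPGroup_map_iff hf) H
theorem Opp_map (hf : Function.Injective f) {p : ℕ} (H : Subgroup G) :
    (Opp p H).map f = Opp p (H.map f) :=
  Rad_map_eq hf (fun _ => by rw [card_map_of_injective hf]) H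
theorem Fit_map (hf : Function.Injective f) (H : Subgroup G) :
    (Fit H).map f = Fit (H.map f) := Rad_map_eq hf (fun _ => nilpotent_map_iff hf) H

theorem Op_map_le (f : G →* G') {p : ℕ} (H : Subgroup G) :
    (Op p H).map f ≤ Op p (H.map f) := Rad_map_le f (fun _ h => h.map f) H
theorem Opp_map_le (f : G →* G') {p : ℕ} (H : Subgroup G) :
    (Opp p H).map f ≤ Opp p (H.map f) := Rad_map_le f (fun _ h => coprime_card_map f h) H
theorem Fit_map_le (f : G →* G') (H : Subgroup G) :
    (Fit H).map f ≤ Fit (H.map f) := Rad_map_le f (fun _ h => nilpotent_map f h) H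
end map

theorem map_top_subtype (H : Subgroup G) : (⊤ : Subgroup H).map H.subtype = H := by
  rw [← MonoidHom.range_eq_map, range_subtype]

theorem Op_eq {p : ℕ} (H : Subgroup G) : (pCore p H).map H.subtype = Op p H := by
  rw [← Op_top, Op_map H.subtype_injective, map_top_subtype]
theorem Opp_eq {p : ℕ} (H : Subgroup G) : (pPrimeCore p H).map H.subtype = Opp p H := by
  rw [← Opp_top, Opp_map H.subtype_injective, map_top_subtype]
theorem Fit_eq (H : Subgroup G) : (fittingSubgroup H).map H.subtype = Fit H := by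
  rw [← Fit_top, Fit_map H.subtype_injective, map_top_subtype]

theorem Op_le {p : ℕ} {H : Subgroup G} : Op p H ≤ H := Rad_le
theorem Opp_le {p : ℕ} {H : Subgroup G} : Opp p H ≤ H := Rad_le
theorem Fit_le {H : Subgroup G} : Fit H ≤ H := Rad_le

theorem Op_normalizer {p : ℕ} (H : Subgroup G) :
    normalizer (H : Set G) ≤ normalizer (Op p H : Set G) :=
  Rad_normalizer (fun g _ => isPGroup_map_iff (MulAut.conj g).injective) H
theorem Opp_normalizer {p : ℕ} (H : Subgroup G) :
    normalizer (H : Set G) ≤ normalizer (Opp p H : Set G) :=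
  Rad_normalizer (fun g _ => by rw [card_map_of_injective (MulAut.conj g).injective]) H
theorem Fit_normalizer (H : Subgroup G) :
    normalizer (H : Set G) ≤ normalizer (Fit H : Set G) :=
  Rad_normalizer (fun g _ => nilpotent_map_iff (MulAut.conj g).injective) H

theorem Op_normal {p : ℕ} (H : Subgroup G) : H ≤ normalizer (Op p H : Set G) :=
  le_normalizer.trans (Op_normalizer H)
theorem Opp_normal {p : ℕ} (H : Subgroup G) : H ≤ normalizer (Opp p H : Set G) :=
  le_normalizer.trans (Opp_normalizer H)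
theorem Fit_normal (H : Subgroup G) : H ≤ normalizer (Fit H : Set G) :=
  le_normalizer.trans (Fit_normalizer H)

theorem Op_isPGroup [Finite G] {p : ℕ} (H : Subgroup G) : IsPGroup p (Op p H) :=
  Rad_prop (P := fun N => IsPGroup p N) H IsPGroup.of_bot
    fun _ _ h hA hB => hA.to_sup_of_normal_right' hB h
theorem Opp_coprime [Finite G] {p : ℕ} (H : Subgroup G) : (Nat.card (Opp p H)).Coprime p :=
  Rad_prop (P := fun N => (Nat.card N).Coprime p) H (by simp)
    fun _ _ h hA hB => coprime_card_sup h hA hB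
theorem Fit_nilpotent [Finite G] (H : Subgroup G) : Group.IsNilpotent (Fit H) := by
  rw [← Fit_eq]; exact nilpotent_map _ Cfsg.Agent.S0008.result
theorem Fit_solvable [Finite G] (H : Subgroup G) : Group.IsSolvable (Fit H) :=
  solvable_of_nilpotent (Fit_nilpotent H)

theorem le_Op {p : ℕ} {H N : Subgroup G} (h1 : N ≤ H) (h2 : H ≤ normalizer (N : Set G))
    (h3 : IsPGroup p N) : N ≤ Op p H := le_Rad h1 h2 h3
theorem le_Opp {p : ℕ} {H N : Subgroup G} (h1 : N ≤ H) (h2 : H ≤ normalizer (N : Set G))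
    (h3 : (Nat.card N).Coprime p) : N ≤ Opp p H := le_Rad h1 h2 h3
theorem le_Fit {H N : Subgroup G} (h1 : N ≤ H) (h2 : H ≤ normalizer (N : Set G))
    (h3 : Group.IsNilpotent N) : N ≤ Fit H := le_Rad h1 h2 h3

theorem SubIn.Op_mono [Finite G] {p : ℕ} {K H : Subgroup G} (h : SubIn K H) : Op p K ≤ Op p H :=
  Rad_mono_subIn (fun g _ => isPGroup_map_iff (MulAut.conj g).injective) Op_isPGroup h
theorem SubIn.Opp_mono [Finite G] {p : ℕ} {K H : Subgroup G} (h : SubIn K H) :
    Opp p K ≤ Opp p H :=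
  Rad_mono_subIn (fun g _ => by rw [card_map_of_injective (MulAut.conj g).injective])
    Opp_coprime h
theorem SubIn.Fit_mono [Finite G] {K H : Subgroup G} (h : SubIn K H) : Fit K ≤ Fit H :=
  Rad_mono_subIn (fun g _ => nilpotent_map_iff (MulAut.conj g).injective) Fit_nilpotent h

theorem SubIn.le_Op [Finite G] {p : ℕ} {K H : Subgroup G} (h : SubIn K H) (hK : IsPGroup p K) :
    K ≤ Op p H := (Comp.le_Op le_rfl le_normalizer hK).trans h.Op_mono
theorem SubIn.le_Opp [Finite G] {p : ℕ} {K H : Subgroup G} (h : SubIn K H)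
    (hK : (Nat.card K).Coprime p) : K ≤ Opp p H :=
  (Comp.le_Opp le_rfl le_normalizer hK).trans h.Opp_mono
theorem SubIn.le_Fit [Finite G] {K H : Subgroup G} (h : SubIn K H) (hK : Group.IsNilpotent K) :
    K ≤ Fit H := (Comp.le_Fit le_rfl le_normalizer hK).trans h.Fit_mono

theorem inf_normalizer {N H K : Subgroup G} (h : H ≤ normalizer (N : Set G)) (hK : K ≤ H) :
    K ≤ normalizer ((N ⊓ K : Subgroup G) : Set G) :=
  (le_inf (hK.trans h) le_normalizer).trans inf_normalizer_le_normalizer_inf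

theorem Op_inf_le [Finite G] {p : ℕ} {K H : Subgroup G} (h : K ≤ H) : Op p H ⊓ K ≤ Op p K :=
  le_Op inf_le_right (inf_normalizer (Op_normal H) h) (Op_isPGroup H).to_inf_left
theorem Opp_inf_le [Finite G] {p : ℕ} {K H : Subgroup G} (h : K ≤ H) : Opp p H ⊓ K ≤ Opp p K :=
  le_Opp inf_le_right (inf_normalizer (Opp_normal H) h)
    (coprime_card_of_le inf_le_left (Opp_coprime H))
theorem Fit_inf_le [Finite G] {K H : Subgroup G} (h : K ≤ H) : Fit H ⊓ K ≤ Fit K :=
  le_Fit inf_le_right (inf_normalizer (Fit_normal H) h)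
    (nilpotent_of_le inf_le_left (Fit_nilpotent H))

theorem SubIn.Op_eq [Finite G] {p : ℕ} {K H : Subgroup G} (h : SubIn K H) : Op p K = Op p H ⊓ K :=
  le_antisymm (le_inf h.Op_mono Op_le) (Op_inf_le h.le)
theorem SubIn.Opp_eq [Finite G] {p : ℕ} {K H : Subgroup G} (h : SubIn K H) :
    Opp p K = Opp p H ⊓ K := le_antisymm (le_inf h.Opp_mono Opp_le) (Opp_inf_le h.le)
theorem SubIn.Fit_eq [Finite G] {K H : Subgroup G} (h : SubIn K H) : Fit K = Fit H ⊓ K :=
  le_antisymm (le_inf h.Fit_mono Fit_le) (Fit_inf_le h.le)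

theorem Op_le_Fit [Finite G] {p : ℕ} [Fact p.Prime] (H : Subgroup G) : Op p H ≤ Fit H :=
  le_Fit Op_le (Op_normal H) (Op_isPGroup H).isNilpotent

theorem Fit_eq_iSup [Finite G] (H : Subgroup G) : Fit H = ⨆ p : Nat.Primes, Op (p : ℕ) H := by
  rw [← Fit_eq, Cfsg.Agent.S0009.result, Subgroup.map_iSup]
  simp only [Op_eq]

theorem Op_le_Opp [Finite G] {p q : ℕ} [Fact p.Prime] [Fact q.Prime] (h : q ≠ p) (H : Subgroup G) :
    Op q H ≤ Opp p H := by
  refine le_Opp Op_le (Op_normal H) ?_
  obtain ⟨n, hn⟩ := (Op_isPGroup (p := q) H).exists_card_eq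
  rw [hn]
  exact Nat.Coprime.pow_left _ ((Nat.coprime_primes Fact.out Fact.out).2 h)

theorem Fit_le_sup [Finite G] (p : ℕ) [Fact p.Prime] (H : Subgroup G) :
    Fit H ≤ Op p H ⊔ Opp p H := by
  rw [Fit_eq_iSup]
  refine iSup_le fun q => ?_
  have : Fact (q : ℕ).Prime := ⟨q.2⟩
  by_cases h : (q : ℕ) = p
  · rw [h]; exact le_sup_left
  · exact (Op_le_Opp h H).trans le_sup_right

theorem Fit_eq_Op [Finite G] {p : ℕ} [Fact p.Prime] {H : Subgroup G} (h : Opp p H = ⊥) :
    Fit H = Op p H :=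
  le_antisymm (by simpa [h] using Fit_le_sup p H) (Op_le_Fit H)

theorem eq_bot_of_pgroup_coprime [Finite G] {p : ℕ} [Fact p.Prime] {A : Subgroup G}
    (h1 : IsPGroup p A) (h2 : (Nat.card A).Coprime p) : A = ⊥ := by
  rcases h1.card_eq_or_dvd with h | h
  · exact card_eq_one.1 h
  · exact absurd (Nat.Coprime.eq_one_of_dvd h2.symm h) (Fact.out : p.Prime).ne_one

theorem comm_bot_of_normal_inf {A B H : Subgroup G} (hA : A ≤ H) (hB : B ≤ H)
    (h1 : H ≤ normalizer (A : Set G)) (h2 : H ≤ normalizer (B : Set G)) (h : A ⊓ B = ⊥) :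
    ⁅A, B⁆ = ⊥ := by
  rw [eq_bot_iff, ← h]
  exact le_inf (le_normalizer_iff_commutator_le_left.1 (hB.trans h1))
    (le_normalizer_iff_commutator_le_right.1 (hA.trans h2))

theorem Op_comm_Opp [Finite G] {p : ℕ} [Fact p.Prime] (H : Subgroup G) : ⁅Op p H, Opp p H⁆ = ⊥ :=
  comm_bot_of_normal_inf Op_le Opp_le (Op_normal H) (Opp_normal H)
    (eq_bot_of_pgroup_coprime (Op_isPGroup H).to_inf_left
      (coprime_card_of_le inf_le_right (Opp_coprime H)))

end Cfsg.Agent.Comp
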