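import Cfsg.Agent.Comp.Hyper

/-! Signalizer functors: the family, and the transitivity theorem (in a generic form). -/

set_option autoImplicit false

namespace Cfsg.Agent.Comp

open Subgroup
open scoped commutatorElement Pointwise

variable {G : Type*} [Group G] [Finite G] {p : ℕ} [hp : Fact p.Prime]

theorem le_normalizer_iff_mem {A U : Subgroup G} :
    A ≤ normalizer (U : Set G) ↔ ∀ b ∈ A, ∀ u ∈ U, b * u * b⁻¹ ∈ U :=
  le_normalizer_iff

omit [Finite G] in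
theorem normalizes_map_conj {A U : Subgroup G} (h : A ≤ normalizer (U : Set G)) {c : G}
    (hc : c ∈ centralizer (A : Set G)) :
    A ≤ normalizer ((U.map (MulAut.conj c).toMonoidHom : Subgroup G) : Set G) := by
  rw [← normalizer_map_conj, ← map_conj_eq_of_mem_normalizer (centralizer_le_normalizer _ hc)]
  exact map_mono h

/-- An abstract family of `E`-invariant `p'`-subgroups, permuted by `C`. -/
structure TFam (p : ℕ) (A E C : Subgroup G) (F : Subgroup G → Prop) : Prop where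
  cop : ∀ {U}, F U → (Nat.card U).Coprime p
  inv : ∀ {U}, F U → E ≤ normalizer (U : Set G)
  of_le : ∀ {U V}, F U → V ≤ U → E ≤ normalizer (V : Set G) → F V
  sup : ∀ {U V}, F U → F V → U ≤ normalizer (V : Set G) → F (U ⊔ V)
  conj : ∀ {U c}, F U → c ∈ C → F (U.map (MulAut.conj c).toMonoidHom)
  cent : ∀ {U}, F U → U ⊓ centralizer (E : Set G) ≤ C
  loc : ∀ a ∈ A, a ≠ 1 → ∃ T, F T ∧ ∀ U, F U → U ⊓ centralizer {a} ≤ T

/-- maximal `q`-subgroups in a family -/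
structure MaxQ (F : Subgroup G → Prop) (q : ℕ) (Q : Subgroup G) : Prop where
  mem : F Q
  pg : IsPGroup q Q
  max : ∀ R, F R → IsPGroup q R → Q ≤ R → R = Q

omit hp in
theorem exists_maxQ {F : Subgroup G → Prop} {q : ℕ} {Q : Subgroup G} (h1 : F Q)
    (h2 : IsPGroup q Q) : ∃ R, Q ≤ R ∧ MaxQ F q R := by
  obtain ⟨R, a, ⟨b, c⟩, d⟩ := Core.exists_maximal_ge (P := fun R => F R ∧ IsPGroup q R) ⟨h1, h2⟩
  exact ⟨R, a, b, c, fun S e f g => d S ⟨e, f⟩ g⟩

omit hp [Finite G] in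
theorem MaxQ.conj {A E C : Subgroup G} {F : Subgroup G → Prop} (h : TFam p A E C F) {q : ℕ}
    {Q : Subgroup G} (hQ : MaxQ F q Q) {c : G} (hc : c ∈ C) :
    MaxQ F q (Q.map (MulAut.conj c).toMonoidHom) := by
  refine ⟨h.conj hQ.mem hc, hQ.pg.map _, fun R a b d => ?_⟩
  have h1 := map_mono (f := (MulAut.conj c⁻¹).toMonoidHom) d
  rw [map_conj_map_conj, inv_mul_cancel, map_conj_one] at h1
  rw [← hQ.max _ (h.conj a (C.inv_mem hc)) (b.map _) h1, map_conj_map_conj, mul_inv_cancel,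
    map_conj_one]

theorem TFam.conj_sylow {A E C : Subgroup G} {F : Subgroup G → Prop} (h : TFam p A E C F)
    (hE : IsPGroup p E) {L : Subgroup G} (hL : F L) {q : ℕ} [Fact q.Prime] {R S : Subgroup G}
    (hR : R ≤ L) (hRq : IsPGroup q R) (hRE : E ≤ normalizer (R : Set G))
    (hS : SylIn q S L) (hSE : E ≤ normalizer (S : Set G)) :
    ∃ c ∈ L ⊓ centralizer (E : Set G), R.map (MulAut.conj c).toMonoidHom ≤ S := by
  obtain ⟨P, a, b, d⟩ := Core.exists_invariant_isSylowIn_ge (h.inv hL)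
    (pgroup_coprime hE (h.cop hL)) (Or.inl (pgroup_solvable hE)) hR hRq hRE
  obtain ⟨c, hc, e⟩ := Core.exists_centralizer_conj_of_isSylowIn (h.inv hL)
    (pgroup_coprime hE (h.cop hL)) (Or.inl (pgroup_solvable hE)) a (sylIn_iff.1 hS) b hSE
  exact ⟨c, hc, e ▸ map_mono d⟩

theorem TFam.exists_sylow {A E C : Subgroup G} {F : Subgroup G → Prop} (h : TFam p A E C F)
    (hE : IsPGroup p E) {L : Subgroup G} (hL : F L) {q : ℕ} [Fact q.Prime] {R : Subgroup G}
    (hR : R ≤ L) (hRq : IsPGroup q R) (hRE : E ≤ normalizer (R : Set G)) :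
    ∃ S, R ≤ S ∧ SylIn q S L ∧ F S := by
  obtain ⟨P, a, b, d⟩ := Core.exists_invariant_isSylowIn_ge (h.inv hL)
    (pgroup_coprime hE (h.cop hL)) (Or.inl (pgroup_solvable hE)) hR hRq hRE
  exact ⟨P, d, sylIn_iff.2 a, h.of_le hL a.1 b⟩

/-- The transitivity theorem, generic form. -/
theorem TFam.transitivity {A E C : Subgroup G} {F : Subgroup G → Prop} (h : TFam p A E C F)
    (hA : IsElementaryAbelian p A) (hA3 : p ^ 3 ≤ Nat.card A) (hAE : A ≤ E)
    (hEA : E ≤ centralizer (A : Set G)) (hE : IsPGroup p E) {q : ℕ} [Fact q.Prime]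
    {Q₁ Q₂ : Subgroup G} (h₁ : MaxQ F q Q₁) (h₂ : MaxQ F q Q₂) :
    ∃ c ∈ C, Q₁.map (MulAut.conj c).toMonoidHom = Q₂ := by
  induction hn : (Q₁ ⊓ Q₂).index using Nat.strong_induction_on generalizing Q₁ Q₂ with
  | _ n ih => ?_
  subst hn
  by_cases e : Q₁ = Q₂
  · exact ⟨1, C.one_mem, by rw [map_conj_one, e]⟩
  have hD₁ : Q₁ ⊓ Q₂ ≠ Q₁ := fun e' => e (h₁.max _ h₂.mem h₂.pg (inf_eq_left.1 e')).symm
  have hD₂ : Q₁ ⊓ Q₂ ≠ Q₂ := fun e' => e (h₂.max _ h₁.mem h₁.pg (inf_eq_right.1 e'))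
  obtain ⟨a, ha, ha1, n1, n2⟩ := exists_elt_normalizer_meet hA hA3 h₁.pg h₂.pg (h.cop h₁.mem)
    (h.cop h₂.mem) (hAE.trans (h.inv h₁.mem)) (hAE.trans (h.inv h₂.mem)) hD₁ hD₂
  set D := Q₁ ⊓ Q₂ with hD
  have hED : E ≤ normalizer (D : Set G) := inf_normalizer' (h.inv h₁.mem) (h.inv h₂.mem)
  have hFD : F D := h.of_le h₁.mem inf_le_left hED
  have hEa : E ≤ normalizer (centralizer {a} : Set G) :=
    (hEA.trans (centralizer_le (Set.singleton_subset_iff.2 ha))).trans le_normalizer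
  obtain ⟨T, hT, hTl⟩ := h.loc a ha ha1
  have hL : F ((T ⊓ normalizer (D : Set G)) ⊔ D) :=
    h.sup (h.of_le hT inf_le_left (inf_normalizer' (h.inv hT) (hED.trans le_normalizer))) hFD
      inf_le_right
  set L := (T ⊓ normalizer (D : Set G)) ⊔ D
  have key : ∀ Q, MaxQ F q Q → D ≤ Q →
      ¬ (normalizer (D : Set G) ⊓ Q ⊓ centralizer {a} ≤ D) →
      ∃ R, D < R ∧ R ≤ Q ∧ R ≤ L ∧ E ≤ normalizer (R : Set G) := by
    intro Q hQ hDQ hn
    refine ⟨(normalizer (D : Set G) ⊓ Q ⊓ centralizer {a}) ⊔ D,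
      lt_of_le_of_ne le_sup_right fun e' => hn (le_sup_left.trans e'.ge),
      sup_le (inf_le_left.trans inf_le_right) hDQ, sup_le_sup_right (le_inf
        ((inf_le_inf_right _ inf_le_right).trans (hTl Q hQ.mem)) (inf_le_left.trans inf_le_left)) _,
      sup_normalizer' (inf_normalizer' (inf_normalizer' (hED.trans le_normalizer) (h.inv hQ.mem))
        hEa) hED⟩
  obtain ⟨R₁, a1, a2, a3, a4⟩ := key Q₁ h₁ inf_le_left n1
  obtain ⟨R₂, b1, b2, b3, b4⟩ := key Q₂ h₂ inf_le_right n2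
  obtain ⟨S, s1, s2, s3⟩ := h.exists_sylow hE hL b3 (h₂.pg.to_le b2) b4
  obtain ⟨c, hc, hc'⟩ := h.conj_sylow hE hL a3 (h₁.pg.to_le a2) a4 s2 (h.inv s3)
  obtain ⟨P, hSP, hP⟩ := exists_maxQ s3 s2.pg
  have hcC := h.cent hL hc
  have hcD : c ∈ normalizer (D : Set G) :=
    (sup_le inf_le_right le_normalizer : L ≤ normalizer (D : Set G)) hc.1
  obtain ⟨x, hx, ex⟩ := ih _ (index_strictAnti (lt_of_lt_of_le b1 (le_inf (s1.trans hSP) b2)))
    hP h₂ rfl
  have hlt : D < Q₁.map (MulAut.conj c).toMonoidHom ⊓ P := by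
    refine lt_of_lt_of_le ?_ (le_inf (map_mono a2) (hc'.trans hSP))
    rw [← map_conj_eq_of_mem_normalizer hcD]
    exact (map_lt_map_iff_of_injective map_conj_inj).2 a1
  obtain ⟨y, hy, ey⟩ := ih _ (index_strictAnti hlt) (h₁.conj h hcC) hP rfl
  exact ⟨x * (y * c), C.mul_mem hx (C.mul_mem hy hcC), by
    rw [← map_conj_map_conj, ← map_conj_map_conj, ey, ex]⟩

/-! ### Solvable signalizer functors -/

/-- a solvable signalizer functor on the elementary abelian group `A` -/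
structure SF (p : ℕ) (A : Subgroup G) (θ : G → Subgroup G) : Prop where
  elem : IsElementaryAbelian p A
  le : ∀ a ∈ A, a ≠ 1 → θ a ≤ centralizer {a}
  cop : ∀ a ∈ A, a ≠ 1 → (Nat.card (θ a)).Coprime p
  inv : ∀ a ∈ A, a ≠ 1 → A ≤ normalizer (θ a : Set G)
  bal : ∀ a ∈ A, a ≠ 1 → ∀ b ∈ A, b ≠ 1 → θ a ⊓ centralizer {b} ≤ θ b
  solv : ∀ a ∈ A, a ≠ 1 → Group.IsSolvable (θ a)

/-- membership in the family of a signalizer functor -/
structure Fam (p : ℕ) (A : Subgroup G) (θ : G → Subgroup G) (U : Subgroup G) : Prop where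
  solv : Group.IsSolvable U
  cop : (Nat.card U).Coprime p
  inv : A ≤ normalizer (U : Set G)
  loc : ∀ a ∈ A, a ≠ 1 → U ⊓ centralizer {a} ≤ θ a

variable {A : Subgroup G} {θ : G → Subgroup G}

theorem sf_iff (hA : IsElementaryAbelian p A) : SF p A θ ↔ IsSolvableSignalizerFunctor p A θ :=
  ⟨fun h => ⟨⟨h.le, fun a ha h1 => coprime_iff_not_dvd'.1 (h.cop a ha h1),
    fun a ha h1 => le_normalizer_iff_mem.1 (h.inv a ha h1), h.bal⟩, h.solv⟩,
  fun h => ⟨hA, h.1.1, fun a ha h1 => coprime_iff_not_dvd'.2 (h.1.2.1 a ha h1),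
    fun a ha h1 => le_normalizer_iff_mem.2 (h.1.2.2.1 a ha h1), h.1.2.2.2, h.2⟩⟩

theorem fam_iff {U : Subgroup G} : Fam p A θ U ↔ U ∈ signalizerFamily p A θ :=
  ⟨fun h => ⟨h.solv, coprime_iff_not_dvd'.1 h.cop, le_normalizer_iff_mem.1 h.inv, h.loc⟩,
    fun h => ⟨h.1, coprime_iff_not_dvd'.2 h.2.1, le_normalizer_iff_mem.2 h.2.2.1, h.2.2.2⟩⟩

omit hp in
theorem Fam.of_le {U V : Subgroup G} (h : Fam p A θ U) (hV : V ≤ U)
    (hA : A ≤ normalizer (V : Set G)) : Fam p A θ V :=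
  ⟨solvable_of_le hV h.solv, coprime_card_of_le hV h.cop, hA,
    fun a ha h1 => (inf_le_inf_right _ hV).trans (h.loc a ha h1)⟩

omit hp in
theorem Fam.bot : Fam p A θ ⊥ :=
  ⟨inferInstance, by simp, le_normalizer_of_normal, fun _ _ _ => inf_le_left.trans bot_le⟩

omit hp in
theorem Fam.inf {U V : Subgroup G} (h : Fam p A θ U) (hA : A ≤ normalizer (V : Set G)) :
    Fam p A θ (U ⊓ V) := h.of_le inf_le_left (inf_normalizer' h.inv hA)

theorem inf_centralizer_sup_le {A U V : Subgroup G} (hA : IsPGroup p A)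
    (hU : A ≤ normalizer (U : Set G)) (hV : A ≤ normalizer (V : Set G))
    (hc : (Nat.card U).Coprime p) (h : U ≤ normalizer (V : Set G)) :
    (U ⊔ V) ⊓ centralizer (A : Set G) ≤
      (U ⊓ centralizer (A : Set G)) ⊔ (V ⊓ centralizer (A : Set G)) := by
  rintro x ⟨h1, h2⟩
  obtain ⟨u, hu, v, hv, rfl⟩ := (mem_sup_of_normalizes h).1 h1
  obtain ⟨u', hu', v', hv', e⟩ := Core.exists_centralizer_mul_centralizer hU hV
    (pgroup_coprime hA (coprime_card_of_le inf_le_left hc)) (Or.inl (pgroup_solvable hA)) hu hv h2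
  rw [e]; exact mul_mem_sup hu' hv'

theorem elemAb_zpowers_isPGroup (hA : IsElementaryAbelian p A) {a : G} (ha : a ∈ A) :
    IsPGroup p (zpowers a) := (elemAb_isPGroup hA).to_le (zpowers_le.2 ha)

theorem Fam.sup (hA : IsElementaryAbelian p A) {U V : Subgroup G} (hU : Fam p A θ U)
    (hV : Fam p A θ V) (h : U ≤ normalizer (V : Set G)) : Fam p A θ (U ⊔ V) := by
  refine ⟨solvable_sup h hU.solv hV.solv, coprime_card_sup h hU.cop hV.cop,
    sup_normalizer' hU.inv hV.inv, fun a ha h1 => ?_⟩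
  have := inf_centralizer_sup_le (elemAb_zpowers_isPGroup hA ha) ((zpowers_le.2 ha).trans hU.inv)
    ((zpowers_le.2 ha).trans hV.inv) hU.cop h
  rw [centralizer_zpowers] at this
  exact this.trans (sup_le (hU.loc a ha h1) (hV.loc a ha h1))

omit hp [Finite G] in
theorem SF.fam (h : SF p A θ) {a : G} (ha : a ∈ A) (h1 : a ≠ 1) : Fam p A θ (θ a) :=
  ⟨h.solv a ha h1, h.cop a ha h1, h.inv a ha h1, h.bal a ha h1⟩

omit hp [Finite G] in
theorem sigInf_le {B : Subgroup G} {a : G} (ha : a ∈ B) (h1 : a ≠ 1) :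
    signalizerInf B θ ≤ θ a := iInf_le (fun a : {a : G // a ∈ B ∧ a ≠ 1} => θ a) ⟨a, ha, h1⟩

omit hp [Finite G] in
theorem le_sigInf {B U : Subgroup G} (h : ∀ a ∈ B, a ≠ 1 → U ≤ θ a) : U ≤ signalizerInf B θ :=
  le_iInf fun a => h a a.2.1 a.2.2

omit hp [Finite G] in
theorem SF.sigInf_le_centralizer (h : SF p A θ) {B : Subgroup G} (hB : B ≤ A) :
    signalizerInf B θ ≤ centralizer (B : Set G) := fun x hx b hb => by
  by_cases h1 : b = 1
  · simp [h1]
  · exact (mem_centralizer_singleton_iff.1 (h.le b (hB hb) h1 (sigInf_le hb h1 hx))).symm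

omit hp [Finite G] in
theorem Fam.inf_centralizer_le {U B : Subgroup G} (hU : Fam p A θ U) (hB : B ≤ A) :
    U ⊓ centralizer (B : Set G) ≤ signalizerInf B θ :=
  le_sigInf fun a ha h1 => (inf_le_inf_left _
    (centralizer_le (Set.singleton_subset_iff.2 ha))).trans (hU.loc a (hB ha) h1)

omit hp [Finite G] in
theorem SF.sigInf_eq (h : SF p A θ) {B : Subgroup G} (hB : B ≤ A) {a : G} (ha : a ∈ B)
    (h1 : a ≠ 1) : signalizerInf B θ = θ a ⊓ centralizer (B : Set G) :=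
  le_antisymm (le_inf (sigInf_le ha h1) (h.sigInf_le_centralizer hB))
    ((h.fam (hB ha) h1).inf_centralizer_le hB)

omit hp in
theorem SF.sigInf_fam (h : SF p A θ) {B : Subgroup G} (hB : B ≤ A) (hB1 : B ≠ ⊥) :
    Fam p A θ (signalizerInf B θ) := by
  obtain ⟨⟨a, ha⟩, h1⟩ := ne_bot_iff_exists_ne_one.1 hB1
  replace h1 : a ≠ 1 := fun e => h1 (Subtype.ext e)
  rw [h.sigInf_eq hB ha h1]
  exact (h.fam (hB ha) h1).inf (elemAb_normalizes_centralizer h.elem hB)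

omit hp in
theorem Fam.conj (h : SF p A θ) {U : Subgroup G} (hU : Fam p A θ U) {c : G}
    (hc : c ∈ signalizerInf A θ) : Fam p A θ (U.map (MulAut.conj c).toMonoidHom) := by
  have hc' := h.sigInf_le_centralizer le_rfl hc
  refine ⟨solvable_map _ hU.solv, coprime_card_map _ hU.cop, normalizes_map_conj hU.inv hc',
    fun a ha h1 => ?_⟩
  have e1 : (centralizer {a}).map (MulAut.conj c).toMonoidHom = centralizer {a} :=
    map_conj_eq_of_mem_normalizer (le_normalizer (centralizer_le (Set.singleton_subset_iff.2 ha) hc'))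
  rw [← e1, ← map_inf _ _ _ map_conj_inj]
  exact map_conj_le_of_mem (hU.loc a ha h1) (le_normalizer (sigInf_le ha h1 hc))

theorem SF.tfam (h : SF p A θ) : TFam p A A (signalizerInf A θ) (Fam p A θ) :=
  ⟨Fam.cop, Fam.inv, Fam.of_le, Fam.sup h.elem, fun a b => a.conj h b, fun hU => hU.inf_centralizer_le le_rfl,
    fun a ha h1 => ⟨θ a, h.fam ha h1, fun _ hU => hU.loc a ha h1⟩⟩

/-- The transitivity theorem for signalizer functors. -/
theorem SF.transitivity (h : SF p A θ) (hA3 : p ^ 3 ≤ Nat.card A) {q : ℕ} [Fact q.Prime]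
    {Q₁ Q₂ : Subgroup G} (h₁ : MaxQ (Fam p A θ) q Q₁) (h₂ : MaxQ (Fam p A θ) q Q₂) :
    ∃ c ∈ signalizerInf A θ, Q₁.map (MulAut.conj c).toMonoidHom = Q₂ :=
  h.tfam.transitivity h.elem hA3 le_rfl (elemAb_le_centralizer h.elem le_rfl le_rfl)
    (elemAb_isPGroup h.elem) h₁ h₂

theorem SF.exists_conj_sylow (h : SF p A θ) (hA3 : p ^ 3 ≤ Nat.card A) {q : ℕ} [Fact q.Prime]
    {Q H : Subgroup G} (hQ : MaxQ (Fam p A θ) q Q) (hH : Fam p A θ H) :
    ∃ c ∈ signalizerInf A θ, SylIn q (Q.map (MulAut.conj c).toMonoidHom ⊓ H) H := by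
  obtain ⟨S, -, s2, s3⟩ := h.tfam.exists_sylow (elemAb_isPGroup h.elem) hH bot_le
    (IsPGroup.of_bot (p := q)) le_normalizer_of_normal
  obtain ⟨P, hSP, hP⟩ := exists_maxQ s3 s2.pg
  obtain ⟨c, hc, e⟩ := h.transitivity hA3 hQ hP
  refine ⟨c, hc, ?_⟩
  rw [e, s2.eq_of_le (le_inf hSP s2.le) inf_le_right hP.pg.to_inf_left]
  exact s2

theorem SF.sylow_of_normalized (h : SF p A θ) (hA3 : p ^ 3 ≤ Nat.card A) {q : ℕ} [Fact q.Prime]
    {Q H : Subgroup G} (hQ : MaxQ (Fam p A θ) q Q) (hH : Fam p A θ H)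
    (hn : signalizerInf A θ ≤ normalizer (H : Set G)) : SylIn q (Q ⊓ H) H := by
  obtain ⟨c, hc, e⟩ := h.exists_conj_sylow hA3 hQ hH
  have := e.conj_self (inv_mem (hn hc))
  rwa [map_inf _ _ _ map_conj_inj, map_conj_map_conj, inv_mul_cancel, map_conj_one,
    map_conj_eq_of_mem_normalizer (inv_mem (hn hc))] at this

theorem SF.sylow_sigInf (h : SF p A θ) (hA3 : p ^ 3 ≤ Nat.card A) {q : ℕ} [Fact q.Prime]
    {Q B : Subgroup G} (hQ : MaxQ (Fam p A θ) q Q) (hB : B ≤ A) (hB1 : B ≠ ⊥) :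
    SylIn q (Q ⊓ centralizer (B : Set G)) (signalizerInf B θ) := by
  have := h.sylow_of_normalized hA3 hQ (h.sigInf_fam hB hB1)
    ((le_sigInf fun a ha h1 => sigInf_le (hB ha) h1).trans le_normalizer)
  rwa [le_antisymm (inf_le_inf_left Q (h.sigInf_le_centralizer hB))
    (le_inf inf_le_left (hQ.mem.inf_centralizer_le hB))] at this

theorem SF.sylow_theta (h : SF p A θ) (hA3 : p ^ 3 ≤ Nat.card A) {q : ℕ} [Fact q.Prime]
    {Q : Subgroup G} (hQ : MaxQ (Fam p A θ) q Q) {a : G} (ha : a ∈ A) (h1 : a ≠ 1) :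
    SylIn q (Q ⊓ centralizer {a}) (θ a) := by
  have := h.sylow_of_normalized hA3 hQ (h.fam ha h1) ((sigInf_le ha h1).trans le_normalizer)
  rwa [le_antisymm (inf_le_inf_left Q (h.le a ha h1))
    (le_inf inf_le_left (hQ.mem.loc a ha h1))] at this

theorem Fam.le_of_hyperplanes (h : SF p A θ) {X B H : Subgroup G} (hX : Fam p A θ X) (hB : B ≤ A)
    (hB1 : B ≠ ⊥) (hH : ∀ D, D ≤ B → D.relIndex B = p → X ⊓ signalizerInf D θ ≤ H) : X ≤ H :=
  Comp.le_of_hyperplanes (elemAb_le h.elem hB) hB1 hX.cop (hB.trans hX.inv) fun D h1 h2 =>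
    (le_inf inf_le_left (hX.inf_centralizer_le (h1.trans hB))).trans (hH D h1 h2)

theorem SF.quot_bal (h : SF p A θ) {G' : Type*} [Group G'] (f : G →* G')
    (hk : (Nat.card f.ker).Coprime p) {U B : Subgroup G} (hU : A ≤ normalizer (U : Set G))
    (hB : B ≤ A) : U.map f ⊓ centralizer ((B.map f : Subgroup G') : Set G') =
      (U ⊓ centralizer (B : Set G)).map f := by
  refine le_antisymm ?_ (le_inf (map_mono inf_le_left)
    ((map_mono inf_le_right).trans (map_centralizer_le_centralizer_image _ f)))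
  rintro _ ⟨⟨u, hu, rfl⟩, h2⟩
  have hBp := (elemAb_isPGroup h.elem).to_le hB
  obtain ⟨n, hn, h3⟩ := Core.exists_centralizer_of_fixed_coset (A := B) (N := f.ker ⊓ U)
    (inf_normalizer' le_normalizer_of_normal (hB.trans hU))
    (pgroup_coprime hBp (coprime_card_of_le inf_le_left hk)) (Or.inl (pgroup_solvable hBp))
    (k := u) (fun b hb => ⟨by
      have := h2 (f b) ⟨b, hb, rfl⟩
      change f _ = 1
      simp only [map_mul, map_inv]
      rw [mul_assoc (f u)⁻¹, this]; group, by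
      rw [mul_assoc, mul_assoc, ← mul_assoc b]
      exact U.mul_mem (U.inv_mem hu) (le_normalizer_iff_mem.1 hU b (hB hb) u hu)⟩)
  exact ⟨u * n, ⟨U.mul_mem hu hn.2, h3⟩, by rw [map_mul, (hn.1 : f n = 1), mul_one]⟩

end Cfsg.Agent.Comp
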