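import Cfsg.Agent.Comp.Layer
import Cfsg.Agent.Core.Cores

/-! Ambient Sylow subgroups and lifting of normalizers and centralizers over `p'`-kernels. -/

set_option autoImplicit false

namespace Cfsg.Agent.Comp

open Subgroup
open scoped commutatorElement

variable {G : Type*} [Group G]

/-- `P` is a Sylow `p`-subgroup of `H` -/
structure SylIn (p : ℕ) (P H : Subgroup G) : Prop where
  le : P ≤ H
  pg : IsPGroup p P
  idx : ¬ p ∣ P.relIndex H

theorem mem_map_conj {H : Subgroup G} {g x : G} :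
    x ∈ H.map (MulAut.conj g).toMonoidHom ↔ g⁻¹ * x * g ∈ H := by
  rw [mem_map_equiv]; simp

theorem map_conj_map_conj (H : Subgroup G) (g k : G) :
    (H.map (MulAut.conj k).toMonoidHom).map (MulAut.conj g).toMonoidHom =
      H.map (MulAut.conj (g * k)).toMonoidHom := by
  ext x; simp only [mem_map_conj]; congr! 1; group

theorem map_conj_one (H : Subgroup G) : H.map (MulAut.conj (1 : G)).toMonoidHom = H := by
  ext x; simp

theorem map_conj_inj {g : G} : Function.Injective (MulAut.conj g).toMonoidHom :=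
  (MulAut.conj g).injective

theorem map_conj_le_of_mem {K H : Subgroup G} {g : G} (h : K ≤ H)
    (hg : g ∈ normalizer (H : Set G)) : K.map (MulAut.conj g).toMonoidHom ≤ H := by
  rw [← map_conj_eq_of_mem_normalizer hg]; exact map_mono h

theorem map_map_conj {G' : Type*} [Group G'] (f : G →* G') (H : Subgroup G) (g : G) :
    (H.map (MulAut.conj g).toMonoidHom).map f = (H.map f).map (MulAut.conj (f g)).toMonoidHom := by
  rw [map_map, map_map]; congr 1; ext x; simp

theorem centralizer_map_conj (s : Subgroup G) (g : G) :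
    (centralizer (s : Set G)).map (MulAut.conj g).toMonoidHom =
      centralizer ((s.map (MulAut.conj g).toMonoidHom : Subgroup G) : Set G) :=
  (Core.centralizer_conj_smul s g).symm

theorem centralizer_singleton_map_conj (a g : G) :
    (centralizer ({a} : Set G)).map (MulAut.conj g).toMonoidHom = centralizer {g * a * g⁻¹} := by
  ext x
  rw [mem_map_conj, mem_centralizer_singleton_iff, mem_centralizer_singleton_iff]
  constructor
  · intro h
    calc x * (g * a * g⁻¹) = g * (g⁻¹ * x * g * a) * g⁻¹ := by group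
      _ = _ := by rw [h]; group
  · intro h
    calc g⁻¹ * x * g * a = g⁻¹ * (x * (g * a * g⁻¹)) * g := by group
      _ = _ := by rw [h]; group

theorem normalizer_map_conj (s : Subgroup G) (g : G) :
    (normalizer (s : Set G)).map (MulAut.conj g).toMonoidHom =
      normalizer ((s.map (MulAut.conj g).toMonoidHom : Subgroup G) : Set G) :=
  map_equiv_normalizer_eq s (MulAut.conj g)

variable {p : ℕ}

theorem sylIn_sylow [Finite G] [Fact p.Prime] {H : Subgroup G} (S : Sylow p H) :
    SylIn p ((S : Subgroup H).map H.subtype) H := by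
  refine ⟨map_subtype_le _, S.isPGroup'.map _, ?_⟩
  rw [relIndex, ← comap_subtype, comap_map_eq_self_of_injective H.subtype_injective]
  exact S.not_dvd_index

theorem sylIn_top [Finite G] [Fact p.Prime] (S : Sylow p G) : SylIn p (S : Subgroup G) ⊤ :=
  ⟨le_top, S.isPGroup', by rw [relIndex_top_right]; exact S.not_dvd_index⟩

theorem SylIn.exists_sylow [Fact p.Prime] {P H : Subgroup G} (h : SylIn p P H) :
    ∃ S : Sylow p H, (S : Subgroup H).map H.subtype = P :=
  ⟨(h.pg.comap_subtype (K := H)).toSylow h.idx, map_subgroupOf_eq_of_le h.le⟩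

theorem SylIn.exists_sylow_top [Fact p.Prime] {P : Subgroup G} (h : SylIn p P ⊤) :
    ∃ S : Sylow p G, (S : Subgroup G) = P :=
  ⟨h.pg.toSylow (by rw [← relIndex_top_right]; exact h.idx), rfl⟩

theorem exists_sylIn_ge [Finite G] [Fact p.Prime] {Q H : Subgroup G} (h : Q ≤ H)
    (hQ : IsPGroup p Q) : ∃ P, Q ≤ P ∧ SylIn p P H := by
  obtain ⟨S, hS⟩ := (hQ.comap_subtype (K := H)).exists_le_sylow
  refine ⟨_, ?_, sylIn_sylow S⟩
  rw [← map_subgroupOf_eq_of_le h]
  exact map_mono hS

theorem exists_sylIn [Finite G] (p : ℕ) [Fact p.Prime] (H : Subgroup G) : ∃ P, SylIn p P H :=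
  let ⟨P, _, h⟩ := exists_sylIn_ge (bot_le : ⊥ ≤ H) IsPGroup.of_bot; ⟨P, h⟩

theorem SylIn.conj [Finite G] [Fact p.Prime] {P Q H : Subgroup G} (hP : SylIn p P H)
    (hQ : SylIn p Q H) : ∃ h ∈ H, P.map (MulAut.conj h).toMonoidHom = Q := by
  obtain ⟨S, rfl⟩ := hP.exists_sylow
  obtain ⟨T, rfl⟩ := hQ.exists_sylow
  obtain ⟨h, rfl⟩ := MulAction.exists_smul_eq H S T
  refine ⟨h, h.2, ?_⟩
  exact (map_map_conj H.subtype (S : Subgroup H) h).symm

theorem SylIn.eq_of_le [Finite G] [Fact p.Prime] {P Q H : Subgroup G} (hP : SylIn p P H)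
    (h1 : P ≤ Q) (h2 : Q ≤ H) (hQ : IsPGroup p Q) : Q = P := by
  have h3 : P.relIndex Q ∣ P.relIndex H := ⟨_, (relIndex_mul_relIndex P Q H h1 h2).symm⟩
  obtain ⟨n, hn⟩ := hQ.index (P.subgroupOf Q)
  change P.relIndex Q = p ^ n at hn
  rcases n with _ | n
  · exact le_antisymm (relIndex_eq_one.1 (by simpa using hn)) h1
  · exact absurd ((hn ▸ dvd_pow_self p n.succ_ne_zero : p ∣ P.relIndex Q).trans h3) hP.idx

theorem sylIn_of_maximal [Finite G] [Fact p.Prime] {P H : Subgroup G} (h1 : P ≤ H)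
    (h2 : IsPGroup p P) (h3 : ∀ Q, P ≤ Q → Q ≤ H → IsPGroup p Q → Q ≤ P) : SylIn p P H := by
  obtain ⟨Q, hQ1, hQ2⟩ := exists_sylIn_ge h1 h2
  rwa [le_antisymm hQ1 (h3 Q hQ1 hQ2.le hQ2.pg)]

theorem SylIn.restrict {P K H : Subgroup G} (h : SylIn p P H) (h1 : P ≤ K) (h2 : K ≤ H) :
    SylIn p P K :=
  ⟨h1, h.pg, fun hd => h.idx (hd.trans ⟨_, (relIndex_mul_relIndex P K H h1 h2).symm⟩)⟩

theorem relIndex_sup_left' [Finite G] {H N : Subgroup G} (h : H ≤ normalizer (N : Set G)) :
    H.relIndex (H ⊔ N) = H.relIndex N := by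
  have h3 := Core.card_sup_mul_card_inf h
  rw [← Core.card_mul_relIndex (le_sup_left : H ≤ H ⊔ N), mul_assoc,
    ← Core.card_inf_mul_relIndex H N, mul_comm (Nat.card ↥(H ⊓ N))] at h3
  exact Nat.eq_of_mul_eq_mul_right Nat.card_pos (Nat.eq_of_mul_eq_mul_left Nat.card_pos h3)

theorem SylIn.inf_normal [Finite G] {P N H : Subgroup G} (h : SylIn p P H) (h1 : N ≤ H)
    (h2 : P ≤ normalizer (N : Set G)) : SylIn p (P ⊓ N) N := by
  refine ⟨inf_le_right, h.pg.to_inf_left, ?_⟩
  rw [inf_relIndex_right, ← relIndex_sup_left' h2]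
  exact (h.restrict le_sup_left (sup_le h.le h1)).idx

theorem SylIn.map {G' : Type*} [Group G'] (f : G →* G') {P H : Subgroup G}
    (h : SylIn p P H) : SylIn p (P.map f) (H.map f) := by
  refine ⟨map_mono h.le, h.pg.map f, fun hd => h.idx (hd.trans ?_)⟩
  have h1 := index_map_dvd (P.subgroupOf H) (f.subgroupMap_surjective H)
  have h2 : (P.subgroupOf H).map (f.subgroupMap H) = (P.map f).subgroupOf (H.map f) := by
    ext ⟨y, hy⟩
    simp only [mem_map, mem_subgroupOf, Subtype.exists]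
    constructor
    · rintro ⟨a, ha, h1, h2⟩
      exact ⟨a, h1, congrArg Subtype.val h2⟩
    · rintro ⟨a, ha, rfl⟩
      exact ⟨a, h.le ha, ha, rfl⟩
  rwa [h2] at h1

theorem SylIn.conj_self {P H : Subgroup G} (h : SylIn p P H) {g : G}
    (hg : g ∈ normalizer (H : Set G)) : SylIn p (P.map (MulAut.conj g).toMonoidHom) H := by
  have := h.map (MulAut.conj g).toMonoidHom
  rwa [map_conj_eq_of_mem_normalizer hg] at this

/-- Frattini argument -/
theorem SylIn.frattini [Finite G] [Fact p.Prime] {P N : Subgroup G} (h : SylIn p P N) {g : G}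
    (hg : g ∈ normalizer (N : Set G)) : ∃ n ∈ N, n * g ∈ normalizer (P : Set G) := by
  obtain ⟨n, hn, e⟩ := (h.conj_self hg).conj h
  exact ⟨n, hn, mem_normalizer_of_map_conj_eq (by rw [← map_conj_map_conj, e])⟩

theorem SylIn.frattini' [Finite G] [Fact p.Prime] {P N H : Subgroup G} (h : SylIn p P N)
    (hN : N ≤ H) (hH : H ≤ normalizer (N : Set G)) : H = N ⊔ (H ⊓ normalizer (P : Set G)) := by
  refine le_antisymm (fun g hg => ?_) (sup_le hN inf_le_left)
  obtain ⟨n, hn, h1⟩ := h.frattini (hH hg)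
  have : g = n⁻¹ * (n * g) := by group
  rw [this]
  exact mul_mem_sup (inv_mem hn) ⟨mul_mem (hN hn) hg, h1⟩

theorem SylIn.le_conj [Finite G] [Fact p.Prime] {P Q H : Subgroup G} (hP : SylIn p P H)
    (h1 : Q ≤ H) (hQ : IsPGroup p Q) : ∃ h ∈ H, Q ≤ P.map (MulAut.conj h).toMonoidHom := by
  obtain ⟨R, hR1, hR2⟩ := exists_sylIn_ge h1 hQ
  obtain ⟨h, hh, e⟩ := hP.conj hR2
  exact ⟨h, hh, e ▸ hR1⟩

theorem SylIn.Op_le [Finite G] [Fact p.Prime] {P H : Subgroup G} (hP : SylIn p P H) :
    Op p H ≤ P := by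
  obtain ⟨h, hh, e⟩ := hP.le_conj Comp.Op_le (Op_isPGroup H)
  have := map_mono (f := (MulAut.conj h⁻¹).toMonoidHom) e
  rwa [map_conj_map_conj, inv_mul_cancel, map_conj_one,
    map_conj_eq_of_mem_normalizer (Op_normal H (inv_mem hh))] at this

theorem SylIn.le_of_normal [Finite G] [Fact p.Prime] {P Q H : Subgroup G} (hP : SylIn p P H)
    (h1 : Q ≤ H) (h2 : P ≤ normalizer (Q : Set G)) (hQ : IsPGroup p Q) : Q ≤ P :=
  le_sup_right.trans (hP.eq_of_le le_sup_left (sup_le hP.le h1)
    (hP.pg.to_sup_of_normal_right' hQ h2)).le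

theorem SylIn.eq_bot_iff [Finite G] [Fact p.Prime] {P H : Subgroup G} (hP : SylIn p P H) :
    P = ⊥ ↔ (Nat.card H).Coprime p := by
  constructor
  · rintro rfl
    have := hP.idx
    rw [relIndex_bot_left] at this
    exact ((Nat.Prime.coprime_iff_not_dvd Fact.out).2 this).symm
  · intro h
    exact eq_bot_of_pgroup_coprime hP.pg (coprime_card_of_le hP.le h)

theorem sylIn_sup_coprime [Finite G] [Fact p.Prime] {P N : Subgroup G} (hP : IsPGroup p P)
    (h : P ≤ normalizer (N : Set G)) (hN : (Nat.card N).Coprime p) : SylIn p P (P ⊔ N) := by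
  refine ⟨le_sup_left, hP, fun hd => ?_⟩
  rw [relIndex_sup_left' h] at hd
  exact (Fact.out : p.Prime).ne_one
    (Nat.Coprime.eq_one_of_dvd hN.symm (hd.trans (relIndex_dvd_card P N)))

theorem coprime_iff_not_dvd' [Fact p.Prime] {n : ℕ} : n.Coprime p ↔ ¬ p ∣ n := by
  rw [Nat.coprime_comm]; exact Nat.Prime.coprime_iff_not_dvd Fact.out

theorem inf_eq_bot_of_pgroup_coprime [Finite G] [Fact p.Prime] {A B : Subgroup G}
    (h1 : IsPGroup p A) (h2 : (Nat.card B).Coprime p) : A ⊓ B = ⊥ :=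
  eq_bot_of_pgroup_coprime h1.to_inf_left (coprime_card_of_le inf_le_right h2)

section lift
variable {G' : Type*} [Group G'] (f : G →* G')

theorem coprime_card_of_map {A : Subgroup G} {n : ℕ} (h1 : (Nat.card (A.map f)).Coprime n)
    (h2 : (Nat.card ↥(A ⊓ f.ker)).Coprime n) : (Nat.card A).Coprime n := by
  rw [← Core.card_map_mul_card_inf_ker A f]; exact Nat.Coprime.mul_left h1 h2

theorem isPGroup_of_map {A : Subgroup G} (h1 : IsPGroup p (A.map f))
    (h2 : IsPGroup p ↥(A ⊓ f.ker)) : IsPGroup p A := by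
  rw [Core.isPGroup_iff_mem] at *
  intro x hx
  obtain ⟨k, hk⟩ := h1 _ (mem_map_of_mem f hx)
  obtain ⟨l, hl⟩ := h2 (x ^ p ^ k) ⟨pow_mem hx _, by simpa using hk⟩
  exact ⟨k + l, by rw [pow_add, pow_mul, hl]⟩

theorem solvable_of_map {A : Subgroup G} (h1 : Group.IsSolvable (A.map f))
    (h2 : Group.IsSolvable ↥(A ⊓ f.ker)) : Group.IsSolvable A :=
  Group.isSolvable_of_ker_le_range (inclusion (inf_le_left : A ⊓ f.ker ≤ A)) (f.subgroupMap A) (by
    rintro ⟨x, hx⟩ h
    exact ⟨⟨x, hx, congrArg Subtype.val h⟩, rfl⟩)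

theorem exists_mul_mem_normalizer [Finite G] [Fact p.Prime] (hk : (Nat.card f.ker).Coprime p)
    {P : Subgroup G} (hP : IsPGroup p P) {x : G} (hx : f x ∈ normalizer (P.map f : Set G')) :
    ∃ n ∈ f.ker, n * x ∈ normalizer (P : Set G) := by
  have h1 : x ∈ normalizer ((P ⊔ f.ker : Subgroup G) : Set G) := by
    rw [← comap_map_eq]; exact le_normalizer_comap f hx
  obtain ⟨n, hn, h2⟩ := (sylIn_sup_coprime hP le_normalizer_of_normal hk).frattini h1
  obtain ⟨a, ha, b, hb, rfl⟩ := mem_sup_of_normal_right.1 hn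
  refine ⟨b, hb, ?_⟩
  have := mul_mem (inv_mem (le_normalizer ha)) h2
  simpa [mul_assoc] using this

theorem map_normalizer_eq [Finite G] [Fact p.Prime] (hf : Function.Surjective f)
    (hk : (Nat.card f.ker).Coprime p) {P : Subgroup G} (hP : IsPGroup p P) :
    (normalizer (P : Set G)).map f = normalizer (P.map f : Set G') := by
  refine le_antisymm (le_normalizer_map f) fun y hy => ?_
  obtain ⟨x, rfl⟩ := hf y
  obtain ⟨n, hn, h⟩ := exists_mul_mem_normalizer f hk hP hy
  exact ⟨n * x, h, by rw [map_mul, MonoidHom.mem_ker.1 hn, one_mul]⟩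

theorem mem_centralizer_of_map [Finite G] [Fact p.Prime] (hk : (Nat.card f.ker).Coprime p)
    {P : Subgroup G} (hP : IsPGroup p P) {x : G} (h1 : x ∈ normalizer (P : Set G))
    (hx : f x ∈ centralizer (P.map f : Set G')) : x ∈ centralizer (P : Set G) := by
  intro a ha
  have h2 : x * a * x⁻¹ * a⁻¹ ∈ P ⊓ f.ker := by
    refine ⟨P.mul_mem ((mem_normalizer_iff.1 h1 a).1 ha) (P.inv_mem ha), ?_⟩
    have := hx (f a) (mem_map_of_mem f ha)
    change f _ = 1
    simp only [map_mul, map_inv]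
    rw [← this]; group
  rw [inf_eq_bot_of_pgroup_coprime hP hk, mem_bot] at h2
  calc a * x = (x * a * x⁻¹ * a⁻¹)⁻¹ * (x * a) * (a⁻¹ * x⁻¹ * a * x) * (x⁻¹ * a⁻¹ * x * a) := by group
    _ = (x * a * x⁻¹ * a⁻¹)⁻¹ * (x * a) := by group
    _ = x * a := by rw [h2]; group

theorem map_centralizer_eq [Finite G] [Fact p.Prime] (hf : Function.Surjective f)
    (hk : (Nat.card f.ker).Coprime p) {P : Subgroup G} (hP : IsPGroup p P) :
    (centralizer (P : Set G)).map f = centralizer (P.map f : Set G') := by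
  refine le_antisymm (map_centralizer_le_centralizer_image _ f) fun y hy => ?_
  obtain ⟨x, rfl⟩ := hf y
  obtain ⟨n, hn, h⟩ := exists_mul_mem_normalizer f hk hP (centralizer_le_normalizer _ hy)
  have e : f (n * x) = f x := by rw [map_mul, MonoidHom.mem_ker.1 hn, one_mul]
  exact ⟨n * x, mem_centralizer_of_map f hk hP h (e ▸ hy), e⟩

end lift

theorem centralizer_zpowers (a : G) : centralizer ((zpowers a : Subgroup G) : Set G) =
    centralizer {a} := by
  rw [zpowers_eq_closure, centralizer_closure]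

theorem isPGroup_zpowers {a : G} {k : ℕ} (h : a ^ p ^ k = 1) : IsPGroup p (zpowers a) := by
  refine IsPGroup.of_card_dvd_pow (n := k) ?_
  rw [Nat.card_zpowers]; exact orderOf_dvd_of_pow_eq_one h

theorem isPGroup_zpowers_of_orderOf {a : G} (h : orderOf a = p) : IsPGroup p (zpowers a) :=
  isPGroup_zpowers (k := 1) (by rw [pow_one, ← h, pow_orderOf_eq_one])

theorem map_centralizer_singleton_eq [Finite G] [Fact p.Prime] {G' : Type*} [Group G']
    (f : G →* G') (hf : Function.Surjective f) (hk : (Nat.card f.ker).Coprime p) {a : G}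
    (ha : IsPGroup p (zpowers a)) : (centralizer {a}).map f = centralizer {f a} := by
  rw [← centralizer_zpowers, map_centralizer_eq f hf hk ha, MonoidHom.map_zpowers,
    centralizer_zpowers]

/-- a perfect group with central Sylow `p`-subgroup is a `p'`-group -/
theorem coprime_of_perfect_of_center [Finite G] [Fact p.Prime] {K Z : Subgroup G}
    (hK : ⁅K, K⁆ = K) (hZ : ⁅Z, K⁆ = ⊥) (hi : ¬ p ∣ Z.relIndex K) : (Nat.card K).Coprime p := by
  rw [coprime_iff_not_dvd']
  intro hd
  obtain ⟨x, hx⟩ := exists_prime_orderOf_dvd_card' (G := K) p hd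
  have h1 : Z.subgroupOf K ≤ center K := by
    intro z hz
    rw [mem_center_iff]
    intro g
    exact Subtype.ext (comm_bot_iff.1 hZ z hz g g.2).symm
  have h2 : ¬ p ∣ (center K).index := fun h => hi (h.trans (index_dvd_of_le h1))
  let φ : K →* K := (center K).subtype.comp (MonoidHom.transferCenterPow K)
  have h3 : (⊤ : Subgroup K).map φ ≤ center K := by
    rintro _ ⟨y, -, rfl⟩; exact (MonoidHom.transferCenterPow K y).2
  have h4 : (_root_.commutator K).map φ = ⊥ := by
    rw [_root_.commutator_def, map_commutator]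
    exact comm_bot_mono (commutator_center_left (H := ⊤)) h3 le_top
  rw [Subgroup.map_eq_bot_iff, Group.isPerfect_def.1 (isPerfect_iff.2 hK)] at h4
  have h5 : x ^ (center K).index = 1 := MonoidHom.mem_ker.1 (h4 (mem_top x))
  exact h2 (hx ▸ orderOf_dvd_of_pow_eq_one h5)

/-- a perfect group is generated by its `p'`-elements -/
theorem perfect_le_of_coprime_mem [Finite G] (p : ℕ) [Fact p.Prime] {K D : Subgroup G}
    (hK : ⁅K, K⁆ = K) (h : ∀ x ∈ K, (orderOf x).Coprime p → x ∈ D) : K ≤ D := by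
  let R : Subgroup K := closure {x : K | (orderOf x).Coprime p}
  have hR : R.Normal := by
    refine ⟨fun n hn g => ?_⟩
    have : R ≤ R.comap (MulAut.conj g).toMonoidHom := by
      refine (closure_le _).2 fun x hx => subset_closure ?_
      change (orderOf (MulAut.conj g x)).Coprime p
      rw [MulEquiv.orderOf_eq]; exact hx
    exact this hn
  have hp : IsPGroup p (K ⧸ R) := by
    intro y
    obtain ⟨x, rfl⟩ := QuotientGroup.mk'_surjective R y
    refine ⟨(orderOf x).factorization p, ?_⟩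
    rw [← map_pow, QuotientGroup.mk'_apply, QuotientGroup.eq_one_iff]
    refine subset_closure ?_
    change (orderOf _).Coprime p
    rw [orderOf_pow_of_dvd (pow_ne_zero _ (Fact.out : p.Prime).ne_zero) (Nat.ordProj_dvd _ _)]
    exact (Nat.coprime_ordCompl Fact.out (orderOf_pos x).ne').symm
  have : Group.IsPerfect K := isPerfect_iff.2 hK
  have h2 : R = ⊤ := by
    by_contra hne
    have : Nontrivial (K ⧸ R) := QuotientGroup.nontrivial_iff.2 hne
    exact Group.IsPerfect.not_isNilpotent (K ⧸ R) hp.isNilpotent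
  have h3 : R ≤ D.subgroupOf K := (closure_le _).2 fun x hx =>
    h x x.2 (by rw [Subgroup.orderOf_coe]; exact hx)
  intro x hx
  exact h3 (h2 ▸ mem_top (⟨x, hx⟩ : K))

theorem orderOf_coprime_of_mem {K : Subgroup G} {n : ℕ} (hK : (Nat.card K).Coprime n) {x : G}
    (hx : x ∈ K) : (orderOf x).Coprime n :=
  Nat.Coprime.coprime_dvd_left (K.orderOf_dvd_natCard hx) hK

/-- a `p`-subgroup lies in a subnormal subgroup of `p'`-index -/
theorem SubIn.pgroup_le [Finite G] [Fact p.Prime] {U Y P : Subgroup G} (h : SubIn U Y)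
    (hi : ¬ p ∣ U.relIndex Y) (hP : IsPGroup p P) (hle : P ≤ Y) : P ≤ U := by
  induction h with
  | refl => exact hle
  | @step K L H a b c ih =>
    rw [← relIndex_mul_relIndex K L H a c.le] at hi
    have h1 : P ≤ L := ih (fun h => hi (h.mul_left _)) hle
    have h2 : ¬ p ∣ K.relIndex L := fun h => hi (h.mul_right _)
    obtain ⟨T, hT⟩ := exists_sylIn p K
    have hT2 : SylIn p T L := ⟨hT.le.trans a, hT.pg, fun h => by
      rw [← relIndex_mul_relIndex T K L hT.le a] at h
      exact ((Fact.out : p.Prime).dvd_mul.1 h).elim hT.idx h2⟩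
    obtain ⟨g, hg, e⟩ := hT2.le_conj h1 hP
    exact e.trans (map_conj_le_of_mem hT.le (b hg))

end Cfsg.Agent.Comp
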