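import Cfsg.Agent.Comp.Conn
import Cfsg.Prelude.Def_ClassificationK

/-! `2`-groups with Frattini subgroup of order two, groups of symplectic type. -/

set_option autoImplicit false

namespace Cfsg.Agent.Comp

open Subgroup
open scoped commutatorElement Pointwise IsMulCommutative

variable {G : Type*} [Group G] [Finite G]

open Classical in
theorem sum_sign (x : G) (U : Subgroup G) [Fintype U]
    (h : ∀ u ∈ U, ∀ v ∈ U, x * u ≠ u * x → x * v ≠ v * x → x * (u * v) = u * v * x) :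
    ∑ u : U, (if x * u = u * x then (1 : ℤ) else -1) =
      if x ∈ centralizer (U : Set G) then (Nat.card U : ℤ) else 0 := by
  split_ifs with h1
  · rw [Finset.sum_congr rfl fun (u : U) _ => if_pos (h1 u u.2).symm]; simp
  · obtain ⟨v, v1, v2⟩ : ∃ v ∈ U, x * v ≠ v * x := by
      by_contra h2; push Not at h2; exact h1 fun v hv => (h2 v hv).symm
    have := Equiv.sum_comp (Equiv.mulRight (⟨v, v1⟩ : U))
      fun u : U => (if x * u = u * x then (1 : ℤ) else -1)
    have h3 : ∀ u : U, (if x * ((Equiv.mulRight (⟨v, v1⟩ : U) u : U) : G) =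
        (Equiv.mulRight (⟨v, v1⟩ : U) u : U) * x then (1 : ℤ) else -1) =
        -(if x * u = u * x then (1 : ℤ) else -1) := fun u => by
      change (if x * (u * v) = u * v * x then (1 : ℤ) else -1) = _
      by_cases e : x * u = u * x
      · rw [if_pos e, if_neg fun e' => v2 ?_]
        rwa [← mul_assoc, e, mul_assoc, mul_assoc, mul_right_inj] at e'
      · rw [if_neg e, if_pos (h u u.2 v v1 e v2), neg_neg]
    rw [Finset.sum_congr rfl fun u _ => h3 u, Finset.sum_neg_distrib] at this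
    omega

theorem card_pairing {X U : Subgroup G} {z : G} (hz : z * z = 1) (hX : z ∈ centralizer (X : Set G))
    (hU : z ∈ centralizer (U : Set G)) (h : ∀ x ∈ X, ∀ u ∈ U, x * u * x⁻¹ * u⁻¹ ∈ zpowers z) :
    Nat.card ↥(X ⊓ centralizer (U : Set G)) * Nat.card U =
      Nat.card ↥(U ⊓ centralizer (X : Set G)) * Nat.card X := by
  classical
  have := Fintype.ofFinite X
  have := Fintype.ofFinite U
  have k : ∀ x ∈ X, ∀ u ∈ U, x * u ≠ u * x → x * u = z * (u * x) := fun x hx u hu e => by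
    rcases (Inv.mem_zpowers_ord2 hz).1 (h x hx u hu) with h1 | h1
    · exact absurd (commutatorElement_eq_one_iff_mul_comm.1 h1) e
    · rw [← h1]; group
  have k2 : ∀ (A B : Subgroup G) [Fintype A], ∑ a : A, (if (a : G) ∈ centralizer (B : Set G) then
      (Nat.card B : ℤ) else 0) = Nat.card ↥(A ⊓ centralizer (B : Set G)) * Nat.card B := by
    intro A B _
    rw [inf_comm, ← Core.card_subgroupOf, Finset.sum_ite, Finset.sum_const_zero, add_zero,
      Finset.sum_const, nsmul_eq_mul,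
      Nat.card_eq_fintype_card (α := (centralizer (B : Set G)).subgroupOf A), Fintype.card_subtype]
    rfl
  have h1 : ∑ x : X, ∑ u : U, (if (x : G) * u = u * x then (1 : ℤ) else -1) = _ :=
    (Finset.sum_congr rfl fun (x : X) _ => sum_sign (x : G) U fun u hu v hv e1 e2 => by
      rw [← mul_assoc, k x x.2 u hu e1, mul_assoc, mul_assoc, k x x.2 v hv e2, ← mul_assoc u,
        hU u hu, mul_assoc, ← mul_assoc, hz, one_mul, mul_assoc]).trans (k2 X U)
  have h2 : ∑ u : U, ∑ x : X, (if (u : G) * x = x * u then (1 : ℤ) else -1) = _ :=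
    (Finset.sum_congr rfl fun (u : U) _ => sum_sign (u : G) X fun x hx y hy e1 e2 => by
      rw [mul_assoc, k y hy u u.2 e2.symm, ← mul_assoc x, hX x hx, mul_assoc z, ← mul_assoc x,
        k x hx u u.2 e1.symm, mul_assoc, ← mul_assoc z z, hz, one_mul, mul_assoc]).trans (k2 U X)
  rw [Finset.sum_comm] at h2
  simp only [eq_comm (b := (_ : X) * (_ : G))] at h2
  exact_mod_cast h1.symm.trans h2

/-- the squares of `Q` lie in `⟨z⟩` and `z` is the only central involution -/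
structure Ext (Q : Subgroup G) (z : G) : Prop where
  ord : orderOf z = 2
  mem : z ∈ Q
  cen : z ∈ centralizer (Q : Set G)
  sq : ∀ q ∈ Q, q * q ∈ zpowers z
  uniq : ∀ c ∈ Q, c ∈ centralizer (Q : Set G) → c * c = 1 → c ∈ zpowers z

namespace Ext

variable {Q : Subgroup G} {z : G}

omit [Finite G] in
theorem zz (h : Ext Q z) : z * z = 1 := Inv.sq_of_ord2 h.ord

omit [Finite G] in
theorem comm (h : Ext Q z) {a b : G} (ha : a ∈ Q) (hb : b ∈ Q) : a * b * a⁻¹ * b⁻¹ ∈ zpowers z :=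
  Inv.commutator_mem_of_sq h.sq ha hb

omit [Finite G] in
theorem zle (h : Ext Q z) : zpowers z ≤ Q ⊓ centralizer (Q : Set G) := zpowers_le.2 ⟨h.mem, h.cen⟩

omit [Finite G] in
theorem conj_eq (h : Ext Q z) {a b : G} (ha : a ∈ Q) (hb : b ∈ Q) (hn : a * b ≠ b * a) :
    a * b * a⁻¹ = z * b := by
  rcases (Inv.mem_zpowers_ord2 h.zz).1 (h.comm ha hb) with h1 | h1
  · exact absurd (commutatorElement_eq_one_iff_mul_comm.1 h1) hn
  · rw [← h1]; group

theorem card_mul (h : Ext Q z) {U : Subgroup G} (h1 : U ≤ Q)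
    (h2 : Q ⊓ centralizer (Q : Set G) ≤ U) :
    Nat.card ↥(Q ⊓ centralizer (U : Set G)) * Nat.card U =
      Nat.card ↥(Q ⊓ centralizer (Q : Set G)) * Nat.card Q := by
  rw [card_pairing h.zz h.cen (centralizer_le h1 h.cen) fun x hx u hu => h.comm hx (h1 hu),
    le_antisymm (inf_le_inf_right _ h1) (le_inf h2 inf_le_right)]

theorem double (h : Ext Q z) {U : Subgroup G} (h1 : U ≤ Q) (h2 : Q ⊓ centralizer (Q : Set G) ≤ U) :
    Q ⊓ centralizer ((Q ⊓ centralizer (U : Set G) : Subgroup G) : Set G) = U := by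
  have a1 := h.card_mul h1 h2
  have a2 := h.card_mul (U := Q ⊓ centralizer (U : Set G)) inf_le_left
    (inf_le_inf_left _ (centralizer_le h1))
  rw [← a1, mul_comm] at a2
  exact (eq_of_le_of_card_ge (le_inf h1 (le_centralizer_iff.1 inf_le_right))
    (Nat.eq_of_mul_eq_mul_left Nat.card_pos a2).le).symm

omit [Finite G] in
theorem cj (h : Ext Q z) (g : G) : Ext (PLoc.cj g Q) (g * z * g⁻¹) := by
  refine ⟨(Inv.orderOf_conj' g z).trans h.ord, PLoc.conj_mem_cj.2 h.mem, ?_, ?_, ?_⟩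
  · rw [← PLoc.cj_centralizer]; exact PLoc.conj_mem_cj.2 h.cen
  · rintro _ ⟨q, hq, rfl⟩
    rw [← map_mul, ← PLoc.cj_zpowers]; exact mem_map_of_mem _ (h.sq q hq)
  · rintro _ ⟨q, hq, rfl⟩ h1 h2
    rw [← PLoc.cj_centralizer] at h1
    rw [← PLoc.cj_zpowers]
    exact mem_map_of_mem _ (h.uniq q hq (PLoc.conj_mem_cj.1 h1)
      (map_conj_inj (g := g) (by rw [map_mul, h2, map_one])))

omit [Finite G] in
theorem fix (h : Ext Q z) {x y : G} (hx : x * z = z * x) (hy : y ∈ zpowers z) :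
    x * y * x⁻¹ = y := by
  rcases (Inv.mem_zpowers_ord2 h.zz).1 hy with rfl | rfl
  · simp
  · rw [hx, mul_inv_cancel_right]

omit [Finite G] in
/-- if `x` fixes `a` modulo the centre then `[x, Q]` centralizes `a` -/
theorem comm_commute (h : Ext Q z) {x a q : G} (hx : x ∈ normalizer (Q : Set G))
    (hxz : x * z = z * x) (ha : a ∈ Q) (hq : q ∈ Q)
    (h1 : x * a * x⁻¹ * a⁻¹ ∈ centralizer (Q : Set G)) :
    a * (x * q * x⁻¹ * q⁻¹) = x * q * x⁻¹ * q⁻¹ * a := by
  have a1 := h.fix hxz (h.comm (inv_mem hq) ha)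
  have a2 := h1 _ ((mem_normalizer_iff.1 hx q).1 hq)
  have a3 := h1 a ha
  set e := x * a * x⁻¹ * a⁻¹ with he
  have a4 : x * a * x⁻¹ = e * a := by rw [he]; group
  set r := x * q * x⁻¹ with hr
  have a5 : r⁻¹ * a * r * a⁻¹ = q⁻¹ * a * q * a⁻¹ := by
    calc _ = r⁻¹ * (e * a) * r * (e * a)⁻¹ := by
            rw [show r⁻¹ * (e * a) * r = r⁻¹ * (e * (a * r)) by group, ← mul_assoc e, ← a3,
              mul_assoc a, ← a2]; group
      _ = x * (q⁻¹ * a * q⁻¹⁻¹ * a⁻¹) * x⁻¹ := by rw [← a4, hr]; group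
      _ = _ := by rw [a1, inv_inv]
  calc _ = r * (r⁻¹ * a * r * a⁻¹) * a * q⁻¹ := by group
    _ = _ := by rw [a5]; group

omit [Finite G] in
theorem mem_cent_of_commute (h : Ext Q z) {x a : G} (hx : x ∈ normalizer (Q : Set G))
    (hxz : x * z = z * x) (ha : a ∈ Q)
    (h1 : ∀ q ∈ Q, a * (x * q * x⁻¹ * q⁻¹) = x * q * x⁻¹ * q⁻¹ * a) :
    x * a * x⁻¹ * a⁻¹ ∈ centralizer (Q : Set G) := by
  have a0 : a⁻¹ * (x * a * x⁻¹) ∈ centralizer (Q : Set G) := fun r hr => by
    obtain ⟨q, hq, rfl⟩ : ∃ q ∈ Q, r = (x * q * x⁻¹)⁻¹ :=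
      ⟨x⁻¹ * r⁻¹ * x, (mem_normalizer_iff''.1 hx _).1 (inv_mem hr), by group⟩
    have a1 := h.fix hxz (h.comm (inv_mem hq) ha)
    have a2 := h1 q hq
    set s := x * q * x⁻¹ with hs
    set b := x * a * x⁻¹ with hb
    have a3 : s⁻¹ * b * s * b⁻¹ = s⁻¹ * a * s * a⁻¹ := by
      calc _ = x * (q⁻¹ * a * q⁻¹⁻¹ * a⁻¹) * x⁻¹ := by rw [hs, hb]; group
        _ = s⁻¹ * (s * q⁻¹ * a) * q * a⁻¹ := by rw [a1]; group
        _ = _ := by rw [← a2]; group
    calc _ = (s⁻¹ * a * s)⁻¹ * (s⁻¹ * b * s * b⁻¹) * b * s⁻¹ := by group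
      _ = _ := by rw [a3]; group
  have := a0 a ha
  rwa [show x * a * x⁻¹ * a⁻¹ = a * (a⁻¹ * (x * a * x⁻¹)) * a⁻¹ by group, this,
    mul_inv_cancel_right]

theorem inner (h : Ext Q z) {t : G} (htz : t * z = z * t)
    (h1 : ∀ q ∈ Q, t * q * t⁻¹ * q⁻¹ ∈ zpowers z)
    (h2 : t ∈ centralizer ((Q ⊓ centralizer (Q : Set G) : Subgroup G) : Set G)) :
    t ∈ Q ⊔ centralizer (Q : Set G) := by
  let K : Subgroup G :=
    { carrier := {x | x * z = z * x ∧ ∀ q ∈ Q, x * q * x⁻¹ * q⁻¹ ∈ zpowers z}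
      one_mem' := ⟨by simp, by simp⟩
      mul_mem' := fun {x y} hx hy => ⟨Commute.mul_left hx.1 hy.1, fun q hq => by
        have := mul_mem ((h.fix hx.1 (hy.2 q hq)).symm ▸ hy.2 q hq :
          x * (y * q * y⁻¹ * q⁻¹) * x⁻¹ ∈ zpowers z) (hx.2 q hq)
        convert this using 1; group⟩
      inv_mem' := fun {x} hx => ⟨Commute.inv_left hx.1, fun q hq => by
        have := h.fix (Commute.inv_left hx.1) (inv_mem (hx.2 q hq))
        rw [show x⁻¹ * q * x⁻¹⁻¹ * q⁻¹ = x⁻¹ * (x * q * x⁻¹ * q⁻¹)⁻¹ * x⁻¹⁻¹ by group, this]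
        exact inv_mem (hx.2 q hq)⟩ }
  have hX : Q ⊔ zpowers t ≤ K :=
    sup_le (fun q hq => ⟨h.cen q hq, fun r hr => h.comm hq hr⟩) (zpowers_le.2 ⟨htz, h1⟩)
  have a1 := card_pairing h.zz (fun x hx => (hX hx).1) h.cen fun x hx => (hX hx).2
  have a2 : Q ⊓ centralizer ((Q ⊔ zpowers t : Subgroup G) : Set G) = Q ⊓ centralizer (Q : Set G) := by
    rw [centralizer_sup]
    exact le_antisymm (inf_le_inf_left _ inf_le_left) (le_inf inf_le_left (le_inf inf_le_right
      (le_centralizer_iff.1 (zpowers_le.2 h2))))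
  have a3 := Core.card_sup_mul_card_inf (H := (Q ⊔ zpowers t) ⊓ centralizer (Q : Set G)) (N := Q)
    (inf_le_right.trans (centralizer_le_normalizer _))
  rw [a1, a2, le_antisymm (le_inf inf_le_right (inf_le_left.trans inf_le_right))
    (le_inf (inf_le_inf_right _ le_sup_left) inf_le_left), mul_comm] at a3
  have a4 := eq_of_le_of_card_ge (sup_le inf_le_left le_sup_left)
    (Nat.eq_of_mul_eq_mul_left Nat.card_pos a3).ge
  exact (sup_le (inf_le_right.trans le_sup_right) le_sup_left :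
    _ ≤ Q ⊔ centralizer (Q : Set G)) (a4.ge (mem_sup_right (mem_zpowers t)))

/-- the commutator `[x, Q]` for an involution `x` -/
theorem comm_struct (h : Ext Q z) {x : G} (hx : x ∈ normalizer (Q : Set G))
    (hxz : x * z = z * x) (h2 : x * x = 1) {B : Subgroup G}
    (hB : ∀ q, q ∈ B ↔ q ∈ Q ∧ x * q * x⁻¹ * q⁻¹ ∈ zpowers z) :
    Q ⊓ centralizer (B : Set G) = closure ((fun q => x * q * x⁻¹ * q⁻¹) '' (Q : Set G)) ⊔
      (Q ⊓ centralizer (Q : Set G)) ∧ Q ⊓ centralizer (B : Set G) ≤ B := by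
  set D := closure ((fun q => x * q * x⁻¹ * q⁻¹) '' (Q : Set G))
  have hc : ∀ q ∈ Q, x * q * x⁻¹ ∈ Q := fun q hq => (mem_normalizer_iff.1 hx q).1 hq
  have hi : x⁻¹ = x := inv_eq_of_mul_eq_one_right h2
  have k1 : ∀ q ∈ Q, x * q * x⁻¹ * q⁻¹ ∈ centralizer (Q : Set G) → q ∈ B := fun q hq h1 => by
    refine (hB q).2 ⟨hq, h.uniq _ (mul_mem (hc q hq) (inv_mem hq)) h1 ?_⟩
    have a1 := h.fix hxz (h.sq q hq)
    have a2 := h1 q hq
    set c := x * q * x⁻¹ * q⁻¹ with hc
    calc _ = c * (q * c) * q⁻¹ := by rw [a2]; group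
      _ = x * (q * q) * x⁻¹ * (q * q)⁻¹ := by rw [hc]; group
      _ = 1 := by rw [a1, mul_inv_cancel]
  have k2 : D ≤ B := (closure_le _).2 (by
    rintro _ ⟨q, hq, rfl⟩
    have a1 := mul_mem (hc q hq) (inv_mem hq)
    refine (hB _).2 ⟨a1, ?_⟩
    convert inv_mem (h.sq _ a1) using 1
    calc _ = (x * x) * q * x⁻¹ * q⁻¹ * x⁻¹ * (x * q * x⁻¹ * q⁻¹)⁻¹ := by group
      _ = q * x * q⁻¹ * x⁻¹ * (x * q * x⁻¹ * q⁻¹)⁻¹ := by rw [h2, one_mul, hi]
      _ = _ := by group)
  have k3 : Q ⊓ centralizer (Q : Set G) ≤ B := fun c ⟨c1, c2⟩ => k1 c c1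
    (mul_mem ((mem_normalizer_iff.1 (centralizer_normalizer Q hx) c).1 c2) (inv_mem c2))
  have k4 : B ≤ Q := fun b hb => ((hB b).1 hb).1
  have k5 : Q ⊓ centralizer ((D ⊔ (Q ⊓ centralizer (Q : Set G)) : Subgroup G) : Set G) = B := by
    refine le_antisymm (fun a ⟨a1, a2⟩ => k1 a a1 (h.mem_cent_of_commute hx hxz a1 fun q hq =>
      (a2 _ (mem_sup_left (subset_closure ⟨q, hq, rfl⟩))).symm)) (le_inf k4 ?_)
    refine le_centralizer_iff.1 (sup_le ((closure_le _).2 ?_)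
      (inf_le_right.trans (centralizer_le k4)))
    rintro _ ⟨q, hq, rfl⟩ a ha
    exact h.comm_commute hx hxz (k4 ha) hq (h.zle ((hB a).1 ha).2).2
  have k6 := h.double (sup_le (k2.trans k4) inf_le_left) le_sup_right
  rw [k5] at k6
  exact ⟨k6, k6.le.trans (sup_le k2 k3)⟩

end Ext

theorem sympl_uniq (h : IsOfSymplecticType G) {z c : G} (hz : orderOf z = 2) (z1 : z ∈ center G)
    (c1 : c ∈ center G) (c2 : c * c = 1) : c ∈ zpowers z := by
  by_cases e : c = 1
  · exact e ▸ one_mem _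
  rw [Inv.invol_eq_of_isCyclic (h.2 _ inferInstance inferInstance) c1 z1
    (Inv.ord2_iff.2 ⟨c2, e⟩) hz]
  exact mem_zpowers z

theorem sympl_sq (h : IsOfSymplecticType G) (h4 : ∀ x : G, x ^ 4 = 1) {z : G} (hz : orderOf z = 2)
    (z1 : z ∈ center G) (x : G) : x * x ∈ zpowers z := by
  have := h.1.isNilpotent
  let N := closure (Set.range fun x : G => x * x)
  have hN : N.Characteristic := characteristic_iff_map_le.2 fun φ => by
    rw [MonoidHom.map_closure, closure_le]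
    rintro _ ⟨_, ⟨y, rfl⟩, rfl⟩
    exact subset_closure ⟨φ y, (map_mul φ y y).symm⟩
  have hc : IsCyclic ↥(N ⊓ centralizer (N : Set G)) := h.2 _ inferInstance
    (le_centralizer_iff_isMulCommutative.1 (inf_le_right.trans (centralizer_le inf_le_left)))
  obtain ⟨A, -, ⟨hAn, hAa, hAN⟩, hmax⟩ := Core.exists_maximal_ge
    (P := fun A : Subgroup G => A.Normal ∧ IsMulCommutative A ∧ A ≤ N) (H := ⊥)
    ⟨inferInstance, inferInstance, bot_le⟩
  have h1 : N ⊓ centralizer (A : Set G) ≤ A := by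
    by_contra h1
    obtain ⟨y, ⟨y1, y2⟩, y3, y4⟩ := Core.exists_mem_center_mod h1
    refine y3 ((hmax (A ⊔ zpowers y) ⟨?_, Core.isMulCommutative_sup hAa inferInstance
      (le_centralizer_iff.1 (zpowers_le.2 y2)), sup_le hAN (zpowers_le.2 y1)⟩ le_sup_left).le
      (mem_sup_right (mem_zpowers y)))
    rw [← normalizer_eq_top_iff, eq_top_iff, le_normalizer_iff_commutator_le_left]
    exact (comm_sup_left_le le_normalizer_of_normal le_normalizer_of_normal
      (commutator_le_left _ _) y4).trans le_sup_left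
  have h2 : IsCyclic A := by
    by_contra h2
    obtain ⟨q, a, b, hq, a1, b1, ha, hb, hb1, hab⟩ := Core.exists_pp_of_not_isCyclic hAa h2
    obtain rfl : q = 2 := by
      obtain ⟨n, hn⟩ := (IsPGroup.iff_orderOf.mp h.1) b
      rw [Core.orderOf_eq_prime_of_pow_eq_one hq hb hb1] at hn
      exact (Nat.prime_dvd_prime_iff_eq hq Nat.prime_two).mp (hq.dvd_of_dvd_pow (dvd_of_eq hn))
    have := PLoc.omegaOne_normal (e := 2) A
    obtain ⟨U, u1, u2, u3, u4⟩ := exists_normal_sq h.1 (PLoc.isEA_omegaOne hAa) (le_trans (by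
      rw [card_sup_zpowers_elemAb (elemAb_zpowers hb) ha (centralizer_le (zpowers_le.2 b1)
        (le_centralizer_iff_isMulCommutative.2 hAa a1)) hab, Nat.card_zpowers,
        orderOf_eq_prime hb hb1, sq]) (card_le_of_le
      (sup_le (zpowers_le.2 (PLoc.mem_omegaOne b1 hb)) (zpowers_le.2 (PLoc.mem_omegaOne a1 ha)))))
    obtain ⟨w, w1, w2, w3⟩ := exists_mem_center_elemAb h.1 (ne_bot_of_pow_le (by norm_num) u4.ge)
    refine elemAb_not_isCyclic u3 u4.ge (Subgroup.isCyclic_of_le (H' := N ⊓ centralizer (N : Set G)) (le_inf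
      (u1.trans ((PLoc.omegaOne_le A).trans hAN)) (le_centralizer_iff.1 ((closure_le _).2 ?_))))
    rintro _ ⟨y, rfl⟩
    exact Inv.kf_sq_mem_centralizer (Inv.kf_of_card u4 fun u hu => sq u ▸ u3.2 u hu) w1 w2
      (le_normalizer_of_normal (mem_top y)) (by rw [mem_center_iff.1 w3 y, mul_inv_cancel_right])
  have h3 : N ≤ centralizer (A : Set G) := (closure_le _).2 (by
    rintro _ ⟨y, rfl⟩
    obtain ⟨a, rfl⟩ := (Subgroup.isCyclic_iff_exists_zpowers_eq_top A).mp h2
    rw [SetLike.mem_coe, centralizer_zpowers, mem_centralizer_singleton_iff,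
      ← mul_inv_eq_iff_eq_mul]
    obtain ⟨k, hk⟩ := mem_zpowers_iff.1 (hAn.conj_mem a (mem_zpowers a) y)
    have a1 := Core.pow_conj_of_conj_eq_zpow hk.symm 2
    have a2 : ∀ m : ℤ, a ^ (4 * m) = 1 := fun m => by
      rw [zpow_mul, show a ^ (4 : ℤ) = 1 from (zpow_natCast a 4).trans (h4 a), one_zpow]
    change y * y * a * (y * y)⁻¹ = a
    rw [← sq, a1]
    rcases Int.even_or_odd' k with ⟨j, rfl | rfl⟩
    · rw [show (2 * j) ^ 2 = 4 * j ^ 2 by ring, a2] at a1 ⊢
      rw [mul_inv_eq_one, mul_eq_left] at a1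
      exact a1.symm
    · rw [show (2 * j + 1) ^ 2 = 4 * (j ^ 2 + j) + 1 by ring, zpow_add_one, a2, one_mul])
  have h5 : x * x ∈ A := h1 ⟨subset_closure ⟨x, rfl⟩, h3 (subset_closure ⟨x, rfl⟩)⟩
  have h6 : x * x * (x * x) = 1 := by rw [← h4 x]; simp only [pow_succ, pow_zero, one_mul, mul_assoc]
  refine sympl_uniq h hz z1 (mem_center_iff.2 fun g => mul_inv_eq_iff_eq_mul.1 ?_) h6
  by_cases e : x * x = 1
  · simp [e]
  exact Inv.invol_eq_of_isCyclic h2 (hAn.conj_mem _ h5 g) h5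
    ((Inv.orderOf_conj' _ _).trans (Inv.ord2_iff.2 ⟨h6, e⟩)) (Inv.ord2_iff.2 ⟨h6, e⟩)

theorem mem_FStar_centralizer (z : G) : z ∈ FStar (centralizer {z}) ⊓
    centralizer (FStar (centralizer ({z} : Set G)) : Set G) :=
  ⟨Fit_le_FStar (center_le_Fit le_rfl le_normalizer ⟨mem_centralizer_singleton_iff.2 rfl,
    fun _ hg => mem_centralizer_singleton_iff.1 hg⟩),
    fun _ hg => mem_centralizer_singleton_iff.1 (FStar_le hg)⟩

theorem centralizer_FStar_centralizer_le (z : G) :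
    centralizer (FStar (centralizer ({z} : Set G)) : Set G) ≤ FStar (centralizer {z}) :=
  fun _ hg => centralizer_FStar_le _
    ⟨mem_centralizer_singleton_iff.2 (hg z (mem_FStar_centralizer z).1).symm, hg⟩

theorem sympl_congr {H : Type*} [Group H] (e : G ≃* H) (h : IsOfSymplecticType G) :
    IsOfSymplecticType H := by
  refine ⟨h.1.of_equiv e, fun A h1 h2 => ?_⟩
  have := h.2 (A.comap e.toMonoidHom) (characteristic_iff_le_comap.2 fun φ x hx => by
    have := characteristic_iff_le_comap.1 h1 ((e.symm.trans φ).trans e) hx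
    simpa using this) ⟨⟨fun a b => Subtype.ext (e.injective (by
      rw [coe_mul, coe_mul, map_mul, map_mul]
      exact congrArg Subtype.val (h2.is_comm.comm ⟨_, a.2⟩ ⟨_, b.2⟩)))⟩⟩
  exact isCyclic_of_surjective (e.toMonoidHom.subgroupComap A)
    (e.toMonoidHom.subgroupComap_surjective_of_surjective A e.surjective)

/-- the isomorphism between the two forms of the generalized Fitting subgroup -/
noncomputable def fstarEquiv (H : Subgroup G) : generalizedFittingSubgroup H ≃* FStar H :=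
  (equivMapOfInjective _ _ H.subtype_injective).trans (MulEquiv.subgroupCongr (FStar_eq H))

theorem extraspecial_congr {H : Type*} [Group H] (e : G ≃* H) {p : ℕ} (h : IsExtraspecial p G) :
    IsExtraspecial p H := by
  have h1 : (center G).map e.toMonoidHom = center H := by
    ext x
    simp only [mem_map_equiv, mem_center_iff]
    exact ⟨fun h g => e.symm.injective (by rw [map_mul, map_mul, h]),
      fun h g => e.injective (by simp [h])⟩
  refine ⟨⟨h.1.1.of_equiv e, ?_, ?_⟩, ?_⟩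
  · rw [← h1, ← h.1.2.1]
    refine le_antisymm (fun x hx => ⟨e.symm x, ?_, by simp⟩) (map_le_iff_le_comap.2
      (frattini_le_comap_frattini_of_surjective e.surjective))
    exact frattini_le_comap_frattini_of_surjective (φ := e.symm.toMonoidHom) e.symm.surjective hx
  · rw [← h1, ← h.1.2.2, commutator_def, commutator_def, map_commutator,
      map_top_of_surjective _ e.surjective]
  · rw [← h1, card_map_of_injective e.injective, h.2]

theorem ext_of_sympl {Q : Subgroup G} {z : G} (hz : orderOf z = 2) (h : IsOfSymplecticType Q)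
    (h1 : z ∈ Q ⊓ centralizer (Q : Set G))
    (h2 : (∀ q ∈ Q, q ^ 4 = 1) ∨ IsExtraspecial 2 Q) : Ext Q z := by
  have z1 : (⟨z, h1.1⟩ : Q) ∈ center Q := mem_center_iff.2 fun g => Subtype.ext (h1.2 g g.2)
  have z2 : orderOf (⟨z, h1.1⟩ : Q) = 2 := by rw [← orderOf_coe, hz]
  have k : ∀ c : Q, c ∈ zpowers (⟨z, h1.1⟩ : Q) → (c : G) ∈ zpowers z := by
    rintro _ ⟨k, rfl⟩; exact ⟨k, rfl⟩
  refine ⟨hz, h1.1, h1.2, fun q hq => k _ (sympl_sq h (fun x => ?_) z2 z1 ⟨q, hq⟩), fun c c1 c2 c3 =>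
    k _ (sympl_uniq h (c := ⟨c, c1⟩) z2 z1 (mem_center_iff.2 fun g => Subtype.ext (c2 g g.2))
      (Subtype.ext c3))⟩
  rcases h2 with h2 | h2
  · exact Subtype.ext (h2 x x.2)
  · have := Core.pow_mem_frattini_of_isPGroup h.1 x
    rw [h2.1.2.1] at this
    have h3 := pow_card_eq_one' (x := (⟨_, this⟩ : center Q))
    rw [h2.2] at h3
    exact (pow_mul x 2 2).trans (congrArg Subtype.val h3)

theorem ext_of_extraspecial {Q : Subgroup G} (h : IsExtraspecial 2 Q) :
    ∃ z, Ext Q z ∧ Q ⊓ centralizer (Q : Set G) = zpowers z := by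
  have h1 : Nat.card ↥(Q ⊓ centralizer (Q : Set G)) = 2 := by
    rw [← center_map_subtype, card_subtype, h.2]
  obtain ⟨z, z1, z2⟩ := Inv.exists_involution_mem (H := Q ⊓ centralizer (Q : Set G))
    (h1 ▸ even_two)
  have e : zpowers z = Q ⊓ centralizer (Q : Set G) :=
    eq_of_le_of_card_ge (zpowers_le.2 z1) (by rw [h1, Nat.card_zpowers, z2])
  refine ⟨z, ⟨z2, z1.1, z1.2, fun q hq => ?_, fun c c1 c2 _ => e.ge ⟨c1, c2⟩⟩, e.symm⟩
  have := Core.pow_mem_frattini_of_isPGroup h.1.1 ⟨q, hq⟩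
  rw [h.1.2.1, sq] at this
  rw [e, ← center_map_subtype]
  exact ⟨_, this, rfl⟩

end Cfsg.Agent.Comp
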