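import Cfsg.Agent.Comp.Fact
import Cfsg.Agent.Inv.Two
import Cfsg.Agent.Core.Quaternion

/-! TI-subgroups of 2-groups and extraspecial-type duality. -/

set_option autoImplicit false

namespace Cfsg.Agent.Comp

open Subgroup
open scoped commutatorElement Pointwise

variable {G : Type*} [Group G] [Finite G]

/-- counting lemma for TI subgroups -/
theorem comm_bot_of_ti {A B : Subgroup G} (hle : Nat.card A ≤ Nat.card B) (hAB : A ⊓ B = ⊥)
    (hN : B ≤ normalizer (A : Set G))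
    (hti : ∀ a ∈ A, ∀ b ∈ B, b ≠ 1 → a * b = b * a → a ∈ normalizer (B : Set G)) :
    ⁅A, B⁆ = ⊥ := by
  have h1 : A ≤ normalizer (B : Set G) := by
    intro a ha
    by_contra hn
    have ha1 : a ≠ 1 := fun e => hn (e ▸ one_mem _)
    let f : B → {x : A // x ≠ 1} := fun b => ⟨⟨b * a * b⁻¹, le_normalizer_iff_mem.1 hN b b.2 a ha⟩,
      fun e => ha1 (by simpa using congrArg Subtype.val e)⟩
    have hf : Function.Injective f := fun b c e => by
      by_contra hbc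
      have e1 : (b : G) * a * (b : G)⁻¹ = c * a * (c : G)⁻¹ := congrArg (fun x => (x.1 : G)) e
      refine hn (hti a ha ((c : G)⁻¹ * b) (B.mul_mem (B.inv_mem c.2) b.2)
        (fun e => hbc (Subtype.ext (inv_mul_eq_one.1 e).symm)) ?_)
      calc a * ((c : G)⁻¹ * b) = (c : G)⁻¹ * (c * a * (c : G)⁻¹) * b := by group
        _ = _ := by rw [← e1]; group
    have h2 := Nat.card_le_card_of_injective f hf
    have h3 : Nat.card {x : A // x ≠ 1} < Nat.card A :=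
      Finite.card_subtype_lt (x := 1) (by simp)
    omega
  rw [eq_bot_iff, ← hAB]
  exact le_inf (le_normalizer_iff_commutator_le_left.1 hN)
    (le_normalizer_iff_commutator_le_right.1 h1)

omit [Finite G] in
theorem mem_normalizer_of_ti {B : Subgroup G} {a b : G}
    (h : B.map (MulAut.conj a).toMonoidHom = B ∨ B.map (MulAut.conj a).toMonoidHom ⊓ B = ⊥)
    (hb : b ∈ B) (h1 : b ≠ 1) (hc : a * b = b * a) : a ∈ normalizer (B : Set G) := by
  refine mem_normalizer_of_map_conj_eq (h.resolve_right fun e => h1 ?_)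
  rw [← mem_bot, ← e]
  exact ⟨mem_map_conj.2 (by rwa [mul_assoc, ← hc, inv_mul_cancel_left]), hb⟩

theorem aut_eq_one_of_sq {A : Type*} [CommGroup A] [Finite A] (hA : IsPGroup 2 A) (t : MulAut A)
    {k : ℕ} (ht : t ^ 2 ^ k = 1) (hC : ∀ a : A, t (t a) = a → t a = a) (a : A) : t a = a := by
  classical
  let f : A →* A := t.toMonoidHom / MonoidHom.id A
  have hf : ∀ x, f x = t x / x := fun _ => rfl
  by_contra hne
  have hB : f.range ≠ ⊥ := fun e => hne (div_eq_one.1 (mem_bot.1 (e ▸ ⟨a, rfl⟩ : f a ∈ ⊥)))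
  have hinv0 : ∀ x, t x ∈ f.range ↔ x ∈ f.range := fun x =>
    ⟨fun h => by simpa [hf] using f.range.div_mem h ⟨x, rfl⟩,
      fun h => by simpa [hf] using f.range.mul_mem (⟨x, rfl⟩ : f x ∈ f.range) h⟩
  have hinv : ∀ x, MulAut.toPerm A t x ∈ f.range ↔ x ∈ f.range := hinv0
  have := Fintype.ofFinite f.range
  have hd : 2 ∣ Fintype.card f.range := by
    rw [← Nat.card_eq_fintype_card]
    exact (hA.to_subgroup f.range).card_eq_or_dvd.resolve_left fun e => hB (card_eq_one.1 e)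
  obtain ⟨⟨b, hb⟩, h1, h2⟩ := Equiv.Perm.exists_fixed_point_of_prime' hd
    (σ := Equiv.Perm.subtypePerm (MulAut.toPerm A t) hinv) (n := k) (by
      rw [Equiv.Perm.subtypePerm_pow]
      ext x
      change (MulAut.toPerm A t ^ 2 ^ k) x = x
      rw [← map_pow, ht, map_one]; rfl) (a := 1) (Subtype.ext (map_one t))
  replace h1 : t b = b := congrArg Subtype.val h1
  replace h2 : b ≠ 1 := fun e => h2 (Subtype.ext e)
  obtain ⟨i, h3, h4⟩ := Core.exists_pow_not_mem_pow_mem hA (A := ⊥) (g := b) h2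
  obtain ⟨c, hc⟩ := f.range.pow_mem hb (2 ^ i)
  have h5 : t c = b ^ 2 ^ i * c := by rw [← hc, hf, div_mul_cancel]
  have h6 := hC c (by rw [h5, map_mul, map_pow, h1, h5, ← mul_assoc, ← sq, mem_bot.1 h4, one_mul])
  exact h3 (by rw [← hc, hf, h6, div_self']; exact one_mem _)

open scoped IsMulCommutative in
theorem centralizes_of_sq {B : Subgroup G} (hB : IsPGroup 2 B) (hc : IsMulCommutative B) {t : G}
    (ht : t ∈ normalizer (B : Set G)) {k : ℕ} (hk : t ^ 2 ^ k = 1)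
    (h : ∀ b ∈ B, t * t * b = b * (t * t) → t * b = b * t) : ∀ b ∈ B, t * b = b * t := by
  intro b hb
  have := aut_eq_one_of_sq hB (B.normalizerMonoidHom ⟨t, ht⟩) (k := k)
    (by rw [← map_pow]; exact (congrArg _ (Subtype.ext hk)).trans (map_one _))
    (fun a ha => Subtype.ext (mul_inv_eq_iff_eq_mul.2 (h a a.2 (by
      have : t * (t * a * t⁻¹) * t⁻¹ = a := congrArg Subtype.val ha
      conv_rhs => rw [← this]
      group)))) ⟨b, hb⟩
  exact mul_inv_eq_iff_eq_mul.1 (congrArg Subtype.val this)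

theorem exists_normal_ge {X R : Subgroup G} (hX : Group.IsNilpotent X) (h : R < X) :
    ∃ M, R ≤ M ∧ M < X ∧ X ≤ normalizer (M : Set G) := by
  obtain ⟨M, h1, h2, h3⟩ := Core.exists_maximal_ge (P := fun M => M < X) h
  refine ⟨M, h1, h2, ?_⟩
  have h4 := Core.lt_inf_normalizer_of_isNilpotent hX h2
  by_contra hn
  exact h4.ne' (h3 _ (lt_of_le_of_ne inf_le_left fun e => hn (inf_eq_left.1 e)) h4.le)

omit [Finite G] in
theorem exists_sq_ne_one {R N : Subgroup G} (h : ¬ R ≤ N) (h1 : ∀ r ∈ R, r ∉ N → r * r = 1)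
    (h2 : ∃ r ∈ R, r * r ≠ 1) (hR : IsPGroup 2 R) :
    (∀ r ∈ R, r ∉ N → ∀ n ∈ R, n ∈ N → r * n * r⁻¹ = n⁻¹) ∧
      ∃ n ∈ R, n ∈ N ∧ n * n ≠ 1 ∧ n * n * (n * n) = 1 := by
  refine ⟨fun r hr hrN n hn hnN => ?_, ?_⟩
  · have a1 := h1 r hr hrN
    have a2 := h1 (r * n) (R.mul_mem hr hn) fun e => hrN (by simpa using N.mul_mem e (N.inv_mem hnN))
    rw [inv_eq_of_mul_eq_one_right a1, eq_inv_iff_mul_eq_one, mul_assoc, a2]
  · obtain ⟨r, hr, h3⟩ := h2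
    obtain ⟨i, h4, h5⟩ := Core.exists_pow_not_mem_pow_mem hR (A := ⊥) (g := ⟨r * r, R.mul_mem hr hr⟩)
      fun e => h3 (congrArg Subtype.val (mem_bot.1 e))
    have e : r ^ 2 ^ i * r ^ 2 ^ i = (r * r) ^ 2 ^ i := ((Commute.refl r).mul_pow _).symm
    have h6 : r ^ 2 ^ i * r ^ 2 ^ i ≠ 1 := fun e' => h4 (mem_bot.2 (Subtype.ext (e.symm.trans e')))
    refine ⟨r ^ 2 ^ i, R.pow_mem hr _, ?_, h6, ?_⟩
    · by_contra h7
      exact h6 (h1 _ (R.pow_mem hr _) h7)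
    · rw [e, ← sq]; exact congrArg Subtype.val (mem_bot.1 h5)

/-- Aschbacher's lemma on TI families in 2-groups -/
theorem ti_family_comm {S : Subgroup G} (hS : IsPGroup 2 S) {Δ : Set (Subgroup G)}
    (hinv : ∀ s ∈ S, ∀ R ∈ Δ, R ≤ S → R.map (MulAut.conj s).toMonoidHom ∈ Δ)
    (hΦ : ∀ R ∈ Δ, ∃ r ∈ R, r * r ≠ 1) (hord : ∀ R ∈ Δ, ∀ T ∈ Δ, Nat.card R = Nat.card T)
    (hti : ∀ R ∈ Δ, ∀ T ∈ Δ, R = T ∨ R ⊓ T = ⊥) {X : Subgroup G} (hX : X ≤ S) :
    ∀ R ∈ Δ, ∀ T ∈ Δ, R ≤ X → T ≤ X → R ≠ T → ⁅R, T⁆ = ⊥ := by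
  induction X using WellFoundedLT.induction with | _ X ih => ?_
  have hXp := hS.to_le hX
  have k1 : ∀ R ∈ Δ, R ≤ X → ∀ x ∈ X, ∀ r ∈ R, r ≠ 1 → x * r = r * x →
      x ∈ normalizer (R : Set G) := fun R hR h x hx r hr h1 h2 =>
    mem_normalizer_of_ti (hti _ (hinv x (hX hx) R hR (h.trans hX)) R hR) hr h1 h2
  have k2 : ∀ R ∈ Δ, R < X → ∀ x ∈ X, x ∉ normalizer (R : Set G) → ∀ r ∈ R, ∀ s ∈ R,
      r * (x * s * x⁻¹) = x * s * x⁻¹ * r := fun R hR h x hx hn r hr s hs => by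
    obtain ⟨M, m1, m2, m3⟩ := exists_normal_ge hXp.isNilpotent h
    exact comm_bot_iff.1 (ih M m2 (m2.le.trans hX) R hR _ (hinv x (hX hx) R hR (h.le.trans hX)) m1
      (map_conj_le_of_mem m1 (m3 hx)) fun e => hn (mem_normalizer_of_map_conj_eq e.symm)) r hr _
      ⟨s, hs, rfl⟩
  have k3 : ∀ R ∈ Δ, ∀ T ∈ Δ, R ≤ X → T ≤ X → R ≠ T → R < X := fun R hR T hT h1 h2 h3 =>
    lt_of_le_of_ne h1 fun e => h3 (eq_of_le_of_card_ge (e ▸ h2) (hord R hR T hT).le).symm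
  have k4 : ∀ R ∈ Δ, ∀ T ∈ Δ, R ≤ X → T ≤ X → R ≠ T → T ≤ normalizer (R : Set G) →
      ⁅R, T⁆ = ⊥ := fun R hR T hT h1 h2 h3 h4 =>
    comm_bot_of_ti (hord R hR T hT).le ((hti R hR T hT).resolve_left h3) h4
      fun a ha b hb => k1 T hT h2 a (h1 ha) b hb
  have k5 : ∀ R ∈ Δ, ∀ T ∈ Δ, R ≤ X → T ≤ X → R ≠ T → ¬ T ≤ normalizer (R : Set G) →
      ∀ r ∈ R, r ∉ normalizer (T : Set G) → r * r = 1 := by
    intro R hR T hT h1 h2 h3 h4 r hr hn
    obtain ⟨y, hy, hyn⟩ := SetLike.not_le_iff_exists.1 h4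
    obtain ⟨i, a1, a2⟩ := Core.exists_pow_not_mem_pow_mem (hXp.to_le h2)
      (A := (normalizer (R : Set G)).subgroupOf T) (g := ⟨y, hy⟩) hyn
    replace a1 : y ^ 2 ^ i ∉ normalizer (R : Set G) := a1
    replace a2 : (y ^ 2 ^ i) ^ 2 ∈ normalizer (R : Set G) := a2
    have a3 := T.pow_mem hy (2 ^ i)
    generalize y ^ 2 ^ i = x at a1 a2 a3
    have b1 := k2 T hT (k3 T hT R hR h2 h1 h3.symm) r (h1 hr) hn x a3 x a3
    have b2 := k2 R hR (k3 R hR T hT h1 h2 h3) x (h2 a3) a1 r hr r hr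
    have b3 : x * (r * r) * x⁻¹ = x ^ 2 * r * (x ^ 2)⁻¹ * r := by
      calc x * (r * r) * x⁻¹ = (x * r * x⁻¹) * (x * r * x⁻¹) := by group
        _ = x * (r * x⁻¹ * r⁻¹) * (r * (x * r * x⁻¹)) := by group
        _ = x * (r * x⁻¹ * r⁻¹) * (x * r * x⁻¹ * r) := by rw [b2]
        _ = x * ((r * x * r⁻¹)⁻¹ * x) * r * x⁻¹ * r := by group
        _ = x * (x * (r * x * r⁻¹)⁻¹) * r * x⁻¹ * r := by
          rw [((show Commute x (r * x * r⁻¹) from b1).inv_right).eq]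
        _ = _ := by rw [sq]; group
    have b4 : x * (r * r) * x⁻¹ ∈ R.map (MulAut.conj x).toMonoidHom ⊓ R :=
      ⟨⟨_, R.mul_mem hr hr, rfl⟩, b3 ▸ R.mul_mem (le_normalizer_iff_mem.1 le_rfl _ a2 r hr) hr⟩
    rw [(hti _ (hinv x (hX (h2 a3)) R hR (h1.trans hX)) R hR).resolve_left
      fun e => a1 (mem_normalizer_of_map_conj_eq e), mem_bot] at b4
    simpa using b4
  intro R hR T hT h1 h2 h3
  by_cases h4 : T ≤ normalizer (R : Set G)
  · exact k4 R hR T hT h1 h2 h3 h4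
  by_cases h5 : R ≤ normalizer (T : Set G)
  · exact comm_bot_symm (k4 T hT R hR h2 h1 h3.symm h5)
  exfalso
  obtain ⟨c1, n, c2, c3, c4, c5⟩ := exists_sq_ne_one h5 (k5 R hR T hT h1 h2 h3 h4) (hΦ R hR)
    (hXp.to_le h1)
  obtain ⟨r, hr, hrn⟩ := SetLike.not_le_iff_exists.1 h5
  obtain ⟨x, hx, hxn⟩ := SetLike.not_le_iff_exists.1 h4
  have d0 := k2 R hR (k3 R hR T hT h1 h2 h3) x (h2 hx) hxn
  have c6 := R.mul_mem c2 c2
  have d1 : (n * n)⁻¹ * (x * (n * n) * x⁻¹) ∈ T := by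
    have := T.mul_mem (le_normalizer_iff_mem.1 le_rfl _ (inv_mem (mul_mem c3 c3)) x hx)
      (T.inv_mem hx)
    simpa only [inv_inv, mul_assoc] using this
  refine hrn (k1 T hT h2 r (h1 hr) _ d1 (fun e => hxn (k1 R hR h1 x (h2 hx) _ c6 c4 ?_)) ?_)
  · rw [inv_mul_eq_one, eq_mul_inv_iff_mul_eq] at e
    exact e.symm
  · have e1 : r * (n * n) * r⁻¹ = n * n := by
      rw [c1 r hr hrn _ c6 (mul_mem c3 c3), inv_eq_of_mul_eq_one_right c5]
    have e2 : Commute r (n * n) := mul_inv_eq_iff_eq_mul.1 e1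
    exact (e2.inv_right.mul_right (d0 r hr _ c6)).eq

theorem exists_sq_ne_one_of_frattini {R : Subgroup G} (h : frattini R ≠ ⊥) :
    ∃ r ∈ R, r * r ≠ 1 := by
  by_contra hn
  push Not at hn
  have h1 : ∀ a : R, a * a = 1 := fun a => Subtype.ext (hn a a.2)
  refine h (Core.frattini_eq_bot_of_isElementaryAbelian Nat.prime_two
    (elemAb_of (fun a _ b _ => ?_) fun a _ => by rw [sq, h1]))
  rw [← inv_eq_of_mul_eq_one_right (h1 (a * b)), mul_inv_rev, inv_eq_of_mul_eq_one_right (h1 a),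
    inv_eq_of_mul_eq_one_right (h1 b)]

end Cfsg.Agent.Comp
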